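import Mathlib

/-!
# The graph argument (helper926)

`L ≤ G × P` finite, `M ≤ pr₂ L` simple with `|L| ≤ |M|`: then `pr₁ L ≅ M` (or `pr₁ L = 1`).
Used to identify a group satisfying a presentation (`|L| ≤ N` for every group satisfying the relations) with an
explicit permutation group `M` of order `≥ N`.
-/

set_option autoImplicit false

namespace Cfsg.Agent.LargeExtra.W2.Graph

theorem iso_of_graph {G P : Type*} [Group G] [Group P] (L : Subgroup (G × P)) [Finite L] (M : Subgroup P)
    (hs : IsSimpleGroup M) (hM : M ≤ L.map (MonoidHom.snd G P)) (hc : Nat.card L ≤ Nat.card M)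
    (hne : L.map (MonoidHom.fst G P) ≠ ⊥) :
    Nat.card L = Nat.card M ∧ Nonempty (↥(L.map (MonoidHom.fst G P)) ≃* M) := by
  classical
  have f2 : Function.Surjective ((MonoidHom.snd G P).subgroupMap L) :=
    MonoidHom.subgroupMap_surjective _ _
  have : Finite (L.map (MonoidHom.snd G P)) := Finite.of_surjective _ f2
  have c1 : Nat.card (L.map (MonoidHom.snd G P)) ≤ Nat.card L := Nat.card_le_card_of_surjective _ f2
  have c2 : M = L.map (MonoidHom.snd G P) := Subgroup.eq_of_le_of_card_ge hM (c1.trans hc)
  have c3 : Nat.card M = Nat.card (L.map (MonoidHom.snd G P)) := by rw [← c2]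
  have b2 : Function.Bijective ((MonoidHom.snd G P).subgroupMap L) :=
    (Nat.bijective_iff_surjective_and_card _).2 ⟨f2, by omega⟩
  let e2 : L ≃* M := (MulEquiv.ofBijective _ b2).trans (MulEquiv.subgroupCongr c2.symm)
  have hL : IsSimpleGroup L := (MulEquiv.isSimpleGroup_congr e2).mpr hs
  have f1 : Function.Surjective ((MonoidHom.fst G P).subgroupMap L) :=
    MonoidHom.subgroupMap_surjective _ _
  have hk : (((MonoidHom.fst G P).subgroupMap L).ker).Normal := inferInstance
  refine ⟨Nat.card_congr e2.toEquiv, ?_⟩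
  rcases hk.eq_bot_or_eq_top with h | h
  · have i1 : Function.Injective ((MonoidHom.fst G P).subgroupMap L) := (MonoidHom.ker_eq_bot_iff _).1 h
    exact ⟨(MulEquiv.ofBijective _ ⟨i1, f1⟩).symm.trans e2⟩
  · exfalso
    apply hne
    rw [eq_bot_iff]
    rintro _ ⟨x, hx, rfl⟩
    have h1 : (⟨x, hx⟩ : L) ∈ ((MonoidHom.fst G P).subgroupMap L).ker := by rw [h]; trivial
    have h2 := congrArg Subtype.val (MonoidHom.mem_ker.1 h1)
    exact Subgroup.mem_bot.2 h2

/-- The pairs of two families of letters generate a subgroup which projects onto the subgroups generated by the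
letters. -/
theorem map_fst_closure {G P ι : Type*} [Group G] [Group P] (g : ι → G) (p : ι → P) (S : Set ι) :
    (Subgroup.closure ((fun t => (g t, p t)) '' S)).map (MonoidHom.fst G P) = Subgroup.closure (g '' S) := by
  rw [MonoidHom.map_closure, Set.image_image]
  rfl

theorem map_snd_closure {G P ι : Type*} [Group G] [Group P] (g : ι → G) (p : ι → P) (S : Set ι) :
    (Subgroup.closure ((fun t => (g t, p t)) '' S)).map (MonoidHom.snd G P) = Subgroup.closure (p '' S) := by
  rw [MonoidHom.map_closure, Set.image_image]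
  rfl

end Cfsg.Agent.LargeExtra.W2.Graph
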