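import Cfsg.Agent.LargeExtra.W2.PlusHom
import Cfsg.Agent.LargeExtra.TwoCentral
import Cfsg.Agent.LargeExtra.Local
import Cfsg.Agent.MTwelveType.SylowModel
import Cfsg.Agent.MTwelveType.Base
import Cfsg.Agent.J2Type.SimpleRed

/-!
# S1759, case F2: the Mathieu group of degree 12 (helper221)

`G` finite simple, `C_G(z) = (Q₈ ∘ Q₈) . S₃` with the diagonal action (`CaseF2`).  Then `y² = 1` (otherwise all
involutions of `C_G(z)` lie in `Q`), the Sylow 2-subgroup is `T (2 * 2)`, `z` and `i l` are not conjugate, and the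
characterization of the Mathieu group of degree 12 by its Sylow 2-subgroup (S1741) applies.
-/

set_option autoImplicit false

namespace Cfsg.Agent.LargeExtra.W2.MTwelve

open Cfsg.Agent.Co2Type.Quad Cfsg.Agent.LargeExtra.Model Cfsg.Agent.LargeExtra.Pres
open Cfsg.Agent.LargeExtra.W2.PlusHom
open Cfsg.Agent.ClassificationK.GTwoModel
open Cfsg.Agent.MTwelveType.SylowModel (liftHom)

/-- conjugation by `v` in the model -/
def sv : M →* M := endo mj (mi * mj) ml (mk * ml) (by decide +kernel)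
/-- conjugation by `y` in the model -/
def sy : M →* M := endo (mj * zz) (mi * zz) (ml * zz) (mk * zz) (by decide +kernel)

section

variable {G : Type*} [Group G] {Q : Subgroup G} {z i j k l v y : G}

theorem v_hom (h : CaseF2 Q z i j k l v y) (x : M) :
    v * hom h.toPlus x * v⁻¹ = hom h.toPlus (sv x) := by
  apply conj_hom h.toPlus h.v_act
  · exact hom_j _
  · rw [map_mul, hom_i, hom_j]
  · exact hom_l _
  · rw [map_mul, hom_k, hom_l]

theorem y_hom (h : CaseF2 Q z i j k l v y) (x : M) :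
    y * hom h.toPlus x * y⁻¹ = hom h.toPlus (sy x) := by
  apply conj_hom h.toPlus h.y_act
  · rw [map_mul, hom_j, hom_zz]
  · rw [map_mul, hom_i, hom_zz]
  · rw [map_mul, hom_l, hom_zz]
  · rw [map_mul, hom_k, hom_zz]

theorem v_hom' (h : CaseF2 Q z i j k l v y) (x : M) :
    v * hom h.toPlus x = hom h.toPlus (sv x) * v := by
  rw [← v_hom h]; group

theorem y_hom' (h : CaseF2 Q z i j k l v y) (x : M) :
    y * hom h.toPlus x = hom h.toPlus (sy x) * y := by
  rw [← y_hom h]; group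

theorem v_z (h : CaseF2 Q z i j k l v y) : v * z = z * v := by
  have := h.v_act.z
  rwa [mul_inv_eq_iff_eq_mul] at this

theorem y_z (h : CaseF2 Q z i j k l v y) : y * z = z * y := by
  have := h.y_act.z
  rwa [mul_inv_eq_iff_eq_mul] at this

theorem yv (h : CaseF2 Q z i j k l v y) : y * v = v ^ 2 * y := by
  have h1 : v⁻¹ = v ^ 2 := by
    rw [inv_eq_iff_mul_eq_one, ← pow_succ']; exact h.v3
  rw [← h1, ← h.vy]; group

theorem y_pow_v (h : CaseF2 Q z i j k l v y) (b a : ℕ) : ∃ a', y ^ b * v ^ a = v ^ a' * y ^ b := by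
  have h1 : ∀ a, ∃ a', y * v ^ a = v ^ a' * y := by
    intro a
    refine ⟨2 * a, ?_⟩
    have : SemiconjBy y v (v ^ 2) := yv h
    rw [pow_mul]
    exact (this.pow_right a).eq
  induction b generalizing a with
  | zero => exact ⟨a, by simp⟩
  | succ b ih =>
    obtain ⟨a1, ha1⟩ := ih a
    obtain ⟨a2, ha2⟩ := h1 a1
    refine ⟨a2, ?_⟩
    rw [pow_succ', mul_assoc, ha1, ← mul_assoc, ha2, mul_assoc]

/-- normal form `q v^a y^b` with exponent `b` -/
def P (Q : Subgroup G) (v y : G) (c : G) (b : ℕ) : Prop := ∃ q ∈ Q, ∃ a : ℕ, c = q * v ^ a * y ^ b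

theorem vy_z (h : CaseF2 Q z i j k l v y) (a b : ℕ) : (v ^ a * y ^ b) * z = z * (v ^ a * y ^ b) := by
  have h1 : Commute v z := v_z h
  have h2 : Commute y z := y_z h
  exact ((h1.pow_left a).mul_left (h2.pow_left b)).eq

theorem P_mul (h : CaseF2 Q z i j k l v y) {c d : G} {b b' : ℕ} (hc : P Q v y c b) (hd : P Q v y d b') :
    P Q v y (c * d) (b + b') := by
  obtain ⟨q, hq, a, rfl⟩ := hc
  obtain ⟨q', hq', a', rfl⟩ := hd
  obtain ⟨a'', ha''⟩ := y_pow_v h b a'
  refine ⟨q * ((v ^ a * y ^ b) * q' * (v ^ a * y ^ b)⁻¹),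
    Q.mul_mem hq (h.large.conj_mem _ (vy_z h a b) _ hq'), a + a'', ?_⟩
  calc q * v ^ a * y ^ b * (q' * v ^ a' * y ^ b')
      = q * ((v ^ a * y ^ b) * q' * (v ^ a * y ^ b)⁻¹) * v ^ a * (y ^ b * v ^ a') * y ^ b' := by group
    _ = q * ((v ^ a * y ^ b) * q' * (v ^ a * y ^ b)⁻¹) * v ^ a * (v ^ a'' * y ^ b) * y ^ b' := by rw [ha'']
    _ = _ := by rw [pow_add, pow_add]; group

theorem P_of_mem {c : G} (hc : c ∈ Q) : P Q v y c 0 := ⟨c, hc, 0, by simp⟩

theorem exists_P (h : CaseF2 Q z i j k l v y) {c : G} (hc : c * z = z * c) : ∃ b, P Q v y c b := by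
  have hc' : c ∈ Subgroup.closure ({i, j, k, l, v, y} : Set G) := by
    rw [← h.cent]; exact Subgroup.mem_centralizer_singleton_iff.2 hc
  have hy4 : y⁻¹ = y ^ 3 := by
    rw [inv_eq_iff_mul_eq_one, ← pow_succ']
    have : y ^ (3 + 1) = (y * y) * (y * y) := by simp only [pow_succ, pow_zero, one_mul, mul_assoc]
    rw [this]
    rcases h.y2 with h1 | h1
    · rw [h1, one_mul]
    · rw [h1]; exact h.large.z_sq
  have hv3 : v⁻¹ = v ^ 2 := by
    rw [inv_eq_iff_mul_eq_one, ← pow_succ']; exact h.v3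
  have hgen : ∀ x ∈ ({i, j, k, l, v, y} : Set G), (∃ b, P Q v y x b) ∧ ∃ b, P Q v y x⁻¹ b := by
    intro x hx
    have hx' : x = i ∨ x = j ∨ x = k ∨ x = l ∨ x = v ∨ x = y := by simpa using hx
    rcases hx' with rfl | rfl | rfl | rfl | rfl | rfl
    · exact ⟨⟨0, P_of_mem (mem_i h.toPlus)⟩, ⟨0, P_of_mem (Q.inv_mem (mem_i h.toPlus))⟩⟩
    · exact ⟨⟨0, P_of_mem (mem_j h.toPlus)⟩, ⟨0, P_of_mem (Q.inv_mem (mem_j h.toPlus))⟩⟩
    · exact ⟨⟨0, P_of_mem (mem_k h.toPlus)⟩, ⟨0, P_of_mem (Q.inv_mem (mem_k h.toPlus))⟩⟩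
    · exact ⟨⟨0, P_of_mem (mem_l h.toPlus)⟩, ⟨0, P_of_mem (Q.inv_mem (mem_l h.toPlus))⟩⟩
    · exact ⟨⟨0, 1, Q.one_mem, 1, by simp⟩, ⟨0, 1, Q.one_mem, 2, by rw [hv3]; simp⟩⟩
    · exact ⟨⟨1, 1, Q.one_mem, 0, by simp⟩, ⟨3, 1, Q.one_mem, 0, by rw [hy4]; simp⟩⟩
  induction hc' using Subgroup.closure_induction_right with
  | one => exact ⟨0, P_of_mem Q.one_mem⟩
  | mul_right x hx g hg ih =>
    obtain ⟨b, hb⟩ := ih (by
      have : x ∈ Subgroup.centralizer ({z} : Set G) := by rw [h.cent]; exact hx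
      exact Subgroup.mem_centralizer_singleton_iff.1 this)
    obtain ⟨b', hb'⟩ := (hgen g hg).1
    exact ⟨_, P_mul h hb hb'⟩
  | mul_inv_cancel x hx g hg ih =>
    obtain ⟨b, hb⟩ := ih (by
      have : x ∈ Subgroup.centralizer ({z} : Set G) := by rw [h.cent]; exact hx
      exact Subgroup.mem_centralizer_singleton_iff.1 this)
    obtain ⟨b', hb'⟩ := (hgen g hg).2
    exact ⟨_, P_mul h hb hb'⟩

theorem exp_four (h : CaseF2 Q z i j k l v y) {q : G} (hq : q ∈ Q) : q ^ 4 = 1 := by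
  have : q ^ 4 = (q * q) * (q * q) := by simp only [pow_succ, pow_zero, one_mul, mul_assoc]
  rw [this]
  rcases h.large.sq q hq with h1 | h1
  · rw [h1, one_mul]
  · rw [h1]; exact h.large.z_sq

theorem v_pow_of_mem (h : CaseF2 Q z i j k l v y) {a : ℕ} (ha : v ^ a ∈ Q) : v ^ a = 1 := by
  have h1 : (v ^ a) ^ 4 = 1 := exp_four h ha
  have h2 : (v ^ a) ^ 3 = 1 := by rw [← pow_mul, mul_comm, pow_mul, h.v3, one_pow]
  calc v ^ a = (v ^ a) ^ 4 * ((v ^ a) ^ 3)⁻¹ := by group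
    _ = 1 := by rw [h1, h2, inv_one, one_mul]

/-- an element `q v^a` of order two lies in `Q` -/
theorem mem_of_sq (h : CaseF2 Q z i j k l v y) {c : G} (hc : P Q v y c 0) (hcc : c * c = 1) : c ∈ Q := by
  obtain ⟨q, hq, a, rfl⟩ := hc
  rw [pow_zero, mul_one] at hcc ⊢
  have h1 : v ^ a * q * (v ^ a)⁻¹ ∈ Q := by
    have := h.large.conj_mem (v ^ a) (by simpa using vy_z h a 0) q hq
    exact this
  have h2 : v ^ (2 * a) = (q * (v ^ a * q * (v ^ a)⁻¹))⁻¹ := by
    rw [eq_inv_iff_mul_eq_one]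
    have e : q * v ^ a * (q * v ^ a) = (q * (v ^ a * q * (v ^ a)⁻¹)) * v ^ (2 * a) := by
      rw [two_mul, pow_add]; group
    rw [e] at hcc
    have := mul_eq_one_iff_eq_inv.1 hcc
    rw [this]; group
  have h3 : v ^ (2 * a) ∈ Q := by rw [h2]; exact Q.inv_mem (Q.mul_mem hq h1)
  have h4 := v_pow_of_mem h h3
  have h5 : v ^ a = 1 := by
    have h6 : v ^ (3 * a) = 1 := by rw [pow_mul, h.v3, one_pow]
    calc v ^ a = v ^ (3 * a) * (v ^ (2 * a))⁻¹ := by
          rw [show 3 * a = a + 2 * a by ring, pow_add]; group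
      _ = 1 := by rw [h6, h4, inv_one, one_mul]
  rw [h5, mul_one]; exact hq

/-- commutators -/
theorem P_comm (h : CaseF2 Q z i j k l v y) {c d : G} (hc : c * z = z * c) (hd : d * z = z * d) :
    P Q v y (c * d * (d * c)⁻¹) 0 := by
  obtain ⟨b, hb⟩ := exists_P h hc
  obtain ⟨b', hb'⟩ := exists_P h hd
  obtain ⟨q1, hq1, a1, e1⟩ := P_mul h hb hb'
  obtain ⟨q2, hq2, a2, e2⟩ := P_mul h hb' hb
  have hv3 : v⁻¹ = v ^ 2 := by
    rw [inv_eq_iff_mul_eq_one, ← pow_succ']; exact h.v3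
  have e3 : c * d * (d * c)⁻¹ = q1 * v ^ a1 * (v ^ a2)⁻¹ * q2⁻¹ := by
    rw [e1, e2, add_comm b' b]; group
  have e4 : (v ^ a2)⁻¹ = v ^ (2 * a2) := by rw [← inv_pow, hv3, ← pow_mul]
  have e5 : c * d * (d * c)⁻¹ = q1 * (v ^ (a1 + 2 * a2) * q2⁻¹ * (v ^ (a1 + 2 * a2))⁻¹) * v ^ (a1 + 2 * a2) * y ^ 0 := by
    rw [e3, e4, pow_add]; group
  refine ⟨_, Q.mul_mem hq1 (h.large.conj_mem _ ?_ _ (Q.inv_mem hq2)), _, e5⟩
  have := vy_z h (a1 + 2 * a2) 0
  simpa using this

/-! ### reduced normal form -/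

theorem y_sq_hom (h : CaseF2 Q z i j k l v y) : ∃ e : M, y * y = hom h.toPlus e ∧ (e = 1 ∨ e = zz) := by
  rcases h.y2 with h1 | h1
  · exact ⟨1, by rw [h1, map_one], Or.inl rfl⟩
  · exact ⟨zz, by rw [h1, hom_zz], Or.inr rfl⟩

/-- every element of `C_G(z)` is `q v^a y^b` with `a < 3`, `b < 2` -/
theorem exists_red (h : CaseF2 Q z i j k l v y) {c : G} (hc : c * z = z * c) :
    ∃ m : M, ∃ a : Fin 3, ∃ b : Fin 2, c = hom h.toPlus m * v ^ a.1 * y ^ b.1 := by
  obtain ⟨b, q, hq, a, rfl⟩ := exists_P h hc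
  have hv : v ^ a = v ^ (a % 3) := by
    conv_lhs => rw [← Nat.div_add_mod a 3, pow_add, pow_mul, h.v3, one_pow, one_mul]
  have hy : y ^ b = (y * y) ^ (b / 2) * y ^ (b % 2) := by
    conv_lhs => rw [← Nat.div_add_mod b 2, pow_add, pow_mul, pow_two]
  have hyc : (y * y) ^ (b / 2) ∈ Q := by
    apply Q.pow_mem
    rcases h.y2 with h1 | h1
    · rw [h1]; exact Q.one_mem
    · rw [h1]; exact h.large.z_mem
  have h3 : v ^ (a % 3) * (y * y) ^ (b / 2) * (v ^ (a % 3))⁻¹ ∈ Q := by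
    refine h.large.conj_mem _ ?_ _ hyc
    have := vy_z h (a % 3) 0
    simpa using this
  obtain ⟨m, hm⟩ := exists_hom h.toPlus (Q.mul_mem hq h3)
  refine ⟨m, ⟨a % 3, Nat.mod_lt _ (by norm_num)⟩, ⟨b % 2, Nat.mod_lt _ (by norm_num)⟩, ?_⟩
  rw [hm]
  show q * v ^ a * y ^ b = q * (v ^ (a % 3) * (y * y) ^ (b / 2) * (v ^ (a % 3))⁻¹) * v ^ (a % 3) * y ^ (b % 2)
  rw [hy, hv]; group

/-- iterate of `sv` -/
def itv : ℕ → M → M
  | 0, x => x
  | n + 1, x => sv (itv n x)

/-- iterate of `sy` -/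
def ity : ℕ → M → M
  | 0, x => x
  | n + 1, x => sy (ity n x)

theorem vpow_hom (h : CaseF2 Q z i j k l v y) (a : ℕ) (x : M) :
    v ^ a * hom h.toPlus x = hom h.toPlus (itv a x) * v ^ a := by
  induction a with
  | zero => simp [itv]
  | succ a ih =>
    rw [pow_succ', mul_assoc, ih, ← mul_assoc, v_hom' h, mul_assoc]; rfl

theorem ypow_hom (h : CaseF2 Q z i j k l v y) (a : ℕ) (x : M) :
    y ^ a * hom h.toPlus x = hom h.toPlus (ity a x) * y ^ a := by
  induction a with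
  | zero => simp [ity]
  | succ a ih =>
    rw [pow_succ', mul_assoc, ih, ← mul_assoc, y_hom' h, mul_assoc]; rfl

set_option maxRecDepth 100000 in
theorem dec_cent : ∀ (m : M) (a : Fin 3) (b : Fin 2), m * itv a.1 (ity b.1 (mi * ml)) = mi * ml * m →
    a = 0 ∧ b = 0 := by decide +kernel

/-- `C_G(z) ∩ C_G(i l) ≤ Q` -/
theorem mem_of_comm (h : CaseF2 Q z i j k l v y) {c : G} (hc : c * z = z * c)
    (hil : c * (i * l) = i * l * c) : c ∈ Q := by
  obtain ⟨m, a, b, rfl⟩ := exists_red h hc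
  have h0 : i * l = hom h.toPlus (mi * ml) := by rw [map_mul, hom_i, hom_l]
  have h1 : hom h.toPlus m * v ^ a.1 * y ^ b.1 * (i * l) =
      hom h.toPlus (m * itv a.1 (ity b.1 (mi * ml))) * (v ^ a.1 * y ^ b.1) := by
    rw [h0, mul_assoc, ypow_hom h, mul_assoc, ← mul_assoc (v ^ a.1), vpow_hom h, map_mul]
    group
  have h2 : i * l * (hom h.toPlus m * v ^ a.1 * y ^ b.1) =
      hom h.toPlus (mi * ml * m) * (v ^ a.1 * y ^ b.1) := by
    rw [h0, map_mul _ (mi * ml)]
    group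
  rw [h1, h2] at hil
  obtain ⟨rfl, rfl⟩ := dec_cent m a b (hom_injective h.toPlus (mul_right_cancel hil))
  simpa using hom_mem h.toPlus m

/-! ### the twisted case -/

set_option maxRecDepth 100000 in
theorem dec_twist : ∀ (m : M) (a : Fin 3), m * itv a.1 (sy m) * zz ≠ 1 := by decide +kernel

theorem mem_of_sq_of_twist (h : CaseF2 Q z i j k l v y) (hy : y * y = z) {c : G} (hc : c * z = z * c)
    (hcc : c * c = 1) : c ∈ Q := by
  obtain ⟨m, a, b, rfl⟩ := exists_red h hc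
  have hb : b = 0 ∨ b = 1 := by omega
  rcases hb with rfl | rfl
  · apply mem_of_sq h _ hcc
    exact ⟨_, hom_mem h.toPlus m, a.1, rfl⟩
  · exfalso
    have e : (hom h.toPlus m * v ^ a.1 * y ^ (1 : Fin 2).1) * (hom h.toPlus m * v ^ a.1 * y ^ (1 : Fin 2).1) =
        hom h.toPlus (m * itv a.1 (sy m) * zz) := by
      obtain ⟨a', ha'⟩ := y_pow_v h 1 a.1
      show (hom h.toPlus m * v ^ a.1 * y ^ 1) * (hom h.toPlus m * v ^ a.1 * y ^ 1) = _
      rw [pow_one] at ha' ⊢
      have hinv : y * v ^ a.1 = (v ^ a.1)⁻¹ * y := by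
        have h1 : SemiconjBy y v v⁻¹ := by
          show y * v = v⁻¹ * y
          rw [← h.vy]; group
        have h2 := (h1.pow_right a.1).eq
        rw [h2, inv_pow]
      calc hom h.toPlus m * v ^ a.1 * y * (hom h.toPlus m * v ^ a.1 * y)
          = hom h.toPlus m * v ^ a.1 * (y * hom h.toPlus m) * v ^ a.1 * y := by group
        _ = hom h.toPlus m * v ^ a.1 * (hom h.toPlus (sy m) * y) * v ^ a.1 * y := by rw [y_hom' h]
        _ = hom h.toPlus m * (v ^ a.1 * hom h.toPlus (sy m)) * (y * v ^ a.1) * y := by group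
        _ = hom h.toPlus m * (hom h.toPlus (itv a.1 (sy m)) * v ^ a.1) * ((v ^ a.1)⁻¹ * y) * y := by
            rw [vpow_hom h, hinv]
        _ = hom h.toPlus m * hom h.toPlus (itv a.1 (sy m)) * (y * y) := by group
        _ = _ := by rw [hy, map_mul, map_mul, hom_zz]
    rw [e] at hcc
    exact dec_twist m a (hom_injective h.toPlus (by rw [hcc, map_one]))

set_option maxRecDepth 100000 in
theorem dec_pq : ∀ b : M, b * b = 1 → b ≠ 1 → b ≠ zz → ∃ p q : M, p * p = 1 ∧ q * q = 1 ∧ p * b = b * p ∧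
    q * b = b * q ∧ p * q = q * p * zz := by decide +kernel

theorem noncomm (h : CaseF2 Q z i j k l v y) : ∃ a b : G, a * b ≠ b * a := by
  refine ⟨j, i, ?_⟩
  rw [h.ji]
  intro h1
  exact h.large.z_ne (by simpa using h1)

theorem y_sq [Finite G] [IsSimpleGroup G] (h : CaseF2 Q z i j k l v y) : y * y = 1 := by
  rcases h.y2 with h1 | hy
  · exact h1
  exfalso
  refine Cfsg.Agent.J2Type.SimpleRed.not_isolated z ⟨Base.orderOf_z h.large, ?_⟩ (noncomm h)
  intro g hg
  by_contra hne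
  have hzz := h.large.z_sq
  have ha2 : (g * z * g⁻¹) * (g * z * g⁻¹) = 1 := by
    calc (g * z * g⁻¹) * (g * z * g⁻¹) = g * (z * z) * g⁻¹ := by group
      _ = 1 := by rw [hzz]; group
  have haQ : g * z * g⁻¹ ∈ Q := mem_of_sq_of_twist h hy hg.eq.symm ha2
  -- `b = g⁻¹ z g ∈ Q`
  have hbQ : g⁻¹ * z * g ∈ Q := by
    apply mem_of_sq_of_twist h hy
    · have := hg.eq
      calc g⁻¹ * z * g * z = g⁻¹ * (z * (g * z * g⁻¹)) * g := by group
        _ = g⁻¹ * ((g * z * g⁻¹) * z) * g := by rw [this]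
        _ = z * (g⁻¹ * z * g) := by group
    · calc g⁻¹ * z * g * (g⁻¹ * z * g) = g⁻¹ * (z * z) * g := by group
        _ = 1 := by rw [hzz]; group
  obtain ⟨b, hb⟩ := exists_hom h.toPlus hbQ
  have hbb : b * b = 1 := by
    apply hom_injective h.toPlus
    rw [map_mul, hb, map_one]
    calc g⁻¹ * z * g * (g⁻¹ * z * g) = g⁻¹ * (z * z) * g := by group
      _ = 1 := by rw [hzz]; group
  have hb1 : b ≠ 1 := by
    rintro rfl
    rw [map_one] at hb
    apply h.large.z_ne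
    calc z = g * (g⁻¹ * z * g) * g⁻¹ := by group
      _ = 1 := by rw [← hb]; group
  have hbz : b ≠ zz := by
    rintro rfl
    rw [hom_zz] at hb
    apply hne
    calc g * z * g⁻¹ = g * (g⁻¹ * z * g) * g⁻¹ := by rw [← hb]
      _ = z := by group
  obtain ⟨p, q, hp, hq, hpb, hqb, hpq⟩ := dec_pq b hbb hb1 hbz
  have key : ∀ x : M, x * x = 1 → x * b = b * x → g * hom h.toPlus x * g⁻¹ ∈ Q := by
    intro x hx hxb
    apply mem_of_sq_of_twist h hy
    · have h2 : hom h.toPlus x * (g⁻¹ * z * g) = (g⁻¹ * z * g) * hom h.toPlus x := by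
        rw [← hb, ← map_mul, ← map_mul, hxb]
      calc g * hom h.toPlus x * g⁻¹ * z = g * (hom h.toPlus x * (g⁻¹ * z * g)) * g⁻¹ := by group
        _ = g * ((g⁻¹ * z * g) * hom h.toPlus x) * g⁻¹ := by rw [h2]
        _ = z * (g * hom h.toPlus x * g⁻¹) := by group
    · calc g * hom h.toPlus x * g⁻¹ * (g * hom h.toPlus x * g⁻¹)
          = g * (hom h.toPlus x * hom h.toPlus x) * g⁻¹ := by group
        _ = 1 := by rw [← map_mul, hx, map_one]; group
  have e : (g * hom h.toPlus p * g⁻¹) * (g * hom h.toPlus q * g⁻¹) =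
      (g * hom h.toPlus q * g⁻¹) * (g * hom h.toPlus p * g⁻¹) * (g * z * g⁻¹) := by
    calc (g * hom h.toPlus p * g⁻¹) * (g * hom h.toPlus q * g⁻¹)
        = g * (hom h.toPlus (p * q)) * g⁻¹ := by rw [map_mul]; group
      _ = g * (hom h.toPlus (q * p * zz)) * g⁻¹ := by rw [hpq]
      _ = _ := by rw [map_mul, map_mul, hom_zz]; group
  rcases h.large.comm _ (key p hp hpb) _ (key q hq hqb) with h2 | h2
  · rw [e] at h2
    have h3 : g * z * g⁻¹ = 1 := by simpa using h2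
    apply h.large.z_ne
    calc z = g⁻¹ * (g * z * g⁻¹) * g := by group
      _ = 1 := by rw [h3]; group
  · rw [e] at h2
    exact hne (mul_left_cancel h2)

/-! ### two classes of involutions -/

set_option maxRecDepth 100000 in
theorem dec_four : (mi : M) * (mi * ml) = mi * ml * mi ∧ (mj * mk) * (mi * ml) = mi * ml * (mj * mk) ∧
    mi * (mj * mk) = mj * mk * mi * zz ∧ mi * ml ≠ 1 ∧ mi * ml ≠ zz ∧ (mi * ml) * (mi * ml) = 1 := by
  decide +kernel

theorem not_conj [Finite G] (h : CaseF2 Q z i j k l v y) : ¬ IsConj z (i * l) := by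
  classical
  intro hcon
  obtain ⟨g, hg⟩ := isConj_iff.1 hcon
  obtain ⟨d1, d2, d3, d4, d5, d6⟩ := dec_four
  have h0 : i * l = hom h.toPlus (mi * ml) := by rw [map_mul, hom_i, hom_l]
  have hilQ : i * l ∈ Q := by rw [h0]; exact hom_mem _ _
  have hil1 : i * l ≠ 1 := by
    rw [h0]; intro h1; exact d4 (hom_injective h.toPlus (by rw [h1, map_one]))
  have hilz : i * l ≠ z := by
    rw [h0]; intro h1; exact d5 (hom_injective h.toPlus (by rw [h1, hom_zz]))
  have hzz := h.large.z_sq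
  -- conjugation by `g⁻¹`
  have cj : ∀ a b : G, a * b = b * a → (g⁻¹ * a * g) * (g⁻¹ * b * g) = (g⁻¹ * b * g) * (g⁻¹ * a * g) := by
    intro a b hab
    calc (g⁻¹ * a * g) * (g⁻¹ * b * g) = g⁻¹ * (a * b) * g := by group
      _ = g⁻¹ * (b * a) * g := by rw [hab]
      _ = _ := by group
  have hgz : g⁻¹ * (i * l) * g = z := by rw [← hg]; group
  have hiC : i * (i * l) = i * l * i := by
    have := congrArg (hom h.toPlus) d1
    simpa only [map_mul, hom_i, hom_l] using this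
  have hjkC : (j * k) * (i * l) = i * l * (j * k) := by
    have := congrArg (hom h.toPlus) d2
    simpa only [map_mul, hom_i, hom_l, hom_j, hom_k] using this
  have hijk : i * (j * k) = j * k * i * z := by
    have := congrArg (hom h.toPlus) d3
    simpa only [map_mul, hom_i, hom_l, hom_j, hom_k, hom_zz] using this
  have hp0 := cj i (i * l) hiC
  have hq0 := cj (j * k) (i * l) hjkC
  rw [hgz] at hp0 hq0
  have hy0 := cj z (i * l) (h.large.comm_z _ hilQ).symm
  rw [hgz] at hy0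
  have hyy : (g⁻¹ * z * g) * (g⁻¹ * z * g) = 1 := by
    calc (g⁻¹ * z * g) * (g⁻¹ * z * g) = g⁻¹ * (z * z) * g := by group
      _ = 1 := by rw [hzz]; group
  have hcomm : (g⁻¹ * i * g) * (g⁻¹ * (j * k) * g) * ((g⁻¹ * (j * k) * g) * (g⁻¹ * i * g))⁻¹ = g⁻¹ * z * g := by
    have e : (g⁻¹ * i * g) * (g⁻¹ * (j * k) * g) = (g⁻¹ * z * g) * ((g⁻¹ * (j * k) * g) * (g⁻¹ * i * g)) := by
      calc (g⁻¹ * i * g) * (g⁻¹ * (j * k) * g) = g⁻¹ * (i * (j * k)) * g := by group
        _ = g⁻¹ * (j * k * i * z) * g := by rw [hijk]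
        _ = g⁻¹ * (z * (j * k * i)) * g := by
            rw [h.large.comm_z _ (Q.mul_mem (Q.mul_mem (mem_j h.toPlus) (mem_k h.toPlus)) (mem_i h.toPlus))]
        _ = _ := by group
    rw [e, mul_inv_cancel_right]
  have hyQ : g⁻¹ * z * g ∈ Q := by
    apply mem_of_sq h _ hyy
    rw [← hcomm]
    exact P_comm h hp0 hq0
  have hy1 : g⁻¹ * z * g ≠ 1 := by
    intro h1
    apply h.large.z_ne
    calc z = g * (g⁻¹ * z * g) * g⁻¹ := by group
      _ = 1 := by rw [h1]; group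
  have hyz : g⁻¹ * z * g ≠ z := by
    intro h1
    apply hilz
    rw [← hg]
    calc g * z * g⁻¹ = g * (g⁻¹ * z * g) * g⁻¹ := by rw [h1]
      _ = z := by group
  -- centralizers
  set D : Subgroup G := Subgroup.centralizer ({i * l} : Set G) ⊓ Subgroup.centralizer ({z} : Set G) with hD
  set E : Subgroup G := Subgroup.centralizer ({g⁻¹ * z * g} : Set G) ⊓ Subgroup.centralizer ({z} : Set G) with hE
  have hDQ : D ≤ Subgroup.centralizer ({i * l} : Set G) ⊓ Q := by
    intro x hx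
    obtain ⟨hx1, hx2⟩ := Subgroup.mem_inf.1 hx
    refine Subgroup.mem_inf.2 ⟨hx1, ?_⟩
    exact mem_of_comm h (Subgroup.mem_centralizer_singleton_iff.1 hx2)
      (Subgroup.mem_centralizer_singleton_iff.1 hx1)
  have hQz : Q ≤ Subgroup.centralizer ({z} : Set G) := fun x hx =>
    Subgroup.mem_centralizer_singleton_iff.2 (h.large.comm_z x hx)
  have hEQ : Subgroup.centralizer ({g⁻¹ * z * g} : Set G) ⊓ Q ≤ E := inf_le_inf_left _ hQz
  have hEmap : E = D.map (MulAut.conj g⁻¹).toMonoidHom := by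
    ext x
    constructor
    · intro hx
      obtain ⟨hx1, hx2⟩ := Subgroup.mem_inf.1 hx
      rw [Subgroup.mem_centralizer_singleton_iff] at hx1 hx2
      refine ⟨g * x * g⁻¹, Subgroup.mem_inf.2 ⟨?_, ?_⟩, ?_⟩
      · rw [Subgroup.mem_centralizer_singleton_iff, ← hg]
        calc g * x * g⁻¹ * (g * z * g⁻¹) = g * (x * z) * g⁻¹ := by group
          _ = g * (z * x) * g⁻¹ := by rw [hx2]
          _ = _ := by group
      · rw [Subgroup.mem_centralizer_singleton_iff]
        calc g * x * g⁻¹ * z = g * (x * (g⁻¹ * z * g)) * g⁻¹ := by group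
          _ = g * ((g⁻¹ * z * g) * x) * g⁻¹ := by rw [hx1]
          _ = _ := by group
      · show g⁻¹ * (g * x * g⁻¹) * (g⁻¹)⁻¹ = x
        group
    · rintro ⟨w, hw, rfl⟩
      obtain ⟨hw1, hw2⟩ := Subgroup.mem_inf.1 hw
      rw [Subgroup.mem_centralizer_singleton_iff] at hw1 hw2
      have e : (MulAut.conj g⁻¹).toMonoidHom w = g⁻¹ * w * g := by
        show g⁻¹ * w * (g⁻¹)⁻¹ = g⁻¹ * w * g
        group
      rw [e]
      refine Subgroup.mem_inf.2 ⟨?_, ?_⟩
      · rw [Subgroup.mem_centralizer_singleton_iff]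
        exact cj w z hw2
      · rw [Subgroup.mem_centralizer_singleton_iff]
        have := cj w (i * l) hw1
        rwa [hgz] at this
  have hcard : Nat.card E = Nat.card D := by
    rw [hEmap]
    exact Nat.card_congr (Subgroup.equivMapOfInjective D _ (MulAut.conj g⁻¹).injective).symm.toEquiv
  have c1 := Local.card_centralizer h.large hilQ hil1 hilz
  have c2 := Local.card_centralizer h.large hyQ hy1 hyz
  have c3 : Nat.card D ≤ Nat.card ↥(Subgroup.centralizer ({i * l} : Set G) ⊓ Q) :=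
    Subgroup.card_le_of_le hDQ
  have c4 : Subgroup.centralizer ({g⁻¹ * z * g} : Set G) ⊓ Q = E := by
    apply Subgroup.eq_of_le_of_card_ge hEQ
    rw [hcard]
    refine c3.trans ?_
    omega
  have hpE : g⁻¹ * i * g ∈ E := by
    rw [hE]
    refine Subgroup.mem_inf.2 ⟨?_, ?_⟩
    · rw [Subgroup.mem_centralizer_singleton_iff]
      exact cj i z (h.large.comm_z _ (mem_i h.toPlus))
    · rw [Subgroup.mem_centralizer_singleton_iff]; exact hp0
  have hqE : g⁻¹ * (j * k) * g ∈ E := by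
    rw [hE]
    refine Subgroup.mem_inf.2 ⟨?_, ?_⟩
    · rw [Subgroup.mem_centralizer_singleton_iff]
      exact cj (j * k) z (h.large.comm_z _ (Q.mul_mem (mem_j h.toPlus) (mem_k h.toPlus)))
    · rw [Subgroup.mem_centralizer_singleton_iff]; exact hq0
  rw [← c4] at hpE hqE
  rcases h.large.comm _ hpE.2 _ hqE.2 with h2 | h2
  · rw [h2, mul_inv_cancel] at hcomm
    exact hy1 hcomm.symm
  · rw [h2] at hcomm
    have h3 : g⁻¹ * z * g = z := by
      rw [← hcomm, h.large.comm_z _ (Q.mul_mem hqE.2 hpE.2), mul_inv_cancel_right]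
    exact hyz h3

/-! ### the Sylow 2-subgroup -/

abbrev mA : M := mi * mk
abbrev mB : M := zz * mi * ml
abbrev mC : M := mi * ml
abbrev mD : M := mi * mj * mk

set_option maxRecDepth 100000 in
theorem dec_rel : (mA * sy mA) * (mA * sy mA) = 1 ∧ (mB * sy mB) * (mB * sy mB) = 1 ∧
    mA * sy mB = mB * sy mA ∧ mC * mC = 1 ∧ mD * mD = 1 ∧ mC * mD = mD * mC ∧
    mA * sy (mC * mA) = mC ∧ mB * sy (mC * mB) = mC ∧ mD * mA = mB * sy mD ∧ mD * mB = mA * sy mD := by
  decide +kernel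

set_option maxRecDepth 100000 in
theorem dec_gen : mA * sy mB = mi * mj ∧ mA * sy mA = mi * mj * (mk * ml) := by
  decide +kernel

theorem mul_y (h : CaseF2 Q z i j k l v y) (hy : y * y = 1) (a b : M) :
    (hom h.toPlus a * y) * (hom h.toPlus b * y) = hom h.toPlus (a * sy b) := by
  calc (hom h.toPlus a * y) * (hom h.toPlus b * y)
      = hom h.toPlus a * (y * hom h.toPlus b) * y := by group
    _ = hom h.toPlus a * (hom h.toPlus (sy b) * y) * y := by rw [y_hom' h]
    _ = hom h.toPlus a * hom h.toPlus (sy b) * (y * y) := by group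
    _ = _ := by rw [hy, map_mul, mul_one]

theorem exists_T (h : CaseF2 Q z i j k l v y) (hy : y * y = 1) :
    ∃ f : T (2 * 2) →* G, Q ≤ f.range ∧ y ∈ f.range ∧ f.range ≤ Subgroup.centralizer ({z} : Set G) := by
  obtain ⟨r1, r2, r3, r4, r5, r6, r7, r8, r9, r10⟩ := dec_rel
  obtain ⟨g1, g2⟩ := dec_gen
  have hmy := mul_y h hy
  have p4 : ∀ x : G, x ^ (2 * 2) = (x * x) * (x * x) := fun x => by
    simp only [pow_succ, pow_zero, one_mul, mul_assoc, Nat.reduceMul]
  have hA : (hom h.toPlus mA * y) ^ (2 * 2) = 1 := by rw [p4, hmy, ← map_mul, r1, map_one]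
  have hB : (hom h.toPlus mB * y) ^ (2 * 2) = 1 := by rw [p4, hmy, ← map_mul, r2, map_one]
  have hAB : (hom h.toPlus mA * y) * (hom h.toPlus mB * y) = (hom h.toPlus mB * y) * (hom h.toPlus mA * y) := by
    rw [hmy, hmy, r3]
  have hC : hom h.toPlus mC * hom h.toPlus mC = 1 := by rw [← map_mul, r4, map_one]
  have hD : hom h.toPlus mD * hom h.toPlus mD = 1 := by rw [← map_mul, r5, map_one]
  have hCD : hom h.toPlus mC * hom h.toPlus mD = hom h.toPlus mD * hom h.toPlus mC := by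
    rw [← map_mul, ← map_mul, r6]
  have hCA : hom h.toPlus mC * (hom h.toPlus mA * y) = (hom h.toPlus mA * y)⁻¹ * hom h.toPlus mC := by
    rw [eq_inv_mul_iff_mul_eq, ← mul_assoc (hom h.toPlus mC), ← map_mul (hom h.toPlus) mC, hmy, r7]
  have hCB : hom h.toPlus mC * (hom h.toPlus mB * y) = (hom h.toPlus mB * y)⁻¹ * hom h.toPlus mC := by
    rw [eq_inv_mul_iff_mul_eq, ← mul_assoc (hom h.toPlus mC), ← map_mul (hom h.toPlus) mC, hmy, r8]
  have hDA : hom h.toPlus mD * (hom h.toPlus mA * y) = (hom h.toPlus mB * y) * hom h.toPlus mD := by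
    rw [mul_assoc (hom h.toPlus mB), y_hom' h, ← mul_assoc, ← mul_assoc, ← map_mul, ← map_mul, r9]
  have hDB : hom h.toPlus mD * (hom h.toPlus mB * y) = (hom h.toPlus mA * y) * hom h.toPlus mD := by
    rw [mul_assoc (hom h.toPlus mA), y_hom' h, ← mul_assoc, ← mul_assoc, ← map_mul, ← map_mul, r10]
  let f : T (2 * 2) →* G := liftHom hA hB hAB hC hD hCD hCA hCB hDA hDB
  have hf : ∀ x : T (2 * 2), f x = (hom h.toPlus mA * y) ^ x.i.val * (hom h.toPlus mB * y) ^ x.j.val *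
      (Cfsg.Agent.MTwelveType.SylowModel.bp (hom h.toPlus mC) x.e *
        Cfsg.Agent.MTwelveType.SylowModel.bp (hom h.toPlus mD) x.d) := fun x => rfl
  have v0 : (0 : ZMod (2 * 2)).val = 0 := by decide
  have v1 : (1 : ZMod (2 * 2)).val = 1 := by decide
  have fA : f ⟨1, 0, false, false⟩ = hom h.toPlus mA * y := by
    rw [hf]
    show (hom h.toPlus mA * y) ^ (1 : ZMod (2 * 2)).val * (hom h.toPlus mB * y) ^ (0 : ZMod (2 * 2)).val *
      (1 * 1) = _
    rw [v0, v1]; simp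
  have fB : f ⟨0, 1, false, false⟩ = hom h.toPlus mB * y := by
    rw [hf]
    show (hom h.toPlus mA * y) ^ (0 : ZMod (2 * 2)).val * (hom h.toPlus mB * y) ^ (1 : ZMod (2 * 2)).val *
      (1 * 1) = _
    rw [v0, v1]; simp
  have fC : f ⟨0, 0, true, false⟩ = hom h.toPlus mC := by
    rw [hf]
    show (hom h.toPlus mA * y) ^ (0 : ZMod (2 * 2)).val * (hom h.toPlus mB * y) ^ (0 : ZMod (2 * 2)).val *
      (hom h.toPlus mC * 1) = _
    rw [v0]; simp
  have fD : f ⟨0, 0, false, true⟩ = hom h.toPlus mD := by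
    rw [hf]
    show (hom h.toPlus mA * y) ^ (0 : ZMod (2 * 2)).val * (hom h.toPlus mB * y) ^ (0 : ZMod (2 * 2)).val *
      (1 * hom h.toPlus mD) = _
    rw [v0]; simp
  have hAr : hom h.toPlus mA * y ∈ f.range := ⟨_, fA⟩
  have hBr : hom h.toPlus mB * y ∈ f.range := ⟨_, fB⟩
  have hCr : hom h.toPlus mC ∈ f.range := ⟨_, fC⟩
  have hDr : hom h.toPlus mD ∈ f.range := ⟨_, fD⟩
  have hij : i * j ∈ f.range := by
    have := f.range.mul_mem hAr hBr
    rw [hmy, g1, map_mul, hom_i, hom_j] at this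
    exact this
  have hkr : k ∈ f.range := by
    have e : k = (i * j)⁻¹ * hom h.toPlus mD := by
      rw [map_mul, map_mul, hom_i, hom_j, hom_k]; group
    rw [e]; exact f.range.mul_mem (f.range.inv_mem hij) hDr
  have hlr : l ∈ f.range := by
    have h1 := f.range.mul_mem hAr hAr
    rw [hmy, g2, map_mul, map_mul, map_mul, hom_i, hom_j, hom_k, hom_l] at h1
    have e : l = k⁻¹ * ((i * j)⁻¹ * (i * j * (k * l))) := by group
    rw [e]; exact f.range.mul_mem (f.range.inv_mem hkr) (f.range.mul_mem (f.range.inv_mem hij) h1)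
  have hir : i ∈ f.range := by
    have e : i = hom h.toPlus mC * l⁻¹ := by rw [map_mul, hom_i, hom_l]; group
    rw [e]; exact f.range.mul_mem hCr (f.range.inv_mem hlr)
  have hjr : j ∈ f.range := by
    have e : j = i⁻¹ * (i * j) := by group
    rw [e]; exact f.range.mul_mem (f.range.inv_mem hir) hij
  have hQ : Q ≤ f.range := by
    rw [h.gen, Subgroup.closure_le]
    intro x hx
    have hx' : x = i ∨ x = j ∨ x = k ∨ x = l := by simpa using hx
    rcases hx' with rfl | rfl | rfl | rfl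
    · exact hir
    · exact hjr
    · exact hkr
    · exact hlr
  have hyr : y ∈ f.range := by
    have e : y = (hom h.toPlus mA)⁻¹ * (hom h.toPlus mA * y) := by group
    rw [e]; exact f.range.mul_mem (f.range.inv_mem (hQ (hom_mem h.toPlus _))) hAr
  refine ⟨f, hQ, hyr, ?_⟩
  have hQz : Q ≤ Subgroup.centralizer ({z} : Set G) := fun x hx =>
    Subgroup.mem_centralizer_singleton_iff.2 (h.large.comm_z x hx)
  have hyz : y ∈ Subgroup.centralizer ({z} : Set G) := Subgroup.mem_centralizer_singleton_iff.2 (y_z h)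
  rintro _ ⟨x, rfl⟩
  rw [hf]
  have bpm : ∀ (g : G) (b : Bool), g ∈ Subgroup.centralizer ({z} : Set G) →
      Cfsg.Agent.MTwelveType.SylowModel.bp g b ∈ Subgroup.centralizer ({z} : Set G) := by
    intro g b hg
    cases b
    · exact Subgroup.one_mem _
    · exact hg
  exact Subgroup.mul_mem _ (Subgroup.mul_mem _
    (Subgroup.pow_mem _ (Subgroup.mul_mem _ (hQz (hom_mem _ _)) hyz) _)
    (Subgroup.pow_mem _ (Subgroup.mul_mem _ (hQz (hom_mem _ _)) hyz) _))
    (Subgroup.mul_mem _ (bpm _ _ (hQz (hom_mem _ _))) (bpm _ _ (hQz (hom_mem _ _))))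

theorem y_not_mem (h : CaseF2 Q z i j k l v y) : y ∉ Q := by
  intro hy
  have h1 : y * i * y⁻¹ = i ∨ y * i * y⁻¹ = i * z := by
    rcases h.large.comm y hy i (mem_i h.toPlus) with h2 | h2
    · left; rw [h2]; group
    · right
      rw [h2, mul_assoc i, y_z h, ← mul_assoc i z y, mul_inv_cancel_right]
  rw [h.y_act.i] at h1
  have h3 : i * j = j * i := by
    rcases h1 with h1 | h1
    · have e : j = i * z := by rw [← h1, mul_assoc, h.large.z_sq, mul_one]
      rw [e, ← mul_assoc, mul_assoc i z i, ← h.large.comm_z i (mem_i h.toPlus), ← mul_assoc]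
    · have e : j = i := mul_right_cancel h1
      rw [e]
  rw [h.ji] at h3
  exact h.large.z_ne (by simpa using h3)

theorem exists_equiv [Finite G] [IsSimpleGroup G] (h : CaseF2 Q z i j k l v y) :
    ∃ S : Sylow 2 G, Nonempty (T (2 * 2) ≃* ↥(S : Subgroup G)) := by
  classical
  have : Fact (Nat.Prime 2) := ⟨Nat.prime_two⟩
  obtain ⟨f, hQ, hyr, hC⟩ := exists_T h (y_sq h)
  have cT : Nat.card (T (2 * 2)) = 64 := by rw [T.card_T]; norm_num
  have cR : Nat.card f.range ∣ 64 := by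
    rw [← cT]
    exact Subgroup.card_range_dvd f
  have cR2 : 32 ∣ Nat.card f.range := by
    rw [← h.card]; exact Subgroup.card_dvd_of_le hQ
  have cR3 : Nat.card f.range ≠ 32 := by
    intro h1
    have : Q = f.range := Subgroup.eq_of_le_of_card_ge hQ (by rw [h1, h.card])
    exact y_not_mem h (this ▸ hyr)
  have cR4 : Nat.card f.range = 64 := by
    obtain ⟨a, ha⟩ := cR2
    rw [ha] at cR cR3 ⊢
    have h1 : a ∣ 2 := by
      have : 32 * a ∣ 32 * 2 := cR
      exact (Nat.mul_dvd_mul_iff_left (by norm_num)).1 this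
    have h2 := Nat.le_of_dvd (by norm_num) h1
    have h3 : a ≠ 0 := by rintro rfl; simp at h1
    have h4 : a ≠ 1 := by rintro rfl; exact cR3 rfl
    have : a = 2 := by omega
    rw [this]
  have hinj : Function.Injective f := by
    have h1 : Function.Bijective f.rangeRestrict := by
      rw [Nat.bijective_iff_surjective_and_card]
      exact ⟨f.rangeRestrict_surjective, by rw [cT, cR4]⟩
    intro a b hab
    exact h1.1 (Subtype.ext hab)
  have hp : IsPGroup 2 f.range := IsPGroup.of_card (n := 6) (by rw [cR4]; norm_num)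
  obtain ⟨S, hS⟩ := hp.exists_le_sylow
  have hSC := TwoCentral.le_centralizer_of_two h.large S.2 (hQ.trans hS)
  have cS : Nat.card (S : Subgroup G) ∣ 192 := by
    rw [← h.card_cent]; exact Subgroup.card_dvd_of_le hSC
  have hSeq : f.range = (S : Subgroup G) := by
    apply Subgroup.eq_of_le_of_card_ge hS
    rw [cR4]
    obtain ⟨n, hn⟩ := IsPGroup.iff_card.1 S.2
    rw [hn] at cS ⊢
    have h2 : (2 : ℕ) ^ n ∣ 64 := by
      have h3 : Nat.Coprime (2 ^ n) 3 := Nat.Coprime.pow_left n (by norm_num)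
      exact h3.dvd_of_dvd_mul_right (show 2 ^ n ∣ 64 * 3 from cS)
    exact Nat.le_of_dvd (by norm_num) h2
  exact ⟨S, ⟨(MonoidHom.ofInjective hinj).trans (MulEquiv.subgroupCongr hSeq)⟩⟩

/-- **Case F2**: `G` is the Mathieu group of degree 12; `h1741` is S1741 for `G`. -/
theorem recognize_of [Finite G] [IsSimpleGroup G] (h : CaseF2 Q z i j k l v y)
    (h1741 : ∀ (S : Sylow 2 G) (P : Sylow 2 ↥Cfsg.Spor.M12),
      Nonempty (↥(S : Subgroup G) ≃* ↥(P : Subgroup ↥Cfsg.Spor.M12)) →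
      (∃ x y : G, orderOf x = 2 ∧ orderOf y = 2 ∧ ¬ IsConj x y) → Cfsg.Spor.IsoM12 G) :
    Cfsg.Spor.IsoM12 G := by
  have : Fact (Nat.Prime 2) := ⟨Nat.prime_two⟩
  obtain ⟨S, ⟨e⟩⟩ := exists_equiv h
  obtain ⟨P⟩ : Nonempty (Sylow 2 ↥Cfsg.Spor.M12) := inferInstance
  obtain ⟨e'⟩ := Cfsg.Agent.MTwelveType.SylowModel.exists_equiv P
  obtain ⟨-, -, -, d4, -, d6⟩ := dec_four
  have h0 : i * l = hom h.toPlus (mi * ml) := by rw [map_mul, hom_i, hom_l]
  refine h1741 S P ⟨e.symm.trans e'⟩ ⟨z, i * l, Base.orderOf_z h.large, ?_, not_conj h⟩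
  apply orderOf_eq_prime
  · rw [pow_two, h0, ← map_mul, d6, map_one]
  · rw [h0]; intro h1; exact d4 (hom_injective h.toPlus (by rw [h1, map_one]))

end

end Cfsg.Agent.LargeExtra.W2.MTwelve
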