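import Cfsg.Agent.LargeExtra.W2.Iface
import Cfsg.Agent.LargeExtra.Local

/-!
# S1759, type `+`: `C / Q = 3² : 4` is impossible in case II (helper865)

If `C_G(z) / Q` has order `36` and contains `x₁, x₂` and the element `f` of order four, no conjugate of `z`
different from `z` lies in `Q`: `D̃ = (Q ∩ Q_a) / ⟨z⟩` would be a totally singular line invariant under a conjugate of
`f`, but `f` swaps the two families of such lines.
-/

set_option autoImplicit false

namespace Cfsg.Agent.LargeExtra.W2.Kill94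

open Cfsg.Agent.Co2Type.Quad Cfsg.Agent.LargeExtra.Base Cfsg.Agent.LargeExtra.Local

/-! ### the finite check -/

/-- coordinates -/
abbrev K4 : Type := ZMod 2 × ZMod 2 × ZMod 2 × ZMod 2

/-- the squaring form in coordinates -/
def qq (v : K4) : ZMod 2 :=
  v.1 + v.2.1 + v.1 * v.2.1 + (v.2.2.1 + v.2.2.2 + v.2.2.1 * v.2.2.2)

/-- the commutator form in coordinates -/
def bb (v w : K4) : ZMod 2 :=
  v.1 * w.2.1 + v.2.1 * w.1 + (v.2.2.1 * w.2.2.2 + v.2.2.2 * w.2.2.1)

/-- `x₁` in coordinates -/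
def X1 (v : K4) : K4 := (v.2.1, v.1 + v.2.1, v.2.2.1, v.2.2.2)

/-- `x₂` in coordinates -/
def X2 (v : K4) : K4 := (v.1, v.2.1, v.2.2.2, v.2.2.1 + v.2.2.2)

/-- `f` in coordinates -/
def F (v : K4) : K4 := (v.2.2.2, v.2.2.1, v.1, v.2.1)

/-- the conjugate of `f` by `x₁^m x₂^n` -/
def gg (m n : ℕ) (v : K4) : K4 := X1^[m] (X2^[n] (F (X2^[3 - n] (X1^[3 - m] v))))

/-- the check for one pair -/
def ok (v w : K4) : Bool := decide (v = 0) || decide (w = 0) || decide (w = v) || decide (qq v = 1) ||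
  decide (qq w = 1) || decide (bb v w = 1) ||
  (List.range 3).any fun m => (List.range 3).any fun n => decide (gg m n v = v) && decide (bb (gg m n w) w = 1)

set_option maxRecDepth 100000 in
theorem check : ∀ v w : K4, ok v w = true := by
  decide

theorem bb_ne : ¬ (0 : ZMod 2) = bb (1, 0, 0, 0) (0, 1, 0, 0) := by decide

/-! ### coordinates of `V` -/

section coord

variable {G : Type*} [Group G] {Q : Subgroup G} {z i j k l : G}

theorem mem_i (h : Plus Q z i j k l) : i ∈ Q := by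
  rw [h.gen]; exact Subgroup.subset_closure (by simp)

theorem mem_j (h : Plus Q z i j k l) : j ∈ Q := by
  rw [h.gen]; exact Subgroup.subset_closure (by simp)

theorem mem_k (h : Plus Q z i j k l) : k ∈ Q := by
  rw [h.gen]; exact Subgroup.subset_closure (by simp)

theorem mem_l (h : Plus Q z i j k l) : l ∈ Q := by
  rw [h.gen]; exact Subgroup.subset_closure (by simp)

/-- the vector with given coordinates -/
noncomputable def comb (h : Plus Q z i j k l) (c : K4) : h.large.V :=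
  c.1 • h.large.pr ⟨i, mem_i h⟩ + c.2.1 • h.large.pr ⟨j, mem_j h⟩ +
    (c.2.2.1 • h.large.pr ⟨k, mem_k h⟩ + c.2.2.2 • h.large.pr ⟨l, mem_l h⟩)

theorem comb_zero (h : Plus Q z i j k l) : comb h 0 = 0 := by
  simp [comb]

theorem comb_add (h : Plus Q z i j k l) (c d : K4) : comb h (c + d) = comb h c + comb h d := by
  simp only [comb, Prod.fst_add, Prod.snd_add, add_smul]
  abel

theorem comb_neg (h : Plus Q z i j k l) (c : K4) : comb h (-c) = - comb h c := by
  have h1 : comb h (-c) + comb h c = 0 := by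
    rw [← comb_add, neg_add_cancel, comb_zero]
  exact eq_neg_of_add_eq_zero_left h1

theorem comb_surjective (h : Plus Q z i j k l) : Function.Surjective (comb h) := by
  have key : ∀ g ∈ Subgroup.closure ({i, j, k, l} : Set G), ∀ hg : g ∈ Q, ∃ c, comb h c = h.large.pr ⟨g, hg⟩ := by
    intro g hg
    induction hg using Subgroup.closure_induction with
    | mem x hx =>
      intro hxQ
      simp only [Set.mem_insert_iff, Set.mem_singleton_iff] at hx
      rcases hx with rfl | rfl | rfl | rfl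
      · exact ⟨(1, 0, 0, 0), by simp [comb]⟩
      · exact ⟨(0, 1, 0, 0), by simp [comb]⟩
      · exact ⟨(0, 0, 1, 0), by simp [comb]⟩
      · exact ⟨(0, 0, 0, 1), by simp [comb]⟩
    | one => intro _; exact ⟨0, (comb_zero h).trans h.large.pr_one.symm⟩
    | mul x y hx hy ihx ihy =>
      intro hxy
      have hx' : x ∈ Q := by rw [h.gen]; exact hx
      have hy' : y ∈ Q := by rw [h.gen]; exact hy
      obtain ⟨c, hc⟩ := ihx hx'
      obtain ⟨d, hd⟩ := ihy hy'
      refine ⟨c + d, ?_⟩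
      rw [comb_add, hc, hd]
      exact (h.large.pr_mul ⟨x, hx'⟩ ⟨y, hy'⟩).symm
    | inv x hx ihx =>
      intro hxi
      have hx' : x ∈ Q := by rw [h.gen]; exact hx
      obtain ⟨c, hc⟩ := ihx hx'
      refine ⟨-c, ?_⟩
      rw [comb_neg, hc]
      exact (h.large.pr_inv ⟨x, hx'⟩).symm
  intro v
  obtain ⟨x, rfl⟩ := h.large.pr_surjective v
  have hx : (x : G) ∈ Subgroup.closure ({i, j, k, l} : Set G) := by rw [← h.gen]; exact x.2
  exact key x hx x.2

theorem zmod2 (a : ZMod 2) : a = 0 ∨ a = 1 := by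
  revert a; decide

theorem b_comb (h : Plus Q z i j k l) (c d : K4) : h.large.b (comb h c) (comb h d) = bb c d := by
  have e12 : h.large.b (h.large.pr ⟨i, mem_i h⟩) (h.large.pr ⟨j, mem_j h⟩) = 1 := by
    rw [h.large.b_comm]; exact (h.large.b_pr_one _ _).2 h.ji
  have e34 : h.large.b (h.large.pr ⟨k, mem_k h⟩) (h.large.pr ⟨l, mem_l h⟩) = 1 := by
    rw [h.large.b_comm]; exact (h.large.b_pr_one _ _).2 h.lk
  have e13 : h.large.b (h.large.pr ⟨i, mem_i h⟩) (h.large.pr ⟨k, mem_k h⟩) = 0 := by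
    rw [h.large.b_comm]; exact (h.large.b_pr _ _).2 h.ki
  have e14 : h.large.b (h.large.pr ⟨i, mem_i h⟩) (h.large.pr ⟨l, mem_l h⟩) = 0 := by
    rw [h.large.b_comm]; exact (h.large.b_pr _ _).2 h.li
  have e23 : h.large.b (h.large.pr ⟨j, mem_j h⟩) (h.large.pr ⟨k, mem_k h⟩) = 0 := by
    rw [h.large.b_comm]; exact (h.large.b_pr _ _).2 h.kj
  have e24 : h.large.b (h.large.pr ⟨j, mem_j h⟩) (h.large.pr ⟨l, mem_l h⟩) = 0 := by
    rw [h.large.b_comm]; exact (h.large.b_pr _ _).2 h.lj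
  have e21 := (h.large.b_comm (h.large.pr ⟨j, mem_j h⟩) (h.large.pr ⟨i, mem_i h⟩)).trans e12
  have e43 := (h.large.b_comm (h.large.pr ⟨l, mem_l h⟩) (h.large.pr ⟨k, mem_k h⟩)).trans e34
  have e31 := (h.large.b_comm (h.large.pr ⟨k, mem_k h⟩) (h.large.pr ⟨i, mem_i h⟩)).trans e13
  have e41 := (h.large.b_comm (h.large.pr ⟨l, mem_l h⟩) (h.large.pr ⟨i, mem_i h⟩)).trans e14
  have e32 := (h.large.b_comm (h.large.pr ⟨k, mem_k h⟩) (h.large.pr ⟨j, mem_j h⟩)).trans e23
  have e42 := (h.large.b_comm (h.large.pr ⟨l, mem_l h⟩) (h.large.pr ⟨j, mem_j h⟩)).trans e24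
  simp only [comb, map_add, map_smul, LinearMap.add_apply, LinearMap.smul_apply, smul_eq_mul, e12, e34, e13,
    e14, e23, e24, e21, e43, e31, e41, e32, e42, h.large.b_self, bb]
  ring

theorem q_comb (h : Plus Q z i j k l) (c : K4) : h.large.q (comb h c) = qq c := by
  have hq : ∀ (x : Q), (x : G) * x = z → ∀ a : ZMod 2, h.large.q (a • h.large.pr x) = a := by
    intro x hx a
    rcases zmod2 a with rfl | rfl
    · rw [zero_smul]; exact h.large.q_zero
    · rw [one_smul]; exact h.large.q_eq_one.2 hx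
  have e1 := b_comb h (c.1, 0, 0, 0) (0, c.2.1, 0, 0)
  have e2 := b_comb h (c.1, c.2.1, 0, 0) (0, 0, c.2.2.1, c.2.2.2)
  have e3 := b_comb h (0, 0, c.2.2.1, 0) (0, 0, 0, c.2.2.2)
  simp only [comb, bb, zero_smul, add_zero, zero_add, mul_zero, zero_mul] at e1 e2 e3
  rw [comb, h.large.q_add', h.large.q_add', h.large.q_add', hq _ h.ii, hq _ h.jj, hq _ h.kk, hq _ h.ll, e1, e2,
    e3, qq]
  ring

end coord

/-! ### a group of order 36 with cyclic Sylow 2-subgroups -/

theorem no_four {H : Type*} [Group H] [Finite H] (hH : Nat.card H = 36) (f : H) (hf : orderOf f = 4)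
    (X : Subgroup H) (hX : Nat.card X = 4) (hsq : ∀ x ∈ X, x * x = 1) : False := by
  have : Fact (Nat.Prime 2) := ⟨Nat.prime_two⟩
  have hfac : (Nat.card H).factorization 2 = 2 := by
    rw [hH, show (36 : ℕ) = 2 ^ 2 * 9 by norm_num, Nat.factorization_mul (by norm_num) (by norm_num),
      Nat.Prime.factorization_pow Nat.prime_two]
    rw [Finsupp.add_apply, Finsupp.single_eq_same, Nat.factorization_eq_zero_of_not_dvd (by norm_num)]
  let P : Sylow 2 H := Sylow.ofCard X (by rw [hX, hfac]; norm_num)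
  let R : Sylow 2 H := Sylow.ofCard (Subgroup.zpowers f) (by rw [Nat.card_zpowers, hf, hfac]; norm_num)
  obtain ⟨g, hg⟩ := MulAction.exists_smul_eq H P R
  have h1 : f ∈ (g • P : Sylow 2 H) := by
    rw [hg]; exact Subgroup.mem_zpowers f
  have h2 : g⁻¹ * f * g ∈ X := by
    have h3 : f ∈ ((g • P : Sylow 2 H) : Subgroup H) := h1
    rw [Sylow.coe_subgroup_smul, Subgroup.mem_pointwise_smul_iff_inv_smul_mem] at h3
    have h4 : (MulAut.conj g)⁻¹ • f = g⁻¹ * f * g := by
      rw [← map_inv]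
      show g⁻¹ * f * (g⁻¹)⁻¹ = _
      rw [inv_inv]
    rw [← h4]
    exact h3
  have h5 := hsq _ h2
  have h6 : f * f = 1 := by
    have : f * f = g * ((g⁻¹ * f * g) * (g⁻¹ * f * g)) * g⁻¹ := by group
    rw [this, h5]; group
  have h7 : orderOf f ∣ 2 := orderOf_dvd_of_pow_eq_one (by rw [pow_two]; exact h6)
  rw [hf] at h7
  exact absurd h7 (by norm_num)

/-! ### the theorem -/

theorem iter_comb {G : Type*} [Group G] {Q : Subgroup G} {z i j k l : G} (h : Plus Q z i j k l)
    {A : h.large.V ≃ₗ[ZMod 2] h.large.V} {Φ : K4 → K4} (hA : ∀ c, A (comb h c) = comb h (Φ c)) (n : ℕ) (c : K4) :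
    (A ^ n) (comb h c) = comb h (Φ^[n] c) := by
  induction n generalizing c with
  | zero => rfl
  | succ n ih =>
    rw [pow_succ, LinearEquiv.mul_apply, hA, ih, Function.iterate_succ_apply]

theorem kill94 {G : Type*} [Group G] [Finite G] {Q A : Subgroup G} {z a i j k l x₁ x₂ f : G}
    (h : Plus Q z i j k l) (p : Pair Q z A a) (h1 : Act z i j k l x₁ j (i * j) k l)
    (h2 : Act z i j k l x₂ i j l (k * l)) (hf : Act z i j k l f k l j⁻¹ i⁻¹)
    (hc : Nat.card (Subgroup.centralizer ({z} : Set G)) = 1152) : False := by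
  classical
  have hL : p.lz = h.large := rfl
  have hmem : ∀ {c i' j' k' l' : G}, Act z i j k l c i' j' k' l' → c ∈ Subgroup.centralizer ({z} : Set G) := by
    intro c i' j' k' l' hact
    exact Subgroup.mem_centralizer_singleton_iff.2 (mul_inv_eq_iff_eq_mul.1 hact.z)
  -- the three elements of `H` in coordinates
  have hA1 : ∀ c, h.large.act ⟨x₁, hmem h1⟩ (comb h c) = comb h (X1 c) := by
    intro c
    have e1 : h.large.act ⟨x₁, hmem h1⟩ (h.large.pr ⟨i, mem_i h⟩) = h.large.pr ⟨j, mem_j h⟩ :=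
      Pair.act_pr_coe h.large _ _ _ h1.i
    have e2 : h.large.act ⟨x₁, hmem h1⟩ (h.large.pr ⟨j, mem_j h⟩) =
        h.large.pr ⟨i, mem_i h⟩ + h.large.pr ⟨j, mem_j h⟩ := by
      rw [← h.large.pr_mul]
      exact Pair.act_pr_coe h.large _ _ _ h1.j
    have e3 : h.large.act ⟨x₁, hmem h1⟩ (h.large.pr ⟨k, mem_k h⟩) = h.large.pr ⟨k, mem_k h⟩ :=
      Pair.act_pr_coe h.large _ _ _ h1.k
    have e4 : h.large.act ⟨x₁, hmem h1⟩ (h.large.pr ⟨l, mem_l h⟩) = h.large.pr ⟨l, mem_l h⟩ :=
      Pair.act_pr_coe h.large _ _ _ h1.l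
    simp only [comb, map_add, map_smul, e1, e2, e3, e4, X1, add_smul, smul_add]
    abel
  have hA2 : ∀ c, h.large.act ⟨x₂, hmem h2⟩ (comb h c) = comb h (X2 c) := by
    intro c
    have e1 : h.large.act ⟨x₂, hmem h2⟩ (h.large.pr ⟨i, mem_i h⟩) = h.large.pr ⟨i, mem_i h⟩ :=
      Pair.act_pr_coe h.large _ _ _ h2.i
    have e2 : h.large.act ⟨x₂, hmem h2⟩ (h.large.pr ⟨j, mem_j h⟩) = h.large.pr ⟨j, mem_j h⟩ :=
      Pair.act_pr_coe h.large _ _ _ h2.j
    have e3 : h.large.act ⟨x₂, hmem h2⟩ (h.large.pr ⟨k, mem_k h⟩) = h.large.pr ⟨l, mem_l h⟩ :=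
      Pair.act_pr_coe h.large _ _ _ h2.k
    have e4 : h.large.act ⟨x₂, hmem h2⟩ (h.large.pr ⟨l, mem_l h⟩) =
        h.large.pr ⟨k, mem_k h⟩ + h.large.pr ⟨l, mem_l h⟩ := by
      rw [← h.large.pr_mul]
      exact Pair.act_pr_coe h.large _ _ _ h2.l
    simp only [comb, map_add, map_smul, e1, e2, e3, e4, X2, add_smul, smul_add]
    abel
  have hAf : ∀ c, h.large.act ⟨f, hmem hf⟩ (comb h c) = comb h (F c) := by
    intro c
    have e1 : h.large.act ⟨f, hmem hf⟩ (h.large.pr ⟨i, mem_i h⟩) = h.large.pr ⟨k, mem_k h⟩ :=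
      Pair.act_pr_coe h.large _ _ _ hf.i
    have e2 : h.large.act ⟨f, hmem hf⟩ (h.large.pr ⟨j, mem_j h⟩) = h.large.pr ⟨l, mem_l h⟩ :=
      Pair.act_pr_coe h.large _ _ _ hf.j
    have e3 : h.large.act ⟨f, hmem hf⟩ (h.large.pr ⟨k, mem_k h⟩) = h.large.pr ⟨j, mem_j h⟩ := by
      rw [← h.large.neg_eq (h.large.pr ⟨j, mem_j h⟩), ← h.large.pr_inv]
      exact Pair.act_pr_coe h.large _ _ _ hf.k
    have e4 : h.large.act ⟨f, hmem hf⟩ (h.large.pr ⟨l, mem_l h⟩) = h.large.pr ⟨i, mem_i h⟩ := by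
      rw [← h.large.neg_eq (h.large.pr ⟨i, mem_i h⟩), ← h.large.pr_inv]
      exact Pair.act_pr_coe h.large _ _ _ hf.l
    simp only [comb, map_add, map_smul, e1, e2, e3, e4, F]
    abel
  -- the order of `H`
  have hQC : Q ≤ Subgroup.centralizer ({z} : Set G) := fun x hx =>
    Subgroup.mem_centralizer_singleton_iff.2 (h.large.comm_z x hx)
  have hcardH : Nat.card p.H = 36 := by
    have e1 := card_img h.large (B := Subgroup.centralizer ({z} : Set G)) le_rfl
    rw [inf_eq_right.2 hQC, h.card, hc] at e1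
    have e2 : img h.large (Subgroup.centralizer ({z} : Set G)) = p.H := by
      ext g
      constructor
      · rintro ⟨c, -, rfl⟩; exact ⟨c, rfl⟩
      · rintro ⟨c, rfl⟩; exact ⟨c, c.2, rfl⟩
    rw [e2] at e1
    omega
  -- the order of `act f`
  have hof : orderOf (h.large.act ⟨f, hmem hf⟩) = 4 := by
    have : Fact (Nat.Prime 2) := ⟨Nat.prime_two⟩
    refine orderOf_eq_prime_pow (p := 2) (n := 1) ?_ ?_
    · intro he
      have e1 := iter_comb h hAf (2 ^ 1) (1, 0, 0, 0)
      rw [he] at e1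
      have e2 : comb h (1, 0, 0, 0) = comb h (0, 1, 0, 0) := e1
      have e3 := b_comb h (1, 0, 0, 0) (0, 1, 0, 0)
      rw [← e2, h.large.b_self] at e3
      exact bb_ne e3
    · apply LinearEquiv.ext
      intro v
      obtain ⟨c, rfl⟩ := comb_surjective h v
      rw [iter_comb h hAf]
      rfl
  -- there is `w ∈ D` different from `0` and `a`
  have hV : Nat.card h.large.V = 16 := by
    have := h.large.card_eq
    rw [h.card] at this
    omega
  obtain ⟨w, hwD, hw0, hwa⟩ : ∃ w ∈ p.D, w ≠ 0 ∧ w ≠ p.va := by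
    by_contra hcon
    push Not at hcon
    have hD : Nat.card p.D = 2 := by
      rw [Nat.card_eq_two_iff]
      refine ⟨0, ⟨p.va, p.va_mem_D⟩, ?_, ?_⟩
      · intro he
        exact p.va_ne (congrArg Subtype.val he).symm
      · ext v
        simp only [Set.mem_insert_iff, Set.mem_singleton_iff, Set.mem_univ, iff_true]
        by_cases hv : v = 0
        · left; exact hv
        · right
          exact Subtype.ext (hcon v v.2 fun h' => hv (Subtype.ext h'))
    have hX := p.card_X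
    rw [hD, show Nat.card p.lz.V = 16 from hV] at hX
    have hX4 : Nat.card p.X = 4 := by omega
    have hfinH : Finite p.H := Nat.finite_of_card_ne_zero (by rw [hcardH]; norm_num)
    refine no_four hcardH ⟨h.large.act ⟨f, hmem hf⟩, ⟨_, rfl⟩⟩ ?_ (p.X.subgroupOf p.H) ?_ ?_
    · rw [← hof]
      exact (Subgroup.orderOf_coe (⟨h.large.act ⟨f, hmem hf⟩, ⟨_, rfl⟩⟩ : p.H)).symm
    · rw [← hX4]
      exact Nat.card_congr (Subgroup.subgroupOfEquivOfLe p.X_le_H).toEquiv
    · intro x hx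
      exact Subtype.ext (p.X_sq (Subgroup.mem_subgroupOf.1 hx))
  -- the check
  obtain ⟨c, hcv⟩ := comb_surjective h p.va
  obtain ⟨d, rfl⟩ := comb_surjective h w
  have hchk := check c d
  have hc0 : c ≠ 0 := by
    rintro rfl
    exact p.va_ne (hcv.symm.trans (comb_zero h))
  have hd0 : d ≠ 0 := by
    rintro rfl
    exact hw0 (comb_zero h)
  have hdc : d ≠ c := by
    rintro rfl
    exact hwa hcv
  have hqc : qq c ≠ 1 := by
    rw [← q_comb h, hcv]
    intro he
    have := p.q_D p.va_mem_D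
    rw [show p.lz.q p.va = h.large.q p.va from rfl, he] at this
    exact absurd this (by decide)
  have hqd : qq d ≠ 1 := by
    rw [← q_comb h]
    intro he
    have := p.q_D hwD
    rw [show p.lz.q (comb h d) = h.large.q (comb h d) from rfl, he] at this
    exact absurd this (by decide)
  have hbcd : bb c d ≠ 1 := by
    rw [← b_comb h, hcv]
    intro he
    have := p.b_D p.va_mem_D hwD
    rw [show p.lz.b p.va (comb h d) = h.large.b p.va (comb h d) from rfl, he] at this
    exact absurd this (by decide)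
  simp only [ok, hc0, hd0, hdc, hqc, hqd, hbcd, decide_false, Bool.false_or, List.any_eq_true, List.mem_range,
    Bool.and_eq_true, decide_eq_true_eq] at hchk
  obtain ⟨m, hm, n, hn, hg1, hg2⟩ := hchk
  -- the element of `H`
  set A1 := h.large.act ⟨x₁, hmem h1⟩ with hA1d
  set A2 := h.large.act ⟨x₂, hmem h2⟩ with hA2d
  set Af := h.large.act ⟨f, hmem hf⟩ with hAfd
  have hgc : ∀ c, (A1 ^ m * (A2 ^ n * (Af * (A2 ^ (3 - n) * A1 ^ (3 - m))))) (comb h c) =
      comb h (gg m n c) := by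
    intro c
    rw [LinearEquiv.mul_apply, LinearEquiv.mul_apply, LinearEquiv.mul_apply, LinearEquiv.mul_apply,
      iter_comb h hA1, iter_comb h hA2, hAf, iter_comb h hA2, iter_comb h hA1]
    rfl
  have hgH : A1 ^ m * (A2 ^ n * (Af * (A2 ^ (3 - n) * A1 ^ (3 - m)))) ∈ p.H := by
    have m1 : A1 ∈ p.H := ⟨_, rfl⟩
    have m2 : A2 ∈ p.H := ⟨_, rfl⟩
    have m3 : Af ∈ p.H := ⟨_, rfl⟩
    exact mul_mem (pow_mem m1 _) (mul_mem (pow_mem m2 _) (mul_mem m3 (mul_mem (pow_mem m2 _) (pow_mem m1 _))))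
  have hgva : (A1 ^ m * (A2 ^ n * (Af * (A2 ^ (3 - n) * A1 ^ (3 - m))))) p.va = p.va := by
    rw [← hcv]
    exact (hgc c).trans (by rw [hg1])
  have hgD := p.D_inv hgH hgva hwD
  have hb := p.b_D hgD hwD
  rw [show p.lz.b _ (comb h d) = h.large.b _ (comb h d) from rfl, hgc, b_comb, hg2] at hb
  exact absurd hb (by decide)

/-- `C / Q ≅ 3² : 4` does not occur when `z` is not weakly closed in `Q`. -/
theorem case94_false {G : Type*} [Group G] [Finite G] {Q A : Subgroup G} {z a i j k l x₁ x₂ f : G}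
    (h : Case94 Q z i j k l x₁ x₂ f) (p : Pair Q z A a) : False := by
  have hzz : z * z = 1 := h.large.z_sq
  have hj : j * z = j⁻¹ := by
    rw [eq_inv_iff_mul_eq_one, ← h.jj]
    calc j * (j * j) * j = (j * j) * (j * j) := by group
      _ = 1 := by rw [h.jj, hzz]
  have hi : i * z = i⁻¹ := by
    rw [eq_inv_iff_mul_eq_one, ← h.ii]
    calc i * (i * i) * i = (i * i) * (i * i) := by group
      _ = 1 := by rw [h.ii, hzz]
  have hf := h.f_act
  rw [hj, hi] at hf
  exact kill94 h.toPlus p h.x₁_act h.x₂_act hf h.card_cent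

end Cfsg.Agent.LargeExtra.W2.Kill94
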