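import Cfsg.Agent.LargeExtra.W2.Iface
import Cfsg.Agent.LargeExtra.Models

/-!
# The explicit model of `Q₈ ∘ Q₈` for `Plus` (helper221)

`hom h : XG rP4 4 →* G` for `h : Plus Q z i j k l`, injective with range `Q`; conjugation by an element with
`Act z i j k l c i' j' k' l'` is a decidable map of the model (`conj_hom`).
-/

set_option autoImplicit false

namespace Cfsg.Agent.LargeExtra.W2.PlusHom

open Cfsg.Agent.Co2Type.Quad Cfsg.Agent.LargeExtra.Model Cfsg.Agent.LargeExtra.Pres
open Cfsg.Agent.LargeExtra.Models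

/-- `2₊^(1+4) = Q₈ ∘ Q₈`, generators `i, j, k, l`. -/
abbrev rP4 : ℕ → ℕ := rows [1, 3, 4, 12]

theorem nd_P4 : Nondeg rP4 4 := by decide +kernel
theorem tri_P4 : Tri rP4 4 := by decide +kernel

/-- The model. -/
abbrev M := XG rP4 4

/-- model generators -/
abbrev mi : M := q rP4 4 0
abbrev mj : M := q rP4 4 1
abbrev mk : M := q rP4 4 2
abbrev ml : M := q rP4 4 3

/-- Four elements as a sequence. -/
def gens {G : Type*} [One G] (i j k l : G) : ℕ → G
  | 0 => i
  | 1 => j
  | 2 => k
  | 3 => l
  | _ => 1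

variable {G : Type*} [Group G] {Q : Subgroup G} {z i j k l : G}

theorem z_mul (h : Plus Q z i j k l) {x : G} (hx : x ∈ Q) : x * z = z * x := h.large.comm_z x hx

theorem mem_i (h : Plus Q z i j k l) : i ∈ Q := by rw [h.gen]; exact Subgroup.subset_closure (by simp)
theorem mem_j (h : Plus Q z i j k l) : j ∈ Q := by rw [h.gen]; exact Subgroup.subset_closure (by simp)
theorem mem_k (h : Plus Q z i j k l) : k ∈ Q := by rw [h.gen]; exact Subgroup.subset_closure (by simp)
theorem mem_l (h : Plus Q z i j k l) : l ∈ Q := by rw [h.gen]; exact Subgroup.subset_closure (by simp)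

theorem rels (h : Plus Q z i j k l) : Rels rP4 4 z (gens i j k l) where
  zz := h.large.z_sq
  comm := by
    intro n hn
    have : n = 0 ∨ n = 1 ∨ n = 2 ∨ n = 3 := by omega
    rcases this with rfl | rfl | rfl | rfl
    · exact z_mul h (mem_i h)
    · exact z_mul h (mem_j h)
    · exact z_mul h (mem_k h)
    · exact z_mul h (mem_l h)
  sq := by
    intro n hn
    have : n = 0 ∨ n = 1 ∨ n = 2 ∨ n = 3 := by omega
    rcases this with rfl | rfl | rfl | rfl
    · have e : (rP4 0).testBit 0 = true := by decide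
      rw [e]; exact h.ii
    · have e : (rP4 1).testBit 1 = true := by decide
      rw [e]; exact h.jj
    · have e : (rP4 2).testBit 2 = true := by decide
      rw [e]; exact h.kk
    · have e : (rP4 3).testBit 3 = true := by decide
      rw [e]; exact h.ll
  cm := by
    intro n hn m hm
    have : (n = 1 ∧ m = 0) ∨ (n = 2 ∧ m = 0) ∨ (n = 2 ∧ m = 1) ∨ (n = 3 ∧ m = 0) ∨ (n = 3 ∧ m = 1) ∨
      (n = 3 ∧ m = 2) := by omega
    rcases this with ⟨rfl, rfl⟩ | ⟨rfl, rfl⟩ | ⟨rfl, rfl⟩ | ⟨rfl, rfl⟩ | ⟨rfl, rfl⟩ | ⟨rfl, rfl⟩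
    · have e : (rP4 1).testBit 0 = true := by decide
      rw [e]
      show j * i = z * (i * j)
      rw [h.ji]; exact z_mul h (Q.mul_mem (mem_i h) (mem_j h))
    · have e : (rP4 2).testBit 0 = false := by decide
      rw [e]
      show k * i = 1 * (i * k)
      rw [one_mul]; exact h.ki
    · have e : (rP4 2).testBit 1 = false := by decide
      rw [e]
      show k * j = 1 * (j * k)
      rw [one_mul]; exact h.kj
    · have e : (rP4 3).testBit 0 = false := by decide
      rw [e]
      show l * i = 1 * (i * l)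
      rw [one_mul]; exact h.li
    · have e : (rP4 3).testBit 1 = false := by decide
      rw [e]
      show l * j = 1 * (j * l)
      rw [one_mul]; exact h.lj
    · have e : (rP4 3).testBit 2 = true := by decide
      rw [e]
      show l * k = z * (k * l)
      rw [h.lk]; exact z_mul h (Q.mul_mem (mem_k h) (mem_l h))

/-- The homomorphism from the model to `G`. -/
def hom (h : Plus Q z i j k l) : M →* G := lift (rels h) tri_P4

theorem hom_zz (h : Plus Q z i j k l) : hom h zz = z := lift_zz _ _
theorem hom_i (h : Plus Q z i j k l) : hom h mi = i := lift_q _ _ 0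
theorem hom_j (h : Plus Q z i j k l) : hom h mj = j := lift_q _ _ 1
theorem hom_k (h : Plus Q z i j k l) : hom h mk = k := lift_q _ _ 2
theorem hom_l (h : Plus Q z i j k l) : hom h ml = l := lift_q _ _ 3

theorem hom_injective (h : Plus Q z i j k l) : Function.Injective (hom h) :=
  lift_injective _ _ nd_P4 h.large.z_ne

theorem hom_range (h : Plus Q z i j k l) : (hom h).range = Q := by
  rw [MonoidHom.range_eq_map, ← closure_q rP4 4, MonoidHom.map_closure]
  apply le_antisymm
  · rw [Subgroup.closure_le]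
    rintro _ ⟨x, (rfl | ⟨n, rfl⟩), rfl⟩
    · rw [hom_zz]; exact h.large.z_mem
    · fin_cases n
      · exact (hom_i h).symm ▸ mem_i h
      · exact (hom_j h).symm ▸ mem_j h
      · exact (hom_k h).symm ▸ mem_k h
      · exact (hom_l h).symm ▸ mem_l h
  · conv_lhs => rw [h.gen]
    rw [Subgroup.closure_le]
    intro x hx
    have hx' : x = i ∨ x = j ∨ x = k ∨ x = l := by simpa using hx
    apply Subgroup.subset_closure
    rcases hx' with rfl | rfl | rfl | rfl
    · exact ⟨mi, Or.inr ⟨0, rfl⟩, hom_i h⟩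
    · exact ⟨mj, Or.inr ⟨1, rfl⟩, hom_j h⟩
    · exact ⟨mk, Or.inr ⟨2, rfl⟩, hom_k h⟩
    · exact ⟨ml, Or.inr ⟨3, rfl⟩, hom_l h⟩

theorem hom_mem (h : Plus Q z i j k l) (x : M) : hom h x ∈ Q :=
  (hom_range h).le ⟨x, rfl⟩

theorem exists_hom (h : Plus Q z i j k l) {x : G} (hx : x ∈ Q) : ∃ m, hom h m = x :=
  (hom_range h).ge hx

theorem hom_eq_iff (h : Plus Q z i j k l) {x y : M} : hom h x = hom h y ↔ x = y :=
  (hom_injective h).eq_iff

/-- The endomorphism of the model with images `a, b, c, d` of the generators. -/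
def endo (a b c d : M) (hI : Good rP4 4 (gens a b c d)) : M →* M := lift hI.rels tri_P4

theorem endo_zz (a b c d : M) (hI : Good rP4 4 (gens a b c d)) : endo a b c d hI zz = zz := lift_zz _ _

/-- Conjugation by an element with given action on `i, j, k, l` in the model. -/
theorem conj_hom (h : Plus Q z i j k l) {c i' j' k' l' : G} (hc : Act z i j k l c i' j' k' l')
    (a b d e : M) (hI : Good rP4 4 (gens a b d e)) (ha : hom h a = i') (hb : hom h b = j')
    (hd : hom h d = k') (he : hom h e = l') (x : M) :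
    c * hom h x * c⁻¹ = hom h (endo a b d e hI x) := by
  have key : (MulAut.conj c).toMonoidHom.comp (hom h) = (hom h).comp (endo a b d e hI) := by
    apply hom_ext
    · show c * hom h zz * c⁻¹ = hom h (endo a b d e hI zz)
      rw [endo_zz, hom_zz, hc.z]
    · intro n
      show c * hom h (q rP4 4 n) * c⁻¹ = hom h (endo a b d e hI (q rP4 4 n))
      have e1 : endo a b d e hI (q rP4 4 n) = gens a b d e n.1 := lift_q _ _ n
      rw [e1]
      fin_cases n
      · show c * hom h mi * c⁻¹ = hom h a
        rw [hom_i, hc.i, ha]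
      · show c * hom h mj * c⁻¹ = hom h b
        rw [hom_j, hc.j, hb]
      · show c * hom h mk * c⁻¹ = hom h d
        rw [hom_k, hc.k, hd]
      · show c * hom h ml * c⁻¹ = hom h e
        rw [hom_l, hc.l, he]
  exact DFunLike.congr_fun key x

end Cfsg.Agent.LargeExtra.W2.PlusHom
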