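import Cfsg.Agent.LargeExtra.W2.Iface

/-!
# S1759 [A]: coordinates of an extraspecial group of order `32`

* `Symp Q z i j k l`: `i, j, k, l` is a symplectic basis of `Q / ⟨z⟩` (`[i, j] = z = [k, l]`, the pairs commute).
* `Minus Q z i j k l`: type `-`, `Q = Q₈ ∘ D₈`, `i² = j² = z`, `k² = l² = 1`.
* `exists_plus_or_minus`: `Large Q z`, `|Q| = 32` imply `Plus` or `Minus` coordinates.
* `Symp.sign`: all sign changes of `i, j, k, l` are inner in `Q`; `Symp.exists_act`, `Symp.act_unique`.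
-/

set_option autoImplicit false

namespace Cfsg.Agent.LargeExtra.W2

open Cfsg.Agent.Co2Type.Quad

variable {G : Type*} [Group G] {Q : Subgroup G} {z i j k l : G}

/-- symplectic basis of `Q / ⟨z⟩`, `|Q| = 32` -/
structure Symp (Q : Subgroup G) (z i j k l : G) : Prop where
  large : Large Q z
  card : Nat.card Q = 32
  gen : Q = Subgroup.closure {i, j, k, l}
  ji : j * i = i * j * z
  lk : l * k = k * l * z
  ki : k * i = i * k
  li : l * i = i * l
  kj : k * j = j * k
  lj : l * j = j * l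

/-- Coordinates of `Q` of type minus: `Q = Q₈ ∘ D₈ = ⟨i, j⟩ ∘ ⟨k, l⟩`. -/
structure Minus (Q : Subgroup G) (z i j k l : G) : Prop where
  large : Large Q z
  card : Nat.card Q = 32
  gen : Q = Subgroup.closure {i, j, k, l}
  ii : i * i = z
  jj : j * j = z
  kk : k * k = 1
  ll : l * l = 1
  ji : j * i = i * j * z
  lk : l * k = k * l * z
  ki : k * i = i * k
  li : l * i = i * l
  kj : k * j = j * k
  lj : l * j = j * l

theorem Plus.symp (h : Plus Q z i j k l) : Symp Q z i j k l :=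
  ⟨h.large, h.card, h.gen, h.ji, h.lk, h.ki, h.li, h.kj, h.lj⟩

theorem Minus.symp (h : Minus Q z i j k l) : Symp Q z i j k l :=
  ⟨h.large, h.card, h.gen, h.ji, h.lk, h.ki, h.li, h.kj, h.lj⟩

/-! ### elementary facts -/

theorem ac_symm (h : Large Q z) {x y : G} (hxy : x * y = y * x * z) : y * x = x * y * z := by
  rw [hxy, mul_assoc, h.z_sq, mul_one]

theorem ne_of_ac (h : Large Q z) {x y : G} (hxy : x * y = y * x * z) : x * y ≠ y * x := by
  intro he
  rw [he] at hxy
  exact h.z_ne (mul_eq_left.1 hxy.symm)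

theorem card_V (h : Large Q z) (hc : Nat.card Q = 32) : Nat.card h.V = 16 := by
  have := h.card_eq
  omega

theorem exists_ne_one_ne_z (_h : Large Q z) (hc : 2 < Nat.card Q) : ∃ x ∈ Q, x ≠ 1 ∧ x ≠ z := by
  classical
  by_contra hno
  push Not at hno
  have : Nat.card Q ≤ 2 := by
    have hf : Function.Injective (fun x : Q => decide ((x : G) = 1)) := by
      intro x y hxy
      have hxy' : ((x : G) = 1) ↔ ((y : G) = 1) := by simpa using hxy
      apply Subtype.ext
      by_cases hx : (x : G) = 1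
      · rw [hx, hxy'.1 hx]
      · rw [hno x x.2 hx, hno y y.2 (fun hy => hx (hxy'.2 hy))]
    simpa using Nat.card_le_card_of_injective _ hf
  omega

/-- a pair of noncommuting elements -/
theorem exists_pair (h : Large Q z) (hc : 2 < Nat.card Q) : ∃ x ∈ Q, ∃ y ∈ Q, y * x = x * y * z := by
  obtain ⟨x, hx, h1, h2⟩ := exists_ne_one_ne_z h hc
  by_contra hno
  push Not at hno
  rcases h.cent x hx (fun y hy => by
    rcases h.comm y hy x hx with h3 | h3
    · exact h3.symm
    · exact absurd h3 (hno x hx y hy)) with h3 | h3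
  · exact h1 h3
  · exact h2 h3

/-- normal form of a noncommuting pair -/
theorem exists_norm (h : Large Q z) {x y : G} (hx : x ∈ Q) (hy : y ∈ Q) (hxy : y * x = x * y * z) :
    ∃ x' ∈ Q, ∃ y' ∈ Q, y' * x' = x' * y' * z ∧
      ((x' * x' = z ∧ y' * y' = z) ∨ (x' * x' = 1 ∧ y' * y' = 1)) ∧
      ∀ c, c * x = x * c → c * y = y * c → c * x' = x' * c ∧ c * y' = y' * c := by
  have hxz := h.comm_z x hx
  have hyz := h.comm_z y hy
  have hsq : (x * y) * (x * y) = x * x * (y * y) * z := by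
    calc (x * y) * (x * y) = x * (y * x) * y := by group
      _ = x * (x * y * z) * y := by rw [hxy]
      _ = x * x * y * (z * y) := by group
      _ = x * x * y * (y * z) := by rw [hyz]
      _ = x * x * (y * y) * z := by group
  have hc : ∀ c, c * x = x * c → c * y = y * c → c * (x * y) = x * y * c := by
    intro c h1 h2
    rw [← mul_assoc, h1, mul_assoc, h2, mul_assoc]
  rcases h.sq x hx with h1 | h1 <;> rcases h.sq y hy with h2 | h2
  · exact ⟨x, hx, y, hy, hxy, Or.inr ⟨h1, h2⟩, fun c h3 h4 => ⟨h3, h4⟩⟩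
  · refine ⟨x, hx, x * y, Q.mul_mem hx hy, ?_, Or.inr ⟨h1, ?_⟩, fun c h3 h4 => ⟨h3, hc c h3 h4⟩⟩
    · rw [mul_assoc x y x, hxy]; group
    · rw [hsq, h1, h2, one_mul, h.z_sq]
  · refine ⟨x * y, Q.mul_mem hx hy, y, hy, ?_, Or.inr ⟨?_, h2⟩, fun c h3 h4 => ⟨hc c h3 h4, h4⟩⟩
    · rw [← mul_assoc, hxy]
      calc x * y * z * y = x * y * (z * y) := by group
        _ = x * y * (y * z) := by rw [hyz]
        _ = x * y * y * z := by group
    · rw [hsq, h1, h2, mul_one, h.z_sq]
  · exact ⟨x, hx, y, hy, hxy, Or.inl ⟨h1, h2⟩, fun c h3 h4 => ⟨h3, h4⟩⟩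

/-- projection to the centraliser of a noncommuting pair -/
theorem exists_proj (h : Large Q z) {x y : G} (hx : x ∈ Q) (hy : y ∈ Q) (hxy : y * x = x * y * z)
    {q : G} (hq : q ∈ Q) : ∃ r ∈ Q, ∃ x', (x' = 1 ∨ x' = x) ∧ ∃ y', (y' = 1 ∨ y' = y) ∧ q = r * x' * y' ∧
      r * x = x * r ∧ r * y = y * r := by
  have hxz := h.comm_z x hx
  have hyz := h.comm_z y hy
  have hqz := h.comm_z q hq
  have hyx : x * y = y * x * z := ac_symm h hxy
  have hxiz : x⁻¹ * z = z * x⁻¹ := (h.commz hx).inv_left.eq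
  have hyiz : y⁻¹ * z = z * y⁻¹ := (h.commz hy).inv_left.eq
  have hxy' : x * y⁻¹ = y⁻¹ * x * z := by
    rw [mul_inv_eq_iff_eq_mul]
    calc x = y⁻¹ * (y * x) := by group
      _ = y⁻¹ * (x * y * z) := by rw [hxy]
      _ = y⁻¹ * x * (y * z) := by group
      _ = y⁻¹ * x * (z * y) := by rw [hyz]
      _ = y⁻¹ * x * z * y := by group
  have hyx' : y * x⁻¹ = x⁻¹ * y * z := by
    rw [mul_inv_eq_iff_eq_mul]
    calc y = x⁻¹ * (x * y) := by group
      _ = x⁻¹ * (y * x * z) := by rw [hyx]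
      _ = x⁻¹ * y * (x * z) := by group
      _ = x⁻¹ * y * (z * x) := by rw [hxz]
      _ = x⁻¹ * y * z * x := by group
  -- first make the element commute with `x`
  have step1 : ∃ r ∈ Q, ∃ y', (y' = 1 ∨ y' = y) ∧ q = r * y' ∧ r * x = x * r := by
    rcases h.comm q hq x hx with h1 | h1
    · exact ⟨q, hq, 1, Or.inl rfl, by simp, h1⟩
    · refine ⟨q * y⁻¹, Q.mul_mem hq (Q.inv_mem hy), y, Or.inr rfl, by group, ?_⟩
      calc q * y⁻¹ * x = q * (y⁻¹ * x) := by group
        _ = q * (x * y⁻¹ * z) := by rw [ac_symm h hxy']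
        _ = (q * x) * (y⁻¹ * z) := by group
        _ = (x * q * z) * (y⁻¹ * z) := by rw [h1]
        _ = x * q * (z * (y⁻¹ * z)) := by group
        _ = x * q * (z * (z * y⁻¹)) := by rw [hyiz]
        _ = x * q * (z * z) * y⁻¹ := by group
        _ = x * (q * y⁻¹) := by rw [h.z_sq]; group
  obtain ⟨r, hr, y', hy', hqr, hrx⟩ := step1
  rcases h.comm r hr y hy with h1 | h1
  · exact ⟨r, hr, 1, Or.inl rfl, y', hy', by rw [hqr]; group, hrx, h1⟩
  · refine ⟨r * x⁻¹, Q.mul_mem hr (Q.inv_mem hx), x, Or.inr rfl, y', hy', by rw [hqr]; group, ?_, ?_⟩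
    · rw [inv_mul_cancel_right, ← mul_assoc, ← hrx, mul_inv_cancel_right]
    · calc r * x⁻¹ * y = r * (x⁻¹ * y) := by group
        _ = r * (y * x⁻¹ * z) := by rw [ac_symm h hyx']
        _ = (r * y) * (x⁻¹ * z) := by group
        _ = (y * r * z) * (x⁻¹ * z) := by rw [h1]
        _ = y * r * (z * (x⁻¹ * z)) := by group
        _ = y * r * (z * (z * x⁻¹)) := by rw [hxiz]
        _ = y * r * (z * z) * x⁻¹ := by group
        _ = y * (r * x⁻¹) := by rw [h.z_sq]; group

/-- the second pair -/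
theorem exists_second (h : Large Q z) (hc : Nat.card Q = 32) {x y : G} (hx : x ∈ Q) (hy : y ∈ Q)
    (hxy : y * x = x * y * z) :
    ∃ u ∈ Q, ∃ v ∈ Q, v * u = u * v * z ∧ u * x = x * u ∧ u * y = y * u ∧ v * x = x * v ∧ v * y = y * v := by
  classical
  -- a nontrivial `u`
  have hu : ∃ u ∈ Q, u ≠ 1 ∧ u ≠ z ∧ u * x = x * u ∧ u * y = y * u := by
    by_contra hno
    push Not at hno
    have h4 : ∀ w : h.V, w = 0 ∨ w = h.pr ⟨x, hx⟩ ∨ w = h.pr ⟨y, hy⟩ ∨ w = h.pr ⟨x, hx⟩ + h.pr ⟨y, hy⟩ := by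
      intro w
      obtain ⟨q, rfl⟩ := h.pr_surjective w
      obtain ⟨r, hr, x', hx', y', hy', hq, h1, h2⟩ := exists_proj h hx hy hxy q.2
      have hr0 : h.pr ⟨r, hr⟩ = 0 := by
        rw [h.pr_eq_zero]
        by_contra h3
        push Not at h3
        exact hno r hr h3.1 h3.2 h1 h2
      have hx'Q : x' ∈ Q := by
        rcases hx' with h3 | h3
        · rw [h3]; exact Q.one_mem
        · rw [h3]; exact hx
      have hy'Q : y' ∈ Q := by
        rcases hy' with h3 | h3
        · rw [h3]; exact Q.one_mem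
        · rw [h3]; exact hy
      have hqe : q = ⟨r, hr⟩ * ⟨x', hx'Q⟩ * ⟨y', hy'Q⟩ := Subtype.ext hq
      rw [hqe, h.pr_mul, h.pr_mul, hr0, zero_add]
      have hx0 : h.pr ⟨x', hx'Q⟩ = 0 ∨ h.pr ⟨x', hx'Q⟩ = h.pr ⟨x, hx⟩ := by
        rcases hx' with h3 | h3
        · left; rw [h.pr_eq_zero]; left; exact h3
        · right; rw [h.pr_eq_pr]; left; exact h3
      have hy0 : h.pr ⟨y', hy'Q⟩ = 0 ∨ h.pr ⟨y', hy'Q⟩ = h.pr ⟨y, hy⟩ := by
        rcases hy' with h3 | h3
        · left; rw [h.pr_eq_zero]; left; exact h3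
        · right; rw [h.pr_eq_pr]; left; exact h3
      rcases hx0 with h3 | h3 <;> rcases hy0 with h5 | h5 <;> rw [h3, h5]
      · left; simp
      · right; right; left; simp
      · right; left; simp
      · right; right; right; rfl
    have hle : Nat.card h.V ≤ 4 := by
      have hsurj : Function.Surjective (fun p : Bool × Bool =>
          (if p.1 then h.pr ⟨x, hx⟩ else 0) + (if p.2 then h.pr ⟨y, hy⟩ else 0) : Bool × Bool → h.V) := by
        intro w
        rcases h4 w with h5 | h5 | h5 | h5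
        · exact ⟨(false, false), by simp [h5]⟩
        · exact ⟨(true, false), by simp [h5]⟩
        · exact ⟨(false, true), by simp [h5]⟩
        · exact ⟨(true, true), by simp [h5]⟩
      have := Nat.card_le_card_of_surjective _ hsurj
      simpa using this
    rw [card_V h hc] at hle
    omega
  obtain ⟨u, hu, hu1, huz, hux, huy⟩ := hu
  -- an element not commuting with `u`
  have hv : ∃ v ∈ Q, v * u = u * v * z := by
    by_contra hno
    push Not at hno
    rcases h.cent u hu (fun y hy => by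
      rcases h.comm y hy u hu with h3 | h3
      · exact h3.symm
      · exact absurd h3 (hno y hy)) with h3 | h3
    · exact hu1 h3
    · exact huz h3
  obtain ⟨v, hv, hvu⟩ := hv
  obtain ⟨r, hr, x', hx', y', hy', hq, h1, h2⟩ := exists_proj h hx hy hxy hv
  refine ⟨u, hu, r, hr, ?_, hux, huy, h1, h2⟩
  rcases h.comm r hr u hu with h3 | h3
  · exfalso
    apply ne_of_ac h hvu
    have hx'u : x' * u = u * x' := by
      rcases hx' with h4 | h4 <;> rw [h4]
      · simp
      · exact hux.symm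
    have hy'u : y' * u = u * y' := by
      rcases hy' with h4 | h4 <;> rw [h4]
      · simp
      · exact huy.symm
    calc v * u = r * x' * (y' * u) := by rw [hq]; group
      _ = r * (x' * u) * y' := by rw [hy'u]; group
      _ = (r * u) * x' * y' := by rw [hx'u]; group
      _ = u * (r * x' * y') := by rw [h3]; group
      _ = u * v := by rw [hq]
  · exact h3

/-! ### normal form of the elements of `Q` -/

/-- `(ZMod 2)⁴ → V` -/
noncomputable def comb (h : Large Q z) (x y u v : Q) (c : Fin 4 → ZMod 2) : h.V :=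
  c 0 • h.pr x + c 1 • h.pr y + c 2 • h.pr u + c 3 • h.pr v

theorem comb_bijective (h : Large Q z) (hc : Nat.card Q = 32) {x y u v : Q}
    (hyx : (y : G) * x = x * y * z) (hvu : (v : G) * u = u * v * z) (hux : (u : G) * x = x * u)
    (huy : (u : G) * y = y * u) (hvx : (v : G) * x = x * v) (hvy : (v : G) * y = y * v) :
    Function.Bijective (comb h x y u v) := by
  have bxy : h.b (h.pr x) (h.pr y) = 1 := by
    rw [h.b_pr_one]; exact ac_symm h hyx
  have byx : h.b (h.pr y) (h.pr x) = 1 := by rw [h.b_pr_one]; exact hyx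
  have buv : h.b (h.pr u) (h.pr v) = 1 := by
    rw [h.b_pr_one]; exact ac_symm h hvu
  have bvu : h.b (h.pr v) (h.pr u) = 1 := by rw [h.b_pr_one]; exact hvu
  have bux : h.b (h.pr u) (h.pr x) = 0 := by rw [h.b_pr]; exact hux
  have buy : h.b (h.pr u) (h.pr y) = 0 := by rw [h.b_pr]; exact huy
  have bvx : h.b (h.pr v) (h.pr x) = 0 := by rw [h.b_pr]; exact hvx
  have bvy : h.b (h.pr v) (h.pr y) = 0 := by rw [h.b_pr]; exact hvy
  have bxu : h.b (h.pr x) (h.pr u) = 0 := by rw [h.b_pr]; exact hux.symm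
  have byu : h.b (h.pr y) (h.pr u) = 0 := by rw [h.b_pr]; exact huy.symm
  have bxv : h.b (h.pr x) (h.pr v) = 0 := by rw [h.b_pr]; exact hvx.symm
  have byv : h.b (h.pr y) (h.pr v) = 0 := by rw [h.b_pr]; exact hvy.symm
  have e : ∀ (c : Fin 4 → ZMod 2) (w : h.V), h.b (comb h x y u v c) w =
      c 0 * h.b (h.pr x) w + c 1 * h.b (h.pr y) w + c 2 * h.b (h.pr u) w + c 3 * h.b (h.pr v) w := by
    intro c w
    simp only [comb, map_add, LinearMap.add_apply, map_smul, LinearMap.smul_apply, smul_eq_mul]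
  have hinj : Function.Injective (comb h x y u v) := by
    intro c c' hcc
    have h0 := e c (h.pr y)
    have h0' := e c' (h.pr y)
    have h1 := e c (h.pr x)
    have h1' := e c' (h.pr x)
    have h2 := e c (h.pr v)
    have h2' := e c' (h.pr v)
    have h3 := e c (h.pr u)
    have h3' := e c' (h.pr u)
    rw [hcc] at h0 h1 h2 h3
    rw [h0'] at h0
    rw [h1'] at h1
    rw [h2'] at h2
    rw [h3'] at h3
    simp only [bxy, byx, buv, bvu, bux, buy, bvx, bvy, bxu, byu, bxv, byv, h.b_self, mul_one, mul_zero,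
      add_zero, zero_add] at h0 h1 h2 h3
    funext t
    fin_cases t
    · exact h0.symm
    · exact h1.symm
    · exact h2.symm
    · exact h3.symm
  have hfin : Finite Q := Nat.finite_of_card_ne_zero (by omega)
  refine hinj.bijective_of_nat_card_le ?_
  rw [card_V h hc]
  simp

theorem normal_form (h : Large Q z) (hc : Nat.card Q = 32) {x y u v : G} (hx : x ∈ Q) (hy : y ∈ Q)
    (hu : u ∈ Q) (hv : v ∈ Q)
    (hyx : y * x = x * y * z) (hvu : v * u = u * v * z) (hux : u * x = x * u)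
    (huy : u * y = y * u) (hvx : v * x = x * v) (hvy : v * y = y * v) {q : G} (hq : q ∈ Q) :
    ∃ x', (x' = 1 ∨ x' = x) ∧ ∃ y', (y' = 1 ∨ y' = y) ∧ ∃ u', (u' = 1 ∨ u' = u) ∧ ∃ v', (v' = 1 ∨ v' = v) ∧
      ∃ t, (t = 1 ∨ t = z) ∧ q = x' * y' * u' * v' * t := by
  have hbij := comb_bijective h hc (x := ⟨x, hx⟩) (y := ⟨y, hy⟩) (u := ⟨u, hu⟩) (v := ⟨v, hv⟩)
    hyx hvu hux huy hvx hvy
  obtain ⟨c, hcq⟩ := hbij.2 (h.pr ⟨q, hq⟩)
  have h01 : ∀ a : ZMod 2, a = 0 ∨ a = 1 := by decide
  have key : ∀ (a : ZMod 2) (w : Q), ∃ w' : Q, ((w' : G) = 1 ∨ (w' : G) = w) ∧ a • h.pr w = h.pr w' := by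
    intro a w
    rcases h01 a with ha | ha
    · exact ⟨1, Or.inl rfl, by rw [ha, zero_smul, h.pr_one]⟩
    · exact ⟨w, Or.inr rfl, by rw [ha, one_smul]⟩
  obtain ⟨x', hx', ex⟩ := key (c 0) ⟨x, hx⟩
  obtain ⟨y', hy', ey⟩ := key (c 1) ⟨y, hy⟩
  obtain ⟨u', hu', eu⟩ := key (c 2) ⟨u, hu⟩
  obtain ⟨v', hv', ev⟩ := key (c 3) ⟨v, hv⟩
  have h1 : h.pr ⟨q, hq⟩ = h.pr (x' * y' * u' * v') := by
    rw [← hcq, comb, ex, ey, eu, ev, h.pr_mul, h.pr_mul, h.pr_mul]
  refine ⟨x', hx', y', hy', u', hu', v', hv', ?_⟩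
  rcases h.pr_eq_pr.1 h1 with h2 | h2
  · exact ⟨1, Or.inl rfl, by rw [mul_one]; exact h2⟩
  · exact ⟨z, Or.inr rfl, h2⟩

theorem closure_eq (h : Large Q z) (hc : Nat.card Q = 32) {x y u v : G} (hx : x ∈ Q) (hy : y ∈ Q)
    (hu : u ∈ Q) (hv : v ∈ Q)
    (hyx : y * x = x * y * z) (hvu : v * u = u * v * z) (hux : u * x = x * u)
    (huy : u * y = y * u) (hvx : v * x = x * v) (hvy : v * y = y * v) :
    Q = Subgroup.closure {x, y, u, v} := by
  apply le_antisymm
  · intro q hq
    obtain ⟨x', hx', y', hy', u', hu', v', hv', t, ht, rfl⟩ :=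
      normal_form h hc hx hy hu hv hyx hvu hux huy hvx hvy hq
    have mx : x ∈ Subgroup.closure ({x, y, u, v} : Set G) := Subgroup.subset_closure (by simp)
    have my : y ∈ Subgroup.closure ({x, y, u, v} : Set G) := Subgroup.subset_closure (by simp)
    have mu : u ∈ Subgroup.closure ({x, y, u, v} : Set G) := Subgroup.subset_closure (by simp)
    have mv : v ∈ Subgroup.closure ({x, y, u, v} : Set G) := Subgroup.subset_closure (by simp)
    have mz : z ∈ Subgroup.closure ({x, y, u, v} : Set G) := by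
      have : z = (x * y)⁻¹ * (y * x) := by rw [hyx]; group
      rw [this]
      exact Subgroup.mul_mem _ (Subgroup.inv_mem _ (Subgroup.mul_mem _ mx my)) (Subgroup.mul_mem _ my mx)
    have aux : ∀ {a b : G}, (a = 1 ∨ a = b) → b ∈ Subgroup.closure ({x, y, u, v} : Set G) →
        a ∈ Subgroup.closure ({x, y, u, v} : Set G) := by
      rintro a b (rfl | rfl) hb
      · exact Subgroup.one_mem _
      · exact hb
    exact Subgroup.mul_mem _ (Subgroup.mul_mem _ (Subgroup.mul_mem _ (Subgroup.mul_mem _ (aux hx' mx)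
      (aux hy' my)) (aux hu' mu)) (aux hv' mv)) (aux ht mz)
  · rw [Subgroup.closure_le]
    rintro w hw
    simp only [Set.mem_insert_iff, Set.mem_singleton_iff] at hw
    rcases hw with rfl | rfl | rfl | rfl <;> assumption

namespace Symp

theorem zi (h : Symp Q z i j k l) : z ∈ Q := h.large.z_mem

theorem mem_i (h : Symp Q z i j k l) : i ∈ Q := by
  rw [h.gen]; exact Subgroup.subset_closure (by simp)

theorem mem_j (h : Symp Q z i j k l) : j ∈ Q := by
  rw [h.gen]; exact Subgroup.subset_closure (by simp)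

theorem mem_k (h : Symp Q z i j k l) : k ∈ Q := by
  rw [h.gen]; exact Subgroup.subset_closure (by simp)

theorem mem_l (h : Symp Q z i j k l) : l ∈ Q := by
  rw [h.gen]; exact Subgroup.subset_closure (by simp)

/-- constructor without `gen` -/
theorem mk' (h : Large Q z) (hc : Nat.card Q = 32) {x y u v : G} (hx : x ∈ Q) (hy : y ∈ Q)
    (hu : u ∈ Q) (hv : v ∈ Q)
    (hyx : y * x = x * y * z) (hvu : v * u = u * v * z) (hux : u * x = x * u)
    (huy : u * y = y * u) (hvx : v * x = x * v) (hvy : v * y = y * v) : Symp Q z x y u v :=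
  ⟨h, hc, closure_eq h hc hx hy hu hv hyx hvu hux huy hvx hvy, hyx, hvu, hux, hvx, huy, hvy⟩

/-- the normal form `i^a j^b k^c l^d z^e` -/
theorem exists_form (h : Symp Q z i j k l) {q : G} (hq : q ∈ Q) :
    ∃ a : Fin 2, ∃ b : Fin 2, ∃ c : Fin 2, ∃ d : Fin 2, ∃ e : Fin 2,
      q = i ^ (a : ℕ) * j ^ (b : ℕ) * k ^ (c : ℕ) * l ^ (d : ℕ) * z ^ (e : ℕ) := by
  obtain ⟨x', hx', y', hy', u', hu', v', hv', t, ht, hq'⟩ :=
    normal_form h.large h.card h.mem_i h.mem_j h.mem_k h.mem_l h.ji h.lk h.ki h.kj h.li h.lj hq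
  have aux : ∀ {a b : G}, (a = 1 ∨ a = b) → ∃ n : Fin 2, a = b ^ (n : ℕ) := by
    rintro a b (rfl | rfl)
    · exact ⟨0, by simp⟩
    · exact ⟨1, by simp⟩
  obtain ⟨a, ea⟩ := aux hx'
  obtain ⟨b, eb⟩ := aux hy'
  obtain ⟨c, ec⟩ := aux hu'
  obtain ⟨d, ed⟩ := aux hv'
  obtain ⟨e, ee⟩ := aux ht
  exact ⟨a, b, c, d, e, by rw [hq', ea, eb, ec, ed, ee]⟩

/-- an element commuting with `i, j, k, l` centralises `Q` -/
theorem comm_of_comm (h : Symp Q z i j k l) {c : G} (hi : c * i = i * c) (hj : c * j = j * c)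
    (hk : c * k = k * c) (hl : c * l = l * c) : ∀ x ∈ Q, c * x = x * c := by
  intro x hx
  rw [h.gen] at hx
  have hle : Subgroup.closure ({i, j, k, l} : Set G) ≤ Subgroup.centralizer ({c} : Set G) := by
    rw [Subgroup.closure_le]
    rintro w hw
    simp only [Set.mem_insert_iff, Set.mem_singleton_iff] at hw
    rw [SetLike.mem_coe, Subgroup.mem_centralizer_singleton_iff]
    rcases hw with rfl | rfl | rfl | rfl
    · exact hi.symm
    · exact hj.symm
    · exact hk.symm
    · exact hl.symm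
  exact (Subgroup.mem_centralizer_singleton_iff.1 (hle hx)).symm

/-- sign changes are inner -/
theorem sign (h : Symp Q z i j k l) {i' j' k' l' : G} (hi : i' = i ∨ i' = i * z) (hj : j' = j ∨ j' = j * z)
    (hk : k' = k ∨ k' = k * z) (hl : l' = l ∨ l' = l * z) : ∃ c ∈ Q, Act z i j k l c i' j' k' l' := by
  have hL := h.large
  have hiz := hL.comm_z i h.mem_i
  have hjz := hL.comm_z j h.mem_j
  have hkz := hL.comm_z k h.mem_k
  have hlz := hL.comm_z l h.mem_l
  have hij : i * j = j * i * z := ac_symm hL h.ji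
  have hkl : k * l = l * k * z := ac_symm hL h.lk
  -- conjugation facts
  have conj_of : ∀ {a b : G}, a * b = b * a → a * b * a⁻¹ = b := by
    intro a b hab; rw [hab]; group
  have conj_ac : ∀ {a b : G}, a * z = z * a → a * b = b * a * z → a * b * a⁻¹ = b * z := by
    intro a b haz hab
    rw [hab, mul_assoc (b * a) z, mul_assoc b a, ← mul_assoc a z, haz]; group
  have cz : ∀ {a b : G}, a * z = z * a → a * (b * z) * a⁻¹ = (a * b * a⁻¹) * z := by
    intro a b haz
    have : z * a⁻¹ = a⁻¹ * z := by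
      rw [eq_inv_mul_iff_mul_eq, ← mul_assoc, haz, mul_assoc, mul_inv_cancel, mul_one]
    calc a * (b * z) * a⁻¹ = a * b * (z * a⁻¹) := by group
      _ = a * b * (a⁻¹ * z) := by rw [this]
      _ = _ := by group
  -- it suffices to realise the four generators
  have actz : ∀ {c : G}, c ∈ Q → c * z * c⁻¹ = z := by
    intro c hc
    rw [hL.comm_z c hc]; group
  -- composition
  have comp : ∀ {c d i₁ j₁ k₁ l₁ : G} (si sj sk sl ti tj tk tl : G),
      (si = 1 ∨ si = z) → (sj = 1 ∨ sj = z) → (sk = 1 ∨ sk = z) → (sl = 1 ∨ sl = z) →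
      c ∈ Q → d ∈ Q →
      Act z i j k l c (i * si) (j * sj) (k * sk) (l * sl) →
      Act z i j k l d (i * ti) (j * tj) (k * tk) (l * tl) →
      i₁ = i * ti * si → j₁ = j * tj * sj → k₁ = k * tk * sk → l₁ = l * tl * sl →
      Act z i j k l (d * c) i₁ j₁ k₁ l₁ := by
    intro c d i₁ j₁ k₁ l₁ si sj sk sl ti tj tk tl hsi hsj hsk hsl hc hd h1 h2 e1 e2 e3 e4
    have ds : ∀ {s : G}, (s = 1 ∨ s = z) → d * s * d⁻¹ = s := by
      rintro s (rfl | rfl)
      · group
      · exact actz hd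
    have step : ∀ {a a' s : G}, (s = 1 ∨ s = z) → c * a * c⁻¹ = a * s → d * a * d⁻¹ = a' →
        (d * c) * a * (d * c)⁻¹ = a' * s := by
      intro a a' s hs h3 h4
      calc (d * c) * a * (d * c)⁻¹ = d * (c * a * c⁻¹) * d⁻¹ := by group
        _ = d * (a * s) * d⁻¹ := by rw [h3]
        _ = (d * a * d⁻¹) * (d * s * d⁻¹) := by group
        _ = a' * s := by rw [h4, ds hs]
    refine ⟨actz (Q.mul_mem hd hc), ?_, ?_, ?_, ?_⟩
    · rw [e1]; exact step hsi h1.i h2.i
    · rw [e2]; exact step hsj h1.j h2.j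
    · rw [e3]; exact step hsk h1.k h2.k
    · rw [e4]; exact step hsl h1.l h2.l
  have aj : Act z i j k l j (i * z) (j * 1) (k * 1) (l * 1) :=
    ⟨actz h.mem_j, conj_ac hjz h.ji, by group, by rw [mul_one]; exact conj_of h.kj.symm,
      by rw [mul_one]; exact conj_of h.lj.symm⟩
  have ai : Act z i j k l i (i * 1) (j * z) (k * 1) (l * 1) :=
    ⟨actz h.mem_i, by group, conj_ac hiz hij, by rw [mul_one]; exact conj_of h.ki.symm,
      by rw [mul_one]; exact conj_of h.li.symm⟩
  have al : Act z i j k l l (i * 1) (j * 1) (k * z) (l * 1) :=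
    ⟨actz h.mem_l, by rw [mul_one]; exact conj_of h.li, by rw [mul_one]; exact conj_of h.lj,
      conj_ac hlz h.lk, by group⟩
  have ak : Act z i j k l k (i * 1) (j * 1) (k * 1) (l * z) :=
    ⟨actz h.mem_k, by rw [mul_one]; exact conj_of h.ki, by rw [mul_one]; exact conj_of h.kj,
      by group, conj_ac hkz hkl⟩
  have a1 : Act z i j k l 1 (i * 1) (j * 1) (k * 1) (l * 1) :=
    ⟨by group, by group, by group, by group, by group⟩
  -- signs of `i`
  have st : ∀ {a a' : G}, (a' = a ∨ a' = a * z) → ∃ s, (s = 1 ∨ s = z) ∧ a' = a * s := by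
    rintro a a' (rfl | rfl)
    · exact ⟨1, Or.inl rfl, by simp⟩
    · exact ⟨z, Or.inr rfl, rfl⟩
  obtain ⟨si, hsi, rfl⟩ := st hi
  obtain ⟨sj, hsj, rfl⟩ := st hj
  obtain ⟨sk, hsk, rfl⟩ := st hk
  obtain ⟨sl, hsl, rfl⟩ := st hl
  have o1 : (1 : G) = 1 ∨ (1 : G) = z := Or.inl rfl
  have Ai : ∃ c ∈ Q, Act z i j k l c (i * si) (j * 1) (k * 1) (l * 1) := by
    rcases hsi with rfl | rfl
    · exact ⟨1, Q.one_mem, a1⟩
    · exact ⟨j, h.mem_j, aj⟩
  have Aj : ∃ c ∈ Q, Act z i j k l c (i * 1) (j * sj) (k * 1) (l * 1) := by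
    rcases hsj with rfl | rfl
    · exact ⟨1, Q.one_mem, a1⟩
    · exact ⟨i, h.mem_i, ai⟩
  have Ak : ∃ c ∈ Q, Act z i j k l c (i * 1) (j * 1) (k * sk) (l * 1) := by
    rcases hsk with rfl | rfl
    · exact ⟨1, Q.one_mem, a1⟩
    · exact ⟨l, h.mem_l, al⟩
  have Al : ∃ c ∈ Q, Act z i j k l c (i * 1) (j * 1) (k * 1) (l * sl) := by
    rcases hsl with rfl | rfl
    · exact ⟨1, Q.one_mem, a1⟩
    · exact ⟨k, h.mem_k, ak⟩
  obtain ⟨ci, mci, Ai⟩ := Ai
  obtain ⟨cj, mcj, Aj⟩ := Aj
  obtain ⟨ck, mck, Ak⟩ := Ak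
  obtain ⟨cl, mcl, Al⟩ := Al
  have A1 : Act z i j k l (cj * ci) (i * si) (j * sj) (k * 1) (l * 1) :=
    comp si 1 1 1 1 sj 1 1 hsi o1 o1 o1 mci mcj Ai Aj (by group) (by group) (by group) (by group)
  have A2 : Act z i j k l (ck * (cj * ci)) (i * si) (j * sj) (k * sk) (l * 1) :=
    comp si sj 1 1 1 1 sk 1 hsi hsj o1 o1 (Q.mul_mem mcj mci) mck A1 Ak
      (by group) (by group) (by group) (by group)
  have A3 : Act z i j k l (cl * (ck * (cj * ci))) (i * si) (j * sj) (k * sk) (l * sl) :=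
    comp si sj sk 1 1 1 1 sl hsi hsj hsk o1 (Q.mul_mem mck (Q.mul_mem mcj mci)) mcl A2 Al
      (by group) (by group) (by group) (by group)
  exact ⟨_, Q.mul_mem mcl (Q.mul_mem mck (Q.mul_mem mcj mci)), A3⟩

/-- conjugate coordinates -/
theorem conj (h : Symp Q z i j k l) {g : G} (hg : g * z = z * g) :
    Symp Q z (g * i * g⁻¹) (g * j * g⁻¹) (g * k * g⁻¹) (g * l * g⁻¹) := by
  have hgz : g * z * g⁻¹ = z := by rw [hg]; group
  have hm : ∀ {a : G}, a ∈ Q → g * a * g⁻¹ ∈ Q := fun {a} ha => h.large.conj_mem g hg a ha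
  have hac : ∀ {a b : G}, b * a = a * b * z → (g * b * g⁻¹) * (g * a * g⁻¹) = (g * a * g⁻¹) * (g * b * g⁻¹) * z := by
    intro a b hab
    calc (g * b * g⁻¹) * (g * a * g⁻¹) = g * (b * a) * g⁻¹ := by group
      _ = g * (a * b * z) * g⁻¹ := by rw [hab]
      _ = (g * a * g⁻¹) * (g * b * g⁻¹) * (g * z * g⁻¹) := by group
      _ = _ := by rw [hgz]
  have hcc : ∀ {a b : G}, b * a = a * b → (g * b * g⁻¹) * (g * a * g⁻¹) = (g * a * g⁻¹) * (g * b * g⁻¹) := by
    intro a b hab
    calc (g * b * g⁻¹) * (g * a * g⁻¹) = g * (b * a) * g⁻¹ := by group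
      _ = g * (a * b) * g⁻¹ := by rw [hab]
      _ = _ := by group
  exact mk' h.large h.card (hm h.mem_i) (hm h.mem_j) (hm h.mem_k) (hm h.mem_l) (hac h.ji) (hac h.lk)
    (hcc h.ki) (hcc h.kj) (hcc h.li) (hcc h.lj)

/-- every action up to signs is corrected by an element of `Q` -/
theorem exists_act (h : Symp Q z i j k l) {g i' j' k' l' : G} (hg : g * z = z * g)
    (hi : g * i * g⁻¹ = i' ∨ g * i * g⁻¹ = i' * z) (hj : g * j * g⁻¹ = j' ∨ g * j * g⁻¹ = j' * z)
    (hk : g * k * g⁻¹ = k' ∨ g * k * g⁻¹ = k' * z) (hl : g * l * g⁻¹ = l' ∨ g * l * g⁻¹ = l' * z) :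
    ∃ c ∈ Q, Act z i j k l (c * g) i' j' k' l' := by
  have hz := h.large.z_sq
  have fl : ∀ {a a' : G}, (a = a' ∨ a = a' * z) → (a' = a ∨ a' = a * z) := by
    rintro a a' (rfl | rfl)
    · left; rfl
    · right; rw [mul_assoc, hz, mul_one]
  obtain ⟨c, hc, hA⟩ := (h.conj hg).sign (fl hi) (fl hj) (fl hk) (fl hl)
  have hgz : g * z * g⁻¹ = z := by rw [hg]; group
  refine ⟨c, hc, ?_, ?_, ?_, ?_, ?_⟩
  · calc c * g * z * (c * g)⁻¹ = c * (g * z * g⁻¹) * c⁻¹ := by group
      _ = z := by rw [hgz, hA.z]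
  · calc c * g * i * (c * g)⁻¹ = c * (g * i * g⁻¹) * c⁻¹ := by group
      _ = i' := hA.i
  · calc c * g * j * (c * g)⁻¹ = c * (g * j * g⁻¹) * c⁻¹ := by group
      _ = j' := hA.j
  · calc c * g * k * (c * g)⁻¹ = c * (g * k * g⁻¹) * c⁻¹ := by group
      _ = k' := hA.k
  · calc c * g * l * (c * g)⁻¹ = c * (g * l * g⁻¹) * c⁻¹ := by group
      _ = l' := hA.l

/-- two elements with the same action on `i, j, k, l` differ by `1` or `z` -/
theorem act_unique (h : Symp Q z i j k l) {g g' i' j' k' l' : G} (h1 : Act z i j k l g i' j' k' l')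
    (h2 : Act z i j k l g' i' j' k' l') : g' = g ∨ g' = g * z := by
  have key : ∀ {a a' : G}, g * a * g⁻¹ = a' → g' * a * g'⁻¹ = a' → (g⁻¹ * g') * a = a * (g⁻¹ * g') := by
    intro a a' e1 e2
    have e3 : g' * a = a' * g' := by rw [← e2]; group
    have e4 : g * a = a' * g := by rw [← e1]; group
    calc (g⁻¹ * g') * a = g⁻¹ * (g' * a) := by group
      _ = g⁻¹ * (a' * g') := by rw [e3]
      _ = g⁻¹ * (a' * g) * (g⁻¹ * g') := by group
      _ = g⁻¹ * (g * a) * (g⁻¹ * g') := by rw [e4]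
      _ = _ := by group
  have hz := key h1.z h2.z
  have hQ := h.comm_of_comm (key h1.i h2.i) (key h1.j h2.j) (key h1.k h2.k) (key h1.l h2.l)
  rcases h.large.cent _ (h.large.self _ hz hQ) hQ with h3 | h3
  · left
    rw [inv_mul_eq_one] at h3
    exact h3.symm
  · right
    rw [← h3]; group

end Symp

/-! ### the two types -/

theorem exists_plus_or_minus (h : Large Q z) (hc : Nat.card Q = 32) :
    (∃ i j k l, Plus Q z i j k l) ∨ (∃ i j k l, Minus Q z i j k l) := by
  obtain ⟨x, hx, y, hy, hyx⟩ := exists_pair h (by omega)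
  obtain ⟨x, hx, y, hy, hyx, hsq1, -⟩ := exists_norm h hx hy hyx
  obtain ⟨u, hu, v, hv, hvu, hux, huy, hvx, hvy⟩ := exists_second h hc hx hy hyx
  obtain ⟨u, hu, v, hv, hvu, hsq2, hcc⟩ := exists_norm h hu hv hvu
  obtain ⟨hxu', hxv'⟩ := hcc x hux.symm hvx.symm
  obtain ⟨hyu', hyv'⟩ := hcc y huy.symm hvy.symm
  have S : Symp Q z x y u v := Symp.mk' h hc hx hy hu hv hyx hvu hxu'.symm hyu'.symm hxv'.symm hyv'.symm
  have S' : Symp Q z u v x y := Symp.mk' h hc hu hv hx hy hvu hyx hxu' hxv' hyu' hyv'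
  rcases hsq1 with ⟨a1, a2⟩ | ⟨a1, a2⟩ <;> rcases hsq2 with ⟨b1, b2⟩ | ⟨b1, b2⟩
  · left
    exact ⟨x, y, u, v, S.large, S.card, S.gen, a1, a2, b1, b2, S.ji, S.lk, S.ki, S.li, S.kj, S.lj⟩
  · right
    exact ⟨x, y, u, v, S.large, S.card, S.gen, a1, a2, b1, b2, S.ji, S.lk, S.ki, S.li, S.kj, S.lj⟩
  · right
    exact ⟨u, v, x, y, S'.large, S'.card, S'.gen, b1, b2, a1, a2, S'.ji, S'.lk, S'.ki, S'.li, S'.kj, S'.lj⟩
  · left
    -- `(x y, x u v, u v, u x y)`
    have xz := h.comm_z x hx
    have yz := h.comm_z y hy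
    have uz := h.comm_z u hu
    have vz := h.comm_z v hv
    have zz := h.z_sq
    obtain ⟨p, hp⟩ : ∃ p, p = x * y := ⟨_, rfl⟩
    obtain ⟨q, hq⟩ : ∃ q, q = u * v := ⟨_, rfl⟩
    have mp : p ∈ Q := hp ▸ Q.mul_mem hx hy
    have mq : q ∈ Q := hq ▸ Q.mul_mem hu hv
    have pz := h.comm_z p mp
    have qz := h.comm_z q mq
    have pp : p * p = z := by
      calc p * p = x * (y * x) * y := by rw [hp]; group
        _ = x * (x * y * z) * y := by rw [hyx]
        _ = (x * x) * y * (z * y) := by group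
        _ = (x * x) * y * (y * z) := by rw [yz]
        _ = (x * x) * (y * y) * z := by group
        _ = z := by rw [a1, a2]; group
    have qq : q * q = z := by
      calc q * q = u * (v * u) * v := by rw [hq]; group
        _ = u * (u * v * z) * v := by rw [hvu]
        _ = (u * u) * v * (z * v) := by group
        _ = (u * u) * v * (v * z) := by rw [vz]
        _ = (u * u) * (v * v) * z := by group
        _ = z := by rw [b1, b2]; group
    have px : p * x = x * p * z := by
      calc p * x = x * (y * x) := by rw [hp]; group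
        _ = x * (x * y * z) := by rw [hyx]
        _ = x * p * z := by rw [hp]; group
    have qu : q * u = u * q * z := by
      calc q * u = u * (v * u) := by rw [hq]; group
        _ = u * (u * v * z) := by rw [hvu]
        _ = u * q * z := by rw [hq]; group
    have xp := ac_symm h px
    have uq := ac_symm h qu
    have xq : x * q = q * x := by
      calc x * q = x * u * v := by rw [hq]; group
        _ = u * (x * v) := by rw [hxu']; group
        _ = u * (v * x) := by rw [hxv']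
        _ = q * x := by rw [hq]; group
    have yq : y * q = q * y := by
      calc y * q = y * u * v := by rw [hq]; group
        _ = u * (y * v) := by rw [hyu']; group
        _ = u * (v * y) := by rw [hyv']
        _ = q * y := by rw [hq]; group
    have up : u * p = p * u := by
      calc u * p = u * x * y := by rw [hp]; group
        _ = x * (u * y) := by rw [← hxu']; group
        _ = x * (y * u) := by rw [← hyu']
        _ = p * u := by rw [hp]; group
    have pq : p * q = q * p := by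
      calc p * q = x * (y * q) := by rw [hp]; group
        _ = (x * q) * y := by rw [yq]; group
        _ = q * p := by rw [xq, hp]; group
    have ji : (x * q) * p = p * (x * q) * z := by
      calc (x * q) * p = x * (q * p) := by group
        _ = x * (p * q) := by rw [pq]
        _ = (x * p) * q := by group
        _ = (p * x * z) * q := by rw [xp]
        _ = p * x * (z * q) := by group
        _ = p * x * (q * z) := by rw [qz]
        _ = _ := by group
    have lk : (u * p) * q = q * (u * p) * z := by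
      calc (u * p) * q = u * (p * q) := by group
        _ = u * (q * p) := by rw [pq]
        _ = (u * q) * p := by group
        _ = (q * u * z) * p := by rw [uq]
        _ = q * u * (z * p) := by group
        _ = q * u * (p * z) := by rw [pz]
        _ = _ := by group
    have ki : q * p = p * q := pq.symm
    have kj : q * (x * q) = (x * q) * q := by
      calc q * (x * q) = (q * x) * q := by group
        _ = (x * q) * q := by rw [xq]
    have li : (u * p) * p = p * (u * p) := by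
      calc (u * p) * p = (p * u) * p := by rw [up]
        _ = p * (u * p) := by group
    have lj : (u * p) * (x * q) = (x * q) * (u * p) := by
      calc (u * p) * (x * q) = u * (p * x) * q := by group
        _ = u * (x * p * z) * q := by rw [px]
        _ = (u * x) * p * (z * q) := by group
        _ = (x * u) * p * (q * z) := by rw [← hxu', qz]
        _ = x * u * (p * q) * z := by group
        _ = x * u * (q * p) * z := by rw [pq]
        _ = x * (u * q) * p * z := by group
        _ = x * (q * u * z) * p * z := by rw [uq]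
        _ = x * q * u * (z * p) * z := by group
        _ = x * q * u * (p * z) * z := by rw [pz]
        _ = (x * q) * (u * p) * (z * z) := by group
        _ = _ := by rw [zz, mul_one]
    have jj : (x * q) * (x * q) = z := by
      calc (x * q) * (x * q) = x * (q * x) * q := by group
        _ = x * (x * q) * q := by rw [xq]
        _ = (x * x) * (q * q) := by group
        _ = z := by rw [a1, qq, one_mul]
    have ll : (u * p) * (u * p) = z := by
      calc (u * p) * (u * p) = u * (p * u) * p := by group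
        _ = u * (u * p) * p := by rw [up]
        _ = (u * u) * (p * p) := by group
        _ = z := by rw [b1, pp, one_mul]
    have T : Symp Q z p (x * q) q (u * p) :=
      Symp.mk' h hc mp (Q.mul_mem hx mq) mq (Q.mul_mem hu mp) ji lk ki kj li lj
    exact ⟨p, x * q, q, u * p, T.large, T.card, T.gen, pp, jj, qq, ll, T.ji, T.lk, T.ki, T.li, T.kj, T.lj⟩

end Cfsg.Agent.LargeExtra.W2
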