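import Cfsg.Agent.LargeExtra.W2.CaseOneDead
import Cfsg.Agent.LargeExtra.W2.Coord
import Cfsg.Agent.LargeExtra.Perp

/-!
# S1759: `|C / Q|` is even
-/

set_option autoImplicit false

namespace Cfsg.Agent.LargeExtra.W2.OddDead

open Cfsg.Agent.Co2Type.Quad Cfsg.Agent.LargeExtra.W2 Cfsg.Agent.LargeExtra.Base Cfsg.Agent.LargeExtra.Local

variable {G : Type*} [Group G] {Q : Subgroup G} {z : G}

theorem exists_outer [Finite G] [IsSimpleGroup G] (hnc : ¬ IsMulCommutative G) (h : Large Q z)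
    (h32 : Nat.card Q = 32) : ∃ c ∈ Subgroup.centralizer ({z} : Set G), c ∉ Q ∧ c * c ∈ Q := by
  by_cases hI : ∀ g : G, g * z * g⁻¹ ∈ Q → g * z * g⁻¹ = z
  · by_contra hcon
    refine case_one_dead hnc h h32 hI fun g hg hgQ => ?_
    exfalso
    apply hcon
    refine ⟨_, Subgroup.mem_centralizer_singleton_iff.2 hg, hgQ, ?_⟩
    have : g * z * g⁻¹ * (g * z * g⁻¹) = g * (z * z) * g⁻¹ := by group
    rw [this, h.z_sq, mul_one, mul_inv_cancel]
    exact Q.one_mem
  · push Not at hI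
    obtain ⟨g, hg1, hg2⟩ := hI
    have p := pair_of_conj h hg1 hg2
    have h1 := p.card_X
    have h2 : Nat.card p.lz.V = 16 := card_V h h32
    have h3 := Perp.card_sq_le p.lz p.D (fun v hv w hw => p.b_D hv hw)
    have hX : p.X ≠ ⊥ := by
      intro hbot
      rw [hbot, Subgroup.card_bot, one_mul, h2] at h1
      rw [h2] at h3
      nlinarith
    obtain ⟨⟨f, hf⟩, hf0⟩ := Subgroup.ne_bot_iff_exists_ne_one.1 hX
    have hf1 : f ≠ 1 := fun h' => hf0 (Subtype.ext h')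
    obtain ⟨c, hcA, hcf⟩ := p.mem_X.1 hf
    refine ⟨c, c.2, ?_, ?_⟩
    · intro hcQ
      exact hf1 (by rw [← hcf]; exact p.lz.act_mem c hcQ)
    · rcases p.la.sq c hcA with h4 | h4 <;> rw [h4]
      · exact Q.one_mem
      · exact p.a_mem

end Cfsg.Agent.LargeExtra.W2.OddDead
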