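import Cfsg.Agent.LargeExtra.W2.Cases
import Cfsg.Agent.LargeExtra.W2.CType
import Cfsg.Agent.LargeExtra.W2.OddDead
import Cfsg.Prelude.Def_ClassificationK
import Cfsg.Prelude.Def_Transfer
import Cfsg.Prelude.Def_Spor_Mathieu
import Cfsg.Prelude.Def_Spor_J2
import Cfsg.Prelude.Def_Spor_J3
import Cfsg.Prelude.Def_ChevG2

/-!
# S1759 for simple `G`: assembly
-/

set_option autoImplicit false

namespace Cfsg.Agent.LargeExtra.W2.Simple

open Cfsg.Agent.Co2Type.Quad Cfsg.Agent.LargeExtra.W2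

/-- the conclusion of S1759 -/
def Concl (L : Type*) [Group L] : Prop :=
    (∃ (F : Type) (_ : Field F) (_ : Fintype F), Fintype.card F = 9 ∧ (Nonempty (L ≃* Cfsg.PSU 3 F 3) ∨ Nonempty (L ≃* Cfsg.PSU 4 F 3))) ∨
      (∃ (F : Type) (_ : Field F) (_ : Fintype F), Fintype.card F = 4 ∧ Nonempty (L ≃* Cfsg.PSU 4 F 2)) ∨
      (∃ (F : Type) (_ : Field F) (_ : Fintype F), Fintype.card F = 3 ∧ (Nonempty (L ≃* Matrix.ProjectiveSpecialLinearGroup (Fin 4) F) ∨
        Nonempty (L ≃* ↥(Cfsg.Lie.chevG2.group F)))) ∨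
      Nonempty (L ≃* ↥(alternatingGroup (Fin 8))) ∨
      Nonempty (L ≃* ↥(alternatingGroup (Fin 9))) ∨
      Cfsg.Spor.IsoM12 L ∨ Cfsg.Spor.IsoJ2 L ∨ Cfsg.Spor.IsoJ3 L

theorem Concl.congr {L L' : Type*} [Group L] [Group L'] (e : L ≃* L') (h : Concl L') : Concl L := by
  rcases h with ⟨F, i1, i2, hF, h | h⟩ | ⟨F, i1, i2, hF, h⟩ | ⟨F, i1, i2, hF, h | h⟩ | h | h | h | h | h
  · exact Or.inl ⟨F, i1, i2, hF, Or.inl (h.map e.trans)⟩
  · exact Or.inl ⟨F, i1, i2, hF, Or.inr (h.map e.trans)⟩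
  · exact Or.inr (Or.inl ⟨F, i1, i2, hF, h.map e.trans⟩)
  · exact Or.inr (Or.inr (Or.inl ⟨F, i1, i2, hF, Or.inl (h.map e.trans)⟩))
  · exact Or.inr (Or.inr (Or.inl ⟨F, i1, i2, hF, Or.inr (h.map e.trans)⟩))
  · exact Or.inr (Or.inr (Or.inr (Or.inl (h.map e.trans))))
  · exact Or.inr (Or.inr (Or.inr (Or.inr (Or.inl (h.map e.trans)))))
  · exact Or.inr (Or.inr (Or.inr (Or.inr (Or.inr (Or.inl (h.map e.trans))))))
  · exact Or.inr (Or.inr (Or.inr (Or.inr (Or.inr (Or.inr (Or.inl (h.map e.trans)))))))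
  · obtain ⟨F, i1, i2, ω, hF, hω, h⟩ := h
    exact Or.inr (Or.inr (Or.inr (Or.inr (Or.inr (Or.inr (Or.inr ⟨F, i1, i2, ω, hF, hω, h.map e.trans⟩))))))

/-- a simple non-abelian group has no subgroup of index two -/
theorem no_index_two {G : Type*} [Group G] [IsSimpleGroup G] (hnc : ¬ IsMulCommutative G) (H : Subgroup G) :
    H.index ≠ 2 := by
  intro h
  have hn := Subgroup.normal_of_index_eq_two h
  rcases hn.eq_bot_or_eq_top with h1 | h1
  · rw [h1, Subgroup.index_bot] at h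
    apply hnc
    have : Fact (Nat.Prime 2) := ⟨Nat.prime_two⟩
    have := isCyclic_of_prime_card h
    exact ⟨⟨fun a b => IsCyclic.commGroup.mul_comm a b⟩⟩
  · rw [h1, Subgroup.index_top] at h
    exact absurd h (by norm_num)

/-- the recognition theorems needed for `G` -/
structure Recog (G : Type*) [Group G] : Prop where
  F1 : ∀ (Q : Subgroup G) (z i j k l w s : G), CaseF1 Q z i j k l w s → Concl G
  F2 : ∀ (Q : Subgroup G) (z i j k l v y : G), CaseF2 Q z i j k l v y → Concl G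
  a9 : ∀ (Q : Subgroup G) (z i j k l x₁ x₂ s : G), Case9a Q z i j k l x₁ x₂ s → Concl G
  c9 : ∀ (Q : Subgroup G) (z i j k l x₁ x₂ y : G), Case9c Q z i j k l x₁ x₂ y → Concl G
  aa : ∀ (Q : Subgroup G) (z i j k l x₁ x₂ y s : G), Case9aa Q z i j k l x₁ x₂ y s → Concl G
  minus : ∀ (Q : Subgroup G) (z i j k l : G), Minus Q z i j k l →
    (∀ N : Subgroup G, Q ≤ N → N ≤ Subgroup.centralizer ({z} : Set G) →
      (∀ c ∈ Subgroup.centralizer ({z} : Set G), ∀ n ∈ N, c * n * c⁻¹ ∈ N) → IsPGroup 2 N → N ≤ Q) → Concl G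

/-- `O_2(C / Q) = 1` from `Q = F*(C)`. -/
theorem le_of_two {G : Type*} [Group G] [Finite G] (z : G) {N : Subgroup G}
    (hN : N ≤ Subgroup.centralizer ({z} : Set G))
    (hnorm : ∀ c ∈ Subgroup.centralizer ({z} : Set G), ∀ n ∈ N, c * n * c⁻¹ ∈ N) (h2 : IsPGroup 2 N) :
    N ≤ (Cfsg.generalizedFittingSubgroup ↥(Subgroup.centralizer ({z} : Set G))).map
      (Subgroup.centralizer ({z} : Set G)).subtype := by
  have h3 : (N.subgroupOf (Subgroup.centralizer ({z} : Set G))).Normal :=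
    ⟨fun n hn c => hnorm c c.2 n hn⟩
  have h4 : IsPGroup 2 (N.subgroupOf (Subgroup.centralizer ({z} : Set G))) :=
    h2.of_equiv (Subgroup.subgroupOfEquivOfLe hN).symm
  have h5 := TwoCentral.le_of_normal_two h3 h4
  intro n hn
  exact ⟨⟨n, hN hn⟩, h5 hn, rfl⟩

/-- **S1759 for simple groups**, modulo the recognition theorems. -/
theorem main {G : Type*} [Group G] [Finite G] [IsSimpleGroup G] (hnc : ¬ IsMulCommutative G) (z : G)
    (hz : orderOf z = 2)
    (hE : Cfsg.IsExtraspecial 2 ↥(Cfsg.generalizedFittingSubgroup ↥(Subgroup.centralizer ({z} : Set G))))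
    (h32 : Nat.card ↥(Cfsg.generalizedFittingSubgroup ↥(Subgroup.centralizer ({z} : Set G))) = 32)
    (R : Recog G) : Concl G := by
  have hG : ∀ H : Subgroup G, H.index ≠ 2 := no_index_two hnc
  have h := Base.large_of_genFitting z hz hE
  have hcard : Nat.card ((Cfsg.generalizedFittingSubgroup ↥(Subgroup.centralizer ({z} : Set G))).map
      (Subgroup.centralizer ({z} : Set G)).subtype) = 32 := by
    rw [Subgroup.card_map_of_injective (Subgroup.centralizer ({z} : Set G)).subtype_injective, h32]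
  have hO : ∀ N : Subgroup G, (Cfsg.generalizedFittingSubgroup ↥(Subgroup.centralizer ({z} : Set G))).map
      (Subgroup.centralizer ({z} : Set G)).subtype ≤ N → N ≤ Subgroup.centralizer ({z} : Set G) →
      (∀ c ∈ Subgroup.centralizer ({z} : Set G), ∀ n ∈ N, c * n * c⁻¹ ∈ N) → IsPGroup 2 N →
      N ≤ (Cfsg.generalizedFittingSubgroup ↥(Subgroup.centralizer ({z} : Set G))).map
      (Subgroup.centralizer ({z} : Set G)).subtype := fun N _ h1 h2 h3 => le_of_two z h1 h2 h3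
  generalize (Cfsg.generalizedFittingSubgroup ↥(Subgroup.centralizer ({z} : Set G))).map
      (Subgroup.centralizer ({z} : Set G)).subtype = Q at h hcard hO
  clear hE h32
  rcases exists_plus_or_minus h hcard with ⟨i, j, k, l, P⟩ | ⟨i, j, k, l, M⟩
  · rcases Cases.cases_plus hG P hO (OddDead.exists_outer hnc h hcard) with
      ⟨i, j, k, l, w, s, h1⟩ | ⟨i, j, k, l, v, y, h1⟩ | ⟨i, j, k, l, x₁, x₂, s, h1⟩ |
      ⟨i, j, k, l, x₁, x₂, y, h1⟩ | ⟨i, j, k, l, x₁, x₂, y, s, h1⟩ | ⟨i, j, k, l, x₁, x₂, f, h1, h2⟩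
    · exact R.F1 _ _ _ _ _ _ _ _ h1
    · exact R.F2 _ _ _ _ _ _ _ _ h1
    · exact R.a9 _ _ _ _ _ _ _ _ _ h1
    · exact R.c9 _ _ _ _ _ _ _ _ _ h1
    · exact R.aa _ _ _ _ _ _ _ _ _ _ h1
    · exact (CType.case94 hnc h1 h2).elim
  · exact R.minus _ _ _ _ _ _ M hO

end Cfsg.Agent.LargeExtra.W2.Simple
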