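import Cfsg.Agent.LargeExtra.W2.MinusType
import Cfsg.Agent.LargeExtra.W2.Simple
import Cfsg.Agent.J2Type.A5Final

/-!
# S1759 [D]: type minus, `G` simple: the second and third Janko groups (helper818)
-/

set_option autoImplicit false

namespace Cfsg.Agent.LargeExtra.W2.MinusEnd

open Cfsg.Agent.LargeExtra.W2 Cfsg.Agent.LargeExtra.W2.MinusType

variable {G : Type*} [Group G]

/-- type minus: the second or third Janko group -/
theorem isoJ2_or_isoJ3 [Finite G] [IsSimpleGroup G] (hnc : ¬ IsMulCommutative G) {Q : Subgroup G}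
    {z i j k l : G} (M : Minus Q z i j k l) : Cfsg.Spor.IsoJ2 G ∨ Cfsg.Spor.IsoJ3 G := by
  have hG := Simple.no_index_two (G := G) hnc
  obtain ⟨A, a, p⟩ := MinusType.exists_pair hnc hG M
  have := normal_subgroupOf M.large
  obtain ⟨e⟩ := exists_equiv hG M p
  exact Cfsg.Agent.J2Type.A5Final.isoJ2_or_isoJ3 z (Base.orderOf_z M.large)
    (Q.subgroupOf (Subgroup.centralizer ({z} : Set G))) (isExtraspecial M) (card_subgroupOf M)
    (centralizer_le M) e

/-- the field `minus` of `Recog` -/
theorem minus [Finite G] [IsSimpleGroup G] (hnc : ¬ IsMulCommutative G) (Q : Subgroup G)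
    (z i j k l : G) (M : Minus Q z i j k l) : Simple.Concl G := by
  rcases isoJ2_or_isoJ3 hnc M with h | h
  · exact Or.inr (Or.inr (Or.inr (Or.inr (Or.inr (Or.inr (Or.inl h))))))
  · exact Or.inr (Or.inr (Or.inr (Or.inr (Or.inr (Or.inr (Or.inr h))))))

end Cfsg.Agent.LargeExtra.W2.MinusEnd
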