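import Cfsg.Agent.LargeExtra.W2.NonSimple
import Cfsg.Agent.LargeExtra.TwoCentral
import Cfsg.Agent.SignalizersComponents.FStarNormal
import Cfsg.Agent.Lib.GenFitting
import Cfsg.Agent.J2.ExtQuot

/-!
# S1759, part [G]: from the hypotheses of S1759 to the simple group `L = F*(G)` (helper860)

* `fstar_inf` : `F*(C_L(z)) = F*(C_G(z)) ∩ L` for a normal subgroup `L` containing `z`;
* `reduction` : under the hypotheses of S1759, `z ∈ L = F*(G)` and either `F*(C_L(z))` is extraspecial of order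
  32 or it is `⟨e⟩ ∘ ⟨i, j⟩ = 4 ∘ Q₈` (structure `FourL`).
-/

set_option autoImplicit false

namespace Cfsg.Agent.LargeExtra.W2.NonSimple

open Cfsg.Agent.Co2Type.Quad

universe u

variable {G : Type u} [Group G]

/-- `C_L(z)` in the two forms -/
def centEquiv (L : Subgroup G) (z : G) (hz : z ∈ L) :
    ↥(L.subgroupOf (Subgroup.centralizer ({z} : Set G))) ≃*
      ↥(Subgroup.centralizer ({(⟨z, hz⟩ : L)} : Set L)) where
  toFun x := ⟨⟨(x : G), x.2⟩, by
    rw [Subgroup.mem_centralizer_singleton_iff]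
    exact Subtype.ext (Subgroup.mem_centralizer_singleton_iff.1 x.1.2)⟩
  invFun x := ⟨⟨((x : L) : G), by
    rw [Subgroup.mem_centralizer_singleton_iff]
    exact congrArg Subtype.val (Subgroup.mem_centralizer_singleton_iff.1 x.2)⟩, x.1.2⟩
  left_inv x := rfl
  right_inv x := rfl
  map_mul' x y := rfl

/-- `F*(C_L(z)) = F*(C_G(z)) ∩ L` -/
theorem fstar_inf [Finite G] (L : Subgroup G) (hL : L.Normal) (z : G) (hz : z ∈ L) :
    (((Cfsg.generalizedFittingSubgroup ↥(Subgroup.centralizer ({(⟨z, hz⟩ : L)} : Set L))).map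
      (Subgroup.centralizer ({(⟨z, hz⟩ : L)} : Set L)).subtype).map L.subtype) =
    (Cfsg.generalizedFittingSubgroup ↥(Subgroup.centralizer ({z} : Set G))).map
      (Subgroup.centralizer ({z} : Set G)).subtype ⊓ L := by
  have hn : (L.subgroupOf (Subgroup.centralizer ({z} : Set G))).Normal := inferInstance
  have h1 := Cfsg.Agent.SignalizersComponents.FStarNormal.genFitting_inf_normal hn
  have h2 := Cfsg.Agent.Lib.GenFitting.map_genFitting (centEquiv L z hz)
  rw [← h2]
  ext x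
  constructor
  · rintro ⟨a, ⟨b, ⟨c, hc, rfl⟩, rfl⟩, rfl⟩
    refine ⟨⟨c.1, ?_, rfl⟩, c.2⟩
    have : (c : ↥(Subgroup.centralizer ({z} : Set G))) ∈ (Cfsg.generalizedFittingSubgroup
        ↥(L.subgroupOf (Subgroup.centralizer ({z} : Set G)))).map
        (L.subgroupOf (Subgroup.centralizer ({z} : Set G))).subtype := ⟨c, hc, rfl⟩
    rw [← h1] at this
    exact this.1
  · rintro ⟨⟨a, ha, rfl⟩, hL'⟩
    have h3 : a ∈ Cfsg.generalizedFittingSubgroup ↥(Subgroup.centralizer ({z} : Set G)) ⊓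
      L.subgroupOf (Subgroup.centralizer ({z} : Set G)) := ⟨ha, hL'⟩
    rw [h1] at h3
    obtain ⟨c, hc, hca⟩ := h3
    have h4 : ((L.subgroupOf (Subgroup.centralizer ({z} : Set G))).subtype c : G) = (a : G) :=
      congrArg Subtype.val hca
    exact ⟨⟨a.1, hL'⟩, ⟨centEquiv L z hz c, ⟨c, hc, rfl⟩, Subtype.ext h4⟩, rfl⟩

/-- `F*(C_L(z)) ≅ F*(C_G(z)) ∩ L` -/
theorem fstar_equiv [Finite G] (L : Subgroup G) (hL : L.Normal) (z : G) (hz : z ∈ L) :
    Nonempty (↥(Cfsg.generalizedFittingSubgroup ↥(Subgroup.centralizer ({(⟨z, hz⟩ : L)} : Set L))) ≃*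
    ↥((Cfsg.generalizedFittingSubgroup ↥(Subgroup.centralizer ({z} : Set G))).map
      (Subgroup.centralizer ({z} : Set G)).subtype ⊓ L : Subgroup G)) := by
  rw [← fstar_inf L hL z hz]
  exact ⟨(Subgroup.equivMapOfInjective _ _ (Subgroup.subtype_injective _)).trans
    (Subgroup.equivMapOfInjective _ _ (Subgroup.subtype_injective _))⟩

/-- the hypotheses of S1759 give `Hyp` -/
theorem hyp_of [Finite G] (z : G) (hz : orderOf z = 2)
    (hE : Cfsg.IsExtraspecial 2 ↥(Cfsg.generalizedFittingSubgroup ↥(Subgroup.centralizer ({z} : Set G))))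
    (h32 : Nat.card ↥(Cfsg.generalizedFittingSubgroup ↥(Subgroup.centralizer ({z} : Set G))) = 32)
    (L : Subgroup G) (hn : L.Normal) (hL : IsSimpleGroup ↥L) (hL' : ¬ IsMulCommutative ↥L) :
    Hyp ((Cfsg.generalizedFittingSubgroup ↥(Subgroup.centralizer ({z} : Set G))).map
      (Subgroup.centralizer ({z} : Set G)).subtype) L z where
  large := Base.large_of_genFitting z hz hE
  card := by
    rw [Subgroup.card_map_of_injective (Subgroup.centralizer ({z} : Set G)).subtype_injective, h32]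
  core := by
    intro N hN hnorm h2
    have hNC : N ≤ Subgroup.centralizer ({z} : Set G) := fun n hn =>
      Subgroup.mem_centralizer_singleton_iff.2 (hN n hn)
    have h3 : (N.subgroupOf (Subgroup.centralizer ({z} : Set G))).Normal :=
      ⟨fun n hn c => hnorm c (Subgroup.mem_centralizer_singleton_iff.1 c.2) n hn⟩
    have h4 : IsPGroup 2 (N.subgroupOf (Subgroup.centralizer ({z} : Set G))) :=
      h2.of_equiv (Subgroup.subgroupOfEquivOfLe hNC).symm
    have h5 := TwoCentral.le_of_normal_two h3 h4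
    intro n hn
    exact ⟨⟨n, hNC hn⟩, h5 hn, rfl⟩
  normal := hn
  simple := hL
  nonab := by
    by_contra hcon
    push Not at hcon
    exact hL' ⟨⟨fun a b => Subtype.ext (hcon a a.2 b b.2)⟩⟩

/-- `R = F*(C_L(z)) = ⟨e⟩ ∘ ⟨i, j⟩ ≅ 4 ∘ Q₈` in the group `L` itself -/
structure FourL {L : Type u} [Group L] (R : Subgroup L) (z e i j : L) : Prop where
  e_mem : e ∈ R
  i_mem : i ∈ R
  j_mem : j ∈ R
  ee : e * e = z
  ii : i * i = z
  jj : j * j = z
  ji : j * i = i * j * z
  /-- `e` is central in `R` -/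
  e_cent : ∀ r ∈ R, e * r = r * e
  /-- normal form -/
  form : ∀ r ∈ R, ∃ w, (w = 1 ∨ w = z ∨ w = e ∨ w = e * z) ∧ ∃ i', (i' = 1 ∨ i' = i) ∧
    ∃ j', (j' = 1 ∨ j' = j) ∧ r = w * i' * j'
  /-- `R = ⟨e, i, j⟩` -/
  gen : R = Subgroup.closure {e, i, j}
  card : Nat.card ↥R = 16
  /-- the centre of `R` is `⟨e⟩` -/
  cent : ∀ w ∈ R, w * i = i * w → w * j = j * w → w = 1 ∨ w = z ∨ w = e ∨ w = e * z

/-- from `Four` to `FourL` -/
theorem Four.fourL {Q L : Subgroup G} {z e i j : G} (h : Four Q L z e i j) (hz : z ∈ L) (R : Subgroup L)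
    (hR : R.map L.subtype = Q ⊓ L) : FourL R (⟨z, hz⟩ : L) ⟨e, h.eL⟩ ⟨i, h.iL⟩ ⟨j, h.jL⟩ := by
  have hmem : ∀ r : L, r ∈ R ↔ (r : G) ∈ Q := by
    intro r
    constructor
    · intro hr
      have : (r : G) ∈ R.map L.subtype := ⟨r, hr, rfl⟩
      rw [hR] at this
      exact this.1
    · intro hr
      have : (r : G) ∈ R.map L.subtype := by rw [hR]; exact ⟨hr, r.2⟩
      obtain ⟨s, hs, e1⟩ := this
      have : s = r := Subtype.ext e1
      rwa [← this]
  refine ⟨(hmem _).2 h.eQ, (hmem _).2 h.iQ, (hmem _).2 h.jQ, Subtype.ext h.ee, Subtype.ext h.ii,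
    Subtype.ext h.jj, Subtype.ext h.ji, fun r hr => Subtype.ext (h.e_cent r ((hmem r).1 hr) r.2), ?_, ?_, ?_,
    ?_⟩
  · intro r hr
    obtain ⟨w, hw, i', hi', j', hj', e1⟩ := h.form r ((hmem r).1 hr) r.2
    have hwL : w ∈ L := by
      rcases hw with e2 | e2 | e2 | e2
      · rw [e2]; exact L.one_mem
      · rw [e2]; exact hz
      · rw [e2]; exact h.eL
      · rw [e2]; exact L.mul_mem h.eL hz
    have hiL : i' ∈ L := by
      rcases hi' with e2 | e2
      · rw [e2]; exact L.one_mem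
      · rw [e2]; exact h.iL
    have hjL : j' ∈ L := by
      rcases hj' with e2 | e2
      · rw [e2]; exact L.one_mem
      · rw [e2]; exact h.jL
    refine ⟨⟨w, hwL⟩, ?_, ⟨i', hiL⟩, ?_, ⟨j', hjL⟩, ?_, Subtype.ext e1⟩
    · rcases hw with e2 | e2 | e2 | e2
      · exact Or.inl (Subtype.ext e2)
      · exact Or.inr (Or.inl (Subtype.ext e2))
      · exact Or.inr (Or.inr (Or.inl (Subtype.ext e2)))
      · exact Or.inr (Or.inr (Or.inr (Subtype.ext e2)))
    · rcases hi' with e2 | e2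
      · exact Or.inl (Subtype.ext e2)
      · exact Or.inr (Subtype.ext e2)
    · rcases hj' with e2 | e2
      · exact Or.inl (Subtype.ext e2)
      · exact Or.inr (Subtype.ext e2)
  · apply Subgroup.map_injective L.subtype_injective
    rw [hR, h.gen, MonoidHom.map_closure]
    congr 1
    ext x
    simp only [Set.mem_insert_iff, Set.mem_singleton_iff, Set.mem_image]
    constructor
    · rintro (rfl | rfl | rfl)
      · exact ⟨⟨_, h.eL⟩, Or.inl rfl, rfl⟩
      · exact ⟨⟨_, h.iL⟩, Or.inr (Or.inl rfl), rfl⟩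
      · exact ⟨⟨_, h.jL⟩, Or.inr (Or.inr rfl), rfl⟩
    · rintro ⟨y, (rfl | rfl | rfl), rfl⟩
      · exact Or.inl rfl
      · exact Or.inr (Or.inl rfl)
      · exact Or.inr (Or.inr rfl)
  · rw [← h.card, ← hR, Subgroup.card_map_of_injective L.subtype_injective]
  · intro w hw h1 h2
    rcases h.cent w ((hmem w).1 hw) w.2 (congrArg Subtype.val h1) (congrArg Subtype.val h2) with
      e2 | e2 | e2 | e2
    · exact Or.inl (Subtype.ext e2)
    · exact Or.inr (Or.inl (Subtype.ext e2))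
    · exact Or.inr (Or.inr (Or.inl (Subtype.ext e2)))
    · exact Or.inr (Or.inr (Or.inr (Subtype.ext e2)))

/-- **The reduction of S1759 to the simple group `L = F*(G)`.** -/
theorem reduction [Finite G] (z : G) (hz : orderOf z = 2)
    (hE : Cfsg.IsExtraspecial 2 ↥(Cfsg.generalizedFittingSubgroup ↥(Subgroup.centralizer ({z} : Set G))))
    (h32 : Nat.card ↥(Cfsg.generalizedFittingSubgroup ↥(Subgroup.centralizer ({z} : Set G))) = 32)
    (L : Subgroup G) (hn : L.Normal) (hL : IsSimpleGroup ↥L) (hL' : ¬ IsMulCommutative ↥L) :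
    ∃ hzL : z ∈ L,
      (Cfsg.IsExtraspecial 2 ↥(Cfsg.generalizedFittingSubgroup
          ↥(Subgroup.centralizer ({(⟨z, hzL⟩ : L)} : Set L))) ∧
        Nat.card ↥(Cfsg.generalizedFittingSubgroup
          ↥(Subgroup.centralizer ({(⟨z, hzL⟩ : L)} : Set L))) = 32) ∨
      ∃ e i j : L, FourL ((Cfsg.generalizedFittingSubgroup
        ↥(Subgroup.centralizer ({(⟨z, hzL⟩ : L)} : Set L))).map
          (Subgroup.centralizer ({(⟨z, hzL⟩ : L)} : Set L)).subtype) (⟨z, hzL⟩ : L) e i j := by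
  have h := hyp_of z hz hE h32 L hn hL hL'
  refine ⟨h.z_mem, ?_⟩
  rcases main h with hle | ⟨e, i, j, h4⟩
  · left
    obtain ⟨f⟩ := fstar_equiv L hn z h.z_mem
    have hinf : (Cfsg.generalizedFittingSubgroup ↥(Subgroup.centralizer ({z} : Set G))).map
      (Subgroup.centralizer ({z} : Set G)).subtype ⊓ L =
        (Cfsg.generalizedFittingSubgroup ↥(Subgroup.centralizer ({z} : Set G))).map
      (Subgroup.centralizer ({z} : Set G)).subtype := inf_eq_left.2 hle
    have f2 : ↥(Cfsg.generalizedFittingSubgroup ↥(Subgroup.centralizer ({z} : Set G))) ≃*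
        ↥(Cfsg.generalizedFittingSubgroup ↥(Subgroup.centralizer ({(⟨z, h.z_mem⟩ : L)} : Set L))) :=
      (Subgroup.equivMapOfInjective _ _ (Subgroup.subtype_injective _)).trans
        ((MulEquiv.subgroupCongr hinf.symm).trans f.symm)
    refine ⟨Cfsg.Agent.J2.ExtQuot.isExtraspecial_of_equiv f2 hE, ?_⟩
    rw [← h32]
    exact (Nat.card_congr f2.toEquiv).symm
  · right
    exact ⟨_, _, _, h4.fourL h.z_mem _ (fstar_inf L hn z h.z_mem)⟩

end Cfsg.Agent.LargeExtra.W2.NonSimple
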