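import Cfsg.Agent.LargeExtra.Base

/-!
# S1759 (`|Q| = 32`), type `+`: the interface between the reduction and the recognition theorems

`Q = Q₈ ∘ Q₈ = ⟨i, j⟩ ∘ ⟨k, l⟩`, `C = C_G(z)` acts on the six cyclic subgroups of order four of `Q`; generators of
the six possible groups `C / Q` (`G` simple), as exact conjugation actions on `i, j, k, l`:

* `x₁ : i → j → ij`, `x₂ : k → l → kl` (order three),
* `y  : i ↔ j⁻¹, k ↔ l⁻¹` (`y = r₁ r₂`, type `c`), `y² ∈ ⟨z⟩`,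
* `s  : i ↔ k, j ↔ l` (type `a`), `s² ∈ ⟨z⟩`,
* `w = x₁ x₂⁻¹`, `v = x₁ x₂`, `f : i → k, j → l, k → j⁻¹, l → i⁻¹` (order four on `Q / ⟨z⟩`, `f² = y` there).
-/

set_option autoImplicit false

namespace Cfsg.Agent.LargeExtra.W2

open Cfsg.Agent.Co2Type.Quad

/-- Coordinates `i, j, k, l` of the large extraspecial subgroup `Q = Q₈ ∘ Q₈ ≤ C_G(z)` of order `32`. -/
structure Plus {G : Type*} [Group G] (Q : Subgroup G) (z i j k l : G) : Prop where
  large : Large Q z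
  card : Nat.card Q = 32
  gen : Q = Subgroup.closure {i, j, k, l}
  ii : i * i = z
  jj : j * j = z
  kk : k * k = z
  ll : l * l = z
  ji : j * i = i * j * z
  lk : l * k = k * l * z
  ki : k * i = i * k
  li : l * i = i * l
  kj : k * j = j * k
  lj : l * j = j * l

/-- `c ∈ C_G(z)` acts on `i, j, k, l` by conjugation `g ↦ c g c⁻¹` with images `i', j', k', l'`. -/
structure Act {G : Type*} [Group G] (z i j k l c i' j' k' l' : G) : Prop where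
  z : c * z * c⁻¹ = z
  i : c * i * c⁻¹ = i'
  j : c * j * c⁻¹ = j'
  k : c * k * c⁻¹ = k'
  l : c * l * c⁻¹ = l'

/-- `C / Q = ⟨w, s⟩ ≅ S₃`, `s` of type `a`, inverting `w` (`A₈`, `A₉`). -/
structure CaseF1 {G : Type*} [Group G] (Q : Subgroup G) (z i j k l w s : G) : Prop extends Plus Q z i j k l where
  w3 : w ^ 3 = 1
  w_act : Act z i j k l w j (i * j) (k * l) k
  s_act : Act z i j k l s k l i j
  ws : s * w * s⁻¹ = w⁻¹
  s2 : s * s = 1 ∨ s * s = z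
  cent : Subgroup.centralizer {z} = Subgroup.closure {i, j, k, l, w, s}
  card_cent : Nat.card (Subgroup.centralizer {z}) = 192

/-- `C / Q = ⟨v, y⟩ ≅ S₃`, `y` of type `c`, inverting `v` (`M₁₂`). -/
structure CaseF2 {G : Type*} [Group G] (Q : Subgroup G) (z i j k l v y : G) : Prop extends Plus Q z i j k l where
  v3 : v ^ 3 = 1
  v_act : Act z i j k l v j (i * j) l (k * l)
  y_act : Act z i j k l y (j * z) (i * z) (l * z) (k * z)
  vy : y * v * y⁻¹ = v⁻¹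
  y2 : y * y = 1 ∨ y * y = z
  cent : Subgroup.centralizer {z} = Subgroup.closure {i, j, k, l, v, y}
  card_cent : Nat.card (Subgroup.centralizer {z}) = 192

/-- `C / Q = ⟨x₁, x₂, s⟩ ≅ 3 × S₃` (`U₄(2)`). -/
structure Case9a {G : Type*} [Group G] (Q : Subgroup G) (z i j k l x₁ x₂ s : G) : Prop
    extends Plus Q z i j k l where
  x₁3 : x₁ ^ 3 = 1
  x₂3 : x₂ ^ 3 = 1
  x₁_act : Act z i j k l x₁ j (i * j) k l
  x₂_act : Act z i j k l x₂ i j l (k * l)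
  s_act : Act z i j k l s k l i j
  xx : x₁ * x₂ = x₂ * x₁
  s1 : s * x₁ * s⁻¹ = x₂
  s2 : s * x₂ * s⁻¹ = x₁
  ss : s * s = 1 ∨ s * s = z
  cent : Subgroup.centralizer {z} = Subgroup.closure {i, j, k, l, x₁, x₂, s}
  card_cent : Nat.card (Subgroup.centralizer {z}) = 576

/-- `C / Q = ⟨x₁, x₂, y⟩ ≅ 3² : 2`, `y` inverting (`G₂(3)`). -/
structure Case9c {G : Type*} [Group G] (Q : Subgroup G) (z i j k l x₁ x₂ y : G) : Prop
    extends Plus Q z i j k l where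
  x₁3 : x₁ ^ 3 = 1
  x₂3 : x₂ ^ 3 = 1
  x₁_act : Act z i j k l x₁ j (i * j) k l
  x₂_act : Act z i j k l x₂ i j l (k * l)
  y_act : Act z i j k l y (j * z) (i * z) (l * z) (k * z)
  xx : x₁ * x₂ = x₂ * x₁
  y1 : y * x₁ * y⁻¹ = x₁⁻¹
  y2 : y * x₂ * y⁻¹ = x₂⁻¹
  yy : y * y = 1 ∨ y * y = z
  cent : Subgroup.centralizer {z} = Subgroup.closure {i, j, k, l, x₁, x₂, y}
  card_cent : Nat.card (Subgroup.centralizer {z}) = 576

/-- `C / Q = ⟨x₁, x₂, y, s⟩ ≅ S₃ × S₃` (`L₄(3)`, `U₄(3)`). -/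
structure Case9aa {G : Type*} [Group G] (Q : Subgroup G) (z i j k l x₁ x₂ y s : G) : Prop
    extends Plus Q z i j k l where
  x₁3 : x₁ ^ 3 = 1
  x₂3 : x₂ ^ 3 = 1
  x₁_act : Act z i j k l x₁ j (i * j) k l
  x₂_act : Act z i j k l x₂ i j l (k * l)
  y_act : Act z i j k l y (j * z) (i * z) (l * z) (k * z)
  s_act : Act z i j k l s k l i j
  xx : x₁ * x₂ = x₂ * x₁
  y1 : y * x₁ * y⁻¹ = x₁⁻¹
  y2 : y * x₂ * y⁻¹ = x₂⁻¹
  s1 : s * x₁ * s⁻¹ = x₂
  s2 : s * x₂ * s⁻¹ = x₁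
  yy : y * y = 1 ∨ y * y = z
  ss : s * s = 1 ∨ s * s = z
  ys : s * y * s⁻¹ = y ∨ s * y * s⁻¹ = y * z
  cent : Subgroup.centralizer {z} = Subgroup.closure {i, j, k, l, x₁, x₂, y, s}
  card_cent : Nat.card (Subgroup.centralizer {z}) = 1152

/-- `C / Q = ⟨x₁, x₂, f⟩ ≅ 3² : 4` (does not occur). `f²` acts as `y`. -/
structure Case94 {G : Type*} [Group G] (Q : Subgroup G) (z i j k l x₁ x₂ f : G) : Prop
    extends Plus Q z i j k l where
  x₁3 : x₁ ^ 3 = 1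
  x₂3 : x₂ ^ 3 = 1
  x₁_act : Act z i j k l x₁ j (i * j) k l
  x₂_act : Act z i j k l x₂ i j l (k * l)
  f_act : Act z i j k l f k l (j * z) (i * z)
  xx : x₁ * x₂ = x₂ * x₁
  f1 : f * x₁ * f⁻¹ = x₂
  f2 : f * x₂ * f⁻¹ = x₁⁻¹
  f4 : f ^ 4 = 1 ∨ f ^ 4 = z
  cent : Subgroup.centralizer {z} = Subgroup.closure {i, j, k, l, x₁, x₂, f}
  card_cent : Nat.card (Subgroup.centralizer {z}) = 1152

end Cfsg.Agent.LargeExtra.W2
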