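import Cfsg.Agent.LargeExtra.W2.Simple

/-!
# S1759, type `+`, `2⁷ ∣ |G|`: only the configuration `C / Q = S₃ × S₃` is left (helper995)

Export for S0510 (and others): `F*(C_G(z)) = Q₈ ∘ Q₈`, `128 ∣ |G|` gives `Case9aa`, hence `PSL₄(3)` or `PSU₄(3)`
(recognitions as hypotheses, the form in which they enter S1759).
-/

set_option autoImplicit false

universe u

namespace Cfsg.Agent.LargeExtra.W2.PlusExport

open Cfsg.Agent.Co2Type.Quad Cfsg.Agent.LargeExtra.W2.Simple

/-- `Plus` from two commuting quaternion groups inside `Q`. -/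
theorem plus_of {G : Type*} [Group G] {Q : Subgroup G} {z i j k l : G} (h : Large Q z) (hc : Nat.card Q = 32)
    (hi : i ∈ Q) (hj : j ∈ Q) (hk : k ∈ Q) (hl : l ∈ Q) (ii : i * i = z) (jj : j * j = z) (kk : k * k = z)
    (ll : l * l = z) (ji : j * i = i * j * z) (lk : l * k = k * l * z) (ki : k * i = i * k) (li : l * i = i * l)
    (kj : k * j = j * k) (lj : l * j = j * l) : Plus Q z i j k l :=
  have S := Symp.mk' h hc hi hj hk hl ji lk ki kj li lj
  ⟨h, hc, S.gen, ii, jj, kk, ll, ji, lk, ki, li, kj, lj⟩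

/-- `Q = F*(C_G(z)) = Q₈ ∘ Q₈`, `2⁷ ∣ |G|`, `G` simple: `C / Q ≅ S₃ × S₃` with the exact actions of `Case9aa`. -/
theorem exists_aa {G : Type*} [Group G] [Finite G] [IsSimpleGroup G] (hnc : ¬ IsMulCommutative G) {z i j k l : G}
    (P : Plus ((Cfsg.generalizedFittingSubgroup ↥(Subgroup.centralizer ({z} : Set G))).map
      (Subgroup.centralizer ({z} : Set G)).subtype) z i j k l) (h128 : 128 ∣ Nat.card G) :
    ∃ i j k l x₁ x₂ y s, Case9aa ((Cfsg.generalizedFittingSubgroup ↥(Subgroup.centralizer ({z} : Set G))).map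
      (Subgroup.centralizer ({z} : Set G)).subtype) z i j k l x₁ x₂ y s := by
  have hG : ∀ H : Subgroup G, H.index ≠ 2 := no_index_two hnc
  have hO : ∀ N : Subgroup G, (Cfsg.generalizedFittingSubgroup ↥(Subgroup.centralizer ({z} : Set G))).map
      (Subgroup.centralizer ({z} : Set G)).subtype ≤ N → N ≤ Subgroup.centralizer ({z} : Set G) →
      (∀ c ∈ Subgroup.centralizer ({z} : Set G), ∀ n ∈ N, c * n * c⁻¹ ∈ N) → IsPGroup 2 N →
      N ≤ (Cfsg.generalizedFittingSubgroup ↥(Subgroup.centralizer ({z} : Set G))).map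
      (Subgroup.centralizer ({z} : Set G)).subtype := fun N _ h1 h2 h3 => le_of_two z h1 h2 h3
  generalize (Cfsg.generalizedFittingSubgroup ↥(Subgroup.centralizer ({z} : Set G))).map
      (Subgroup.centralizer ({z} : Set G)).subtype = Q at P hO ⊢
  have h1 : 128 ∣ Nat.card (Subgroup.centralizer ({z} : Set G)) := by
    have h2 := TwoCentral.odd_index P.large
    have h3 := Subgroup.card_mul_index (Subgroup.centralizer ({z} : Set G))
    rw [← h3] at h128
    have h4 : Nat.Coprime (2 ^ 7) (Subgroup.centralizer ({z} : Set G)).index :=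
      Nat.Coprime.pow_left 7 h2.coprime_two_left
    exact h4.dvd_of_dvd_mul_right h128
  rcases Cases.cases_plus hG P hO (OddDead.exists_outer hnc P.large P.card) with
      ⟨i, j, k, l, w, s, h⟩ | ⟨i, j, k, l, v, y, h⟩ | ⟨i, j, k, l, x₁, x₂, s, h⟩ |
      ⟨i, j, k, l, x₁, x₂, y, h⟩ | ⟨i, j, k, l, x₁, x₂, y, s, h⟩ | ⟨i, j, k, l, x₁, x₂, f, h, h2⟩
  · rw [h.card_cent] at h1; omega
  · rw [h.card_cent] at h1; omega
  · rw [h.card_cent] at h1; omega
  · rw [h.card_cent] at h1; omega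
  · exact ⟨i, j, k, l, x₁, x₂, y, s, h⟩
  · exact (CType.case94 hnc h h2).elim

/-- The same with the two recognition theorems as hypotheses: `G ≅ PSU₄(3)` or `G ≅ PSL₄(3)`. -/
theorem iso_of_plus {G : Type u} [Group G] [Finite G] [IsSimpleGroup G] (hnc : ¬ IsMulCommutative G) {z i j k l : G}
    (P : Plus ((Cfsg.generalizedFittingSubgroup ↥(Subgroup.centralizer ({z} : Set G))).map
      (Subgroup.centralizer ({z} : Set G)).subtype) z i j k l) (h128 : 128 ∣ Nat.card G)
    (aa : ∀ (Q : Subgroup G) (z i j k l x₁ x₂ y s : G), Case9aa Q z i j k l x₁ x₂ y s →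
      (∀ g : G, g * z * g⁻¹ ∈ Q → g * z * g⁻¹ = z) →
      ∃ (F : Type) (_ : Field F) (_ : Fintype F), Fintype.card F = 3 ∧
        Nonempty (G ≃* Matrix.ProjectiveSpecialLinearGroup (Fin 4) F))
    (aa' : ∀ (Q : Subgroup G) (z i j k l x₁ x₂ y s g : G), Case9aa Q z i j k l x₁ x₂ y s →
      g * z * g⁻¹ ∈ Q → g * z * g⁻¹ ≠ z →
      ∃ (F : Type) (_ : Field F) (_ : Fintype F), Fintype.card F = 9 ∧ Nonempty (G ≃* Cfsg.PSU 4 F 3)) :
    (∃ (F : Type) (_ : Field F) (_ : Fintype F), Fintype.card F = 9 ∧ Nonempty (G ≃* Cfsg.PSU 4 F 3)) ∨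
      (∃ (F : Type) (_ : Field F) (_ : Fintype F), Fintype.card F = 3 ∧
        Nonempty (G ≃* Matrix.ProjectiveSpecialLinearGroup (Fin 4) F)) := by
  obtain ⟨i, j, k, l, x₁, x₂, y, s, h⟩ := exists_aa hnc P h128
  by_cases h1 : ∀ g : G, g * z * g⁻¹ ∈ (Cfsg.generalizedFittingSubgroup ↥(Subgroup.centralizer ({z} : Set G))).map
      (Subgroup.centralizer ({z} : Set G)).subtype → g * z * g⁻¹ = z
  · exact Or.inr (aa _ z i j k l x₁ x₂ y s h h1)
  · push Not at h1
    obtain ⟨g, hg, hne⟩ := h1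
    exact Or.inl (aa' _ z i j k l x₁ x₂ y s g h hg hne)

end Cfsg.Agent.LargeExtra.W2.PlusExport
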