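import Cfsg.Agent.LargeExtra.W2.Wr

/-!
# The subgroups of `S₃ wr 2` allowed by `Hyp`
-/

set_option autoImplicit false

namespace Cfsg.Agent.LargeExtra.W2.Wr

/-- the conclusion -/
def Concl (H : Subgroup Wr) : Prop := ∃ (s : Wr) (X : Shape), ∀ a, s * a * s⁻¹ ∈ H ↔ D X a = true

theorem Concl.of_conj {H : Subgroup Wr} (t : Wr) (h : Concl (H.map (MulAut.conj t).toMonoidHom)) : Concl H := by
  obtain ⟨s, X, hs⟩ := h
  refine ⟨t⁻¹ * s, X, fun a => ?_⟩
  rw [← hs a]
  constructor
  · intro h1
    refine ⟨_, h1, ?_⟩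
    show t * (t⁻¹ * s * a * (t⁻¹ * s)⁻¹) * t⁻¹ = _
    group
  · rintro ⟨b, hb, h2⟩
    have h3 : t * b * t⁻¹ = s * a * s⁻¹ := h2
    have h4 : t⁻¹ * s * a * (t⁻¹ * s)⁻¹ = t⁻¹ * (s * a * s⁻¹) * t := by group
    rw [h4, ← h3]
    have : t⁻¹ * (t * b * t⁻¹) * t = b := by group
    rw [this]; exact hb

/-! ### case `x₁, x₂ ∈ H` -/

/-- representative of the class of `a` modulo `⟨x₁, x₂⟩` -/
def rep (p q b : Bool) : Wr := ⟨if p then tau else 1, if q then tau else 1, b⟩

theorem rep_spec : ∀ a : Wr, ∃ m n : Fin 3, X1 ^ (m : ℕ) * X2 ^ (n : ℕ) * a = rep (od a.fg) (od a.sg) a.bg := by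
  decide +kernel

theorem D_rep_aux : ∀ X ∈ [Shape.a9, .c9, .aa, .f4], ∀ a : Wr,
    D X a = D X (rep (od a.fg) (od a.sg) a.bg) := by
  decide +kernel

theorem rep_mul : ∀ p q b p' q' b' : Bool, rep p q b * rep p' q' b' =
    if b then rep (p ^^ q') (q ^^ p') (!b') else rep (p ^^ p') (q ^^ q') b' := by
  decide +kernel

theorem mem_iff_rep {H : Subgroup Wr} (h1 : X1 ∈ H) (h2 : X2 ∈ H) (a : Wr) :
    a ∈ H ↔ rep (od a.fg) (od a.sg) a.bg ∈ H := by
  obtain ⟨m, n, h⟩ := rep_spec a
  rw [← h]
  exact (H.mul_mem_cancel_left (mul_mem (pow_mem h1 _) (pow_mem h2 _))).symm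

theorem case_nine {H : Subgroup Wr} (hH : Hyp H) (h1 : X1 ∈ H) (h2 : X2 ∈ H) : Concl H := by
  have hr1 : rep true false false ∉ H := fun h => by
    have := hH.R _ h
    revert this; decide
  have hr2 : rep false true false ∉ H := fun h => by
    have := hH.R _ h
    revert this; decide
  have hone : rep false false false ∈ H := H.one_mem
  have mul := fun {p q b p' q' b'} (x : rep p q b ∈ H) (y : rep p' q' b' ∈ H) =>
    (rep_mul p q b p' q' b') ▸ mul_mem x y
  -- some even element
  have hev : rep true true false ∈ H ∨ rep false false true ∈ H ∨ rep true true true ∈ H := by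
    by_contra hcon
    push Not at hcon
    obtain ⟨c1, c2, c3⟩ := hcon
    obtain ⟨a, ha, ha1, ha2⟩ := hH.ev
    have h3 := (mem_iff_rep h1 h2 a).1 ha
    have key : ∀ a : Wr, a ≠ 1 → a * a = 1 →
        (od a.fg, od a.sg, a.bg) ∈ [(true, false, false), (false, true, false), (true, true, false),
          (false, false, true), (true, true, true)] := by decide +kernel
    have h4 := key a ha1 ha2
    simp only [List.mem_cons, List.not_mem_nil, or_false, Prod.mk.injEq] at h4
    rcases h4 with ⟨e1, e2, e3⟩ | ⟨e1, e2, e3⟩ | ⟨e1, e2, e3⟩ | ⟨e1, e2, e3⟩ | ⟨e1, e2, e3⟩ <;>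
      rw [e1, e2, e3] at h3
    · exact hr1 h3
    · exact hr2 h3
    · exact c1 h3
    · exact c2 h3
    · exact c3 h3
  have fin : ∀ X ∈ [Shape.a9, .c9, .aa, .f4],
      (∀ p q b, rep p q b ∈ H ↔ D X (rep p q b) = true) → Concl H := by
    intro X hX hall
    refine ⟨1, X, fun a => ?_⟩
    rw [one_mul, inv_one, mul_one, mem_iff_rep h1 h2, D_rep_aux X hX a]
    exact hall _ _ _
  by_cases hy : rep true true false ∈ H
  · by_cases hs : rep false false true ∈ H
    · -- aa
      have hys : rep true true true ∈ H := mul hy hs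
      have hf1 : rep true false true ∉ H := fun h => hr1 (mul h hs)
      have hf2 : rep false true true ∉ H := fun h => hr2 (mul h hs)
      refine fin .aa (by simp) fun p q b => ?_
      cases p <;> cases q <;> cases b
      · exact iff_of_true hone (by decide)
      · exact iff_of_true hs (by decide)
      · exact iff_of_false hr2 (by decide)
      · exact iff_of_false hf2 (by decide)
      · exact iff_of_false hr1 (by decide)
      · exact iff_of_false hf1 (by decide)
      · exact iff_of_true hy (by decide)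
      · exact iff_of_true hys (by decide)
    · have hys : rep true true true ∉ H := fun h => hs (mul hy h)
      by_cases hf : rep true false true ∈ H
      · have hf2 : rep false true true ∈ H := mul hy hf
        refine fin .f4 (by simp) fun p q b => ?_
        cases p <;> cases q <;> cases b
        · exact iff_of_true hone (by decide)
        · exact iff_of_false hs (by decide)
        · exact iff_of_false hr2 (by decide)
        · exact iff_of_true hf2 (by decide)
        · exact iff_of_false hr1 (by decide)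
        · exact iff_of_true hf (by decide)
        · exact iff_of_true hy (by decide)
        · exact iff_of_false hys (by decide)
      · have hf2 : rep false true true ∉ H := fun h => hf (mul hy h)
        refine fin .c9 (by simp) fun p q b => ?_
        cases p <;> cases q <;> cases b
        · exact iff_of_true hone (by decide)
        · exact iff_of_false hs (by decide)
        · exact iff_of_false hr2 (by decide)
        · exact iff_of_false hf2 (by decide)
        · exact iff_of_false hr1 (by decide)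
        · exact iff_of_false hf (by decide)
        · exact iff_of_true hy (by decide)
        · exact iff_of_false hys (by decide)
  · have hf1 : rep true false true ∉ H := fun h => hy (mul h h)
    have hf2 : rep false true true ∉ H := fun h => hy (mul h h)
    by_cases hs : rep false false true ∈ H
    · have hys : rep true true true ∉ H := fun h => hy (mul h hs)
      refine fin .a9 (by simp) fun p q b => ?_
      cases p <;> cases q <;> cases b
      · exact iff_of_true hone (by decide)
      · exact iff_of_true hs (by decide)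
      · exact iff_of_false hr2 (by decide)
      · exact iff_of_false hf2 (by decide)
      · exact iff_of_false hr1 (by decide)
      · exact iff_of_false hf1 (by decide)
      · exact iff_of_false hy (by decide)
      · exact iff_of_false hys (by decide)
    · have hys : rep true true true ∈ H := by
        rcases hev with h | h | h
        · exact absurd h hy
        · exact absurd h hs
        · exact h
      -- conjugate by `(1, τ, 0)`
      refine ⟨T2, .a9, fun a => ?_⟩
      rw [mem_iff_rep h1 h2]
      have hall : ∀ p q b, rep p q b ∈ H ↔ (rep p q b = rep false false false ∨ rep p q b = rep true true true) := by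
        intro p q b
        cases p <;> cases q <;> cases b
        · exact iff_of_true hone (by decide)
        · exact iff_of_false hs (by decide)
        · exact iff_of_false hr2 (by decide)
        · exact iff_of_false hf2 (by decide)
        · exact iff_of_false hr1 (by decide)
        · exact iff_of_false hf1 (by decide)
        · exact iff_of_false hy (by decide)
        · exact iff_of_true hys (by decide)
      rw [hall]
      revert a
      decide +kernel

/-! ### case `x₁ ∈ H`, `x₂ ∉ H` -/

theorem case_one {H : Subgroup Wr} (hH : Hyp H) (h1 : X1 ∈ H) (h2 : X2 ∉ H) : False := by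
  have k1 : ∀ a : Wr, a.bg = true → a * X1 * a⁻¹ = X2 ∨ a * X1 * a⁻¹ = X2⁻¹ := by decide +kernel
  have k2 : ∀ a : Wr, a.bg = false → (od a.fg ≠ od a.sg) → isR (a * a * a) = true := by decide +kernel
  have k3 : ∀ a : Wr, a.bg = false → od a.fg = false → od a.sg = false →
      a.sg = 1 ∨ ∃ m : Fin 3, X1 ^ (m : ℕ) * a = X2 ∨ X1 ^ (m : ℕ) * a = X2⁻¹ := by decide +kernel
  have hb : ∀ a ∈ H, a.bg = false := by
    intro a ha
    by_contra hcon
    have hcon' : a.bg = true := by simpa using hcon
    have h3 : a * X1 * a⁻¹ ∈ H := mul_mem (mul_mem ha h1) (inv_mem ha)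
    rcases k1 a hcon' with h4 | h4 <;> rw [h4] at h3
    · exact h2 h3
    · exact h2 (inv_mem_iff.1 h3)
  have hs : ∀ a ∈ H, od a.fg = od a.sg := by
    intro a ha
    by_contra hcon
    have h3 := k2 a (hb a ha) hcon
    rw [hH.R _ (mul_mem (mul_mem ha ha) ha)] at h3
    exact absurd h3 (by decide)
  have he : ∀ a ∈ H, od a.sg = false → a.sg = 1 := by
    intro a ha h3
    rcases k3 a (hb a ha) ((hs a ha).trans h3) h3 with h4 | ⟨m, h4 | h4⟩
    · exact h4
    · exact absurd (h4 ▸ mul_mem (pow_mem h1 _) ha) h2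
    · exact absurd (inv_mem_iff.1 (h4 ▸ mul_mem (pow_mem h1 _) ha)) h2
  by_cases hodd : ∃ a ∈ H, od a.sg = true
  · obtain ⟨a0, ha0, ho⟩ := hodd
    have hall : ∀ a ∈ H, a.sg = 1 ∨ a.sg = a0.sg := by
      intro a ha
      by_cases h3 : od a.sg = false
      · exact Or.inl (he a ha h3)
      · right
        have h3' : od a.sg = true := by simpa using h3
        have h4 : a * a0⁻¹ ∈ H := mul_mem ha (inv_mem ha0)
        have hba := hb a ha
        have hb0 := hb a0 ha0
        have h5 : (a * a0⁻¹).sg = a.sg * a0.sg⁻¹ := by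
          obtain ⟨a1, a2, a3⟩ := a
          obtain ⟨b1, b2, b3⟩ := a0
          simp only at hba hb0
          subst hba hb0
          rfl
        have h6 : od (a * a0⁻¹).sg = false := by
          rw [h5, od_mul, od_inv, h3', ho]; rfl
        have h7 := he _ h4 h6
        rw [h5, mul_inv_eq_one] at h7
        exact h7
    have hfix : ∀ g : S3, od g = true → ∃ x, g.app x = x := by decide +kernel
    obtain ⟨x, hx⟩ := hfix a0.sg ho
    obtain ⟨a, ha, hne⟩ := hH.fix (Sum.inr x)
    apply hne
    have hba := hb a ha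
    have h8 : a.sg.app x = x := by
      rcases hall a ha with h | h <;> rw [h]
      · exact S3.app_one x
      · exact hx
    obtain ⟨a1, a2, a3⟩ := a
    simp only at hba h8
    subst hba
    exact congrArg Sum.inr h8
  · push Not at hodd
    obtain ⟨a, ha, hne⟩ := hH.fix (Sum.inr 0)
    apply hne
    have hba := hb a ha
    have h8 : a.sg = 1 := he a ha (by simpa using hodd a ha)
    obtain ⟨a1, a2, a3⟩ := a
    simp only at hba h8
    subst hba h8
    exact congrArg Sum.inr (S3.app_one 0)

/-! ### case `v ∈ H`, `x₁ ∉ H` -/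

theorem case_v {H : Subgroup Wr} (hH : Hyp H) (hv : Vv ∈ H) (h1 : X1 ∉ H) (h2 : X2 ∉ H) : Concl H := by
  have hw : Ww ∉ H := fun h => by
    have h3 : Vv * Ww ∈ H := mul_mem hv h
    have h4 : (Vv * Ww) * (Vv * Ww) = X1 := by decide +kernel
    exact h1 (h4 ▸ mul_mem h3 h3)
  have hw' : Ww⁻¹ ∉ H := fun h => hw (inv_mem_iff.1 h)
  -- no central involution
  have k1 : ∀ u : Wr, (u.bg = true ∧ od u.fg = false ∧ u.sg = u.fg⁻¹) →
      ∀ a : Wr, (a * Vv * a⁻¹ = Vv ∨ a * Vv * a⁻¹ = Vv⁻¹) →
      (a * u * a⁻¹ = u ∨ u * (a * u * a⁻¹) = Ww ∨ u * (a * u * a⁻¹) = Ww⁻¹) := by decide +kernel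
  have k2 : ∀ a : Wr, a * Vv * a⁻¹ = Vv ∨ a * Vv * a⁻¹ = Vv⁻¹ ∨ a * Vv * a⁻¹ = Ww ∨ a * Vv * a⁻¹ = Ww⁻¹ := by
    decide +kernel
  have hVc : ∀ a ∈ H, a * Vv * a⁻¹ = Vv ∨ a * Vv * a⁻¹ = Vv⁻¹ := by
    intro a ha
    have h3 : a * Vv * a⁻¹ ∈ H := mul_mem (mul_mem ha hv) (inv_mem ha)
    rcases k2 a with h | h | h | h
    · exact Or.inl h
    · exact Or.inr h
    · exact absurd (h ▸ h3) hw
    · exact absurd (h ▸ h3) hw'
  have hU : ∀ u ∈ H, ¬ (u.bg = true ∧ od u.fg = false ∧ u.sg = u.fg⁻¹) := by
    intro u hu hk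
    have hcen : ∀ a ∈ H, a * u * a⁻¹ = u := by
      intro a ha
      have h3 : u * (a * u * a⁻¹) ∈ H := mul_mem hu (mul_mem (mul_mem ha hu) (inv_mem ha))
      rcases k1 u hk a (hVc a ha) with h | h | h
      · exact h
      · exact absurd (h ▸ h3) hw
      · exact absurd (h ▸ h3) hw'
    have k3 : ∀ u : Wr, (u.bg = true ∧ od u.fg = false ∧ u.sg = u.fg⁻¹) → u * u = 1 := by decide +kernel
    have h4 := hH.O u hu (k3 u hk) hcen
    rw [h4] at hk
    exact absurd hk.1 (by decide)
  -- classification of the elements of `H`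
  have k4 : ∀ a : Wr, a.bg = true → od a.fg = false → od a.sg = false →
      ((a * a * a).bg = true ∧ od (a * a * a).fg = false ∧ (a * a * a).sg = (a * a * a).fg⁻¹) := by
    decide +kernel
  have k5 : ∀ a : Wr, a.bg = true → od a.fg ≠ od a.sg → a * Vv * a⁻¹ = Ww ∨ a * Vv * a⁻¹ = Ww⁻¹ := by
    decide +kernel
  have k6 : ∀ a : Wr, a.bg = false → (od a.fg ≠ od a.sg) → isR (a * a * a) = true := by decide +kernel
  have k7 : ∀ a : Wr, a.bg = false → od a.fg = false → od a.sg = false →
      (a = 1 ∨ a = Vv ∨ a = Vv⁻¹) ∨ ∃ m : Fin 3, Vv ^ (m : ℕ) * a = X1 ∨ Vv ^ (m : ℕ) * a = X1⁻¹ := by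
    decide +kernel
  have hpar : ∀ a ∈ H, od a.fg = od a.sg := by
    intro a ha
    by_contra hcon
    by_cases hb : a.bg = true
    · have h3 : a * Vv * a⁻¹ ∈ H := mul_mem (mul_mem ha hv) (inv_mem ha)
      rcases k5 a hb hcon with h | h
      · exact hw (h ▸ h3)
      · exact hw' (h ▸ h3)
    · have h3 := k6 a (by simpa using hb) hcon
      rw [hH.R _ (mul_mem (mul_mem ha ha) ha)] at h3
      exact absurd h3 (by decide)
  have hevs : ∀ a ∈ H, od a.fg = false → a = 1 ∨ a = Vv ∨ a = Vv⁻¹ := by
    intro a ha h3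
    have h4 : od a.sg = false := (hpar a ha).symm.trans h3
    by_cases hb : a.bg = true
    · exact absurd (k4 a hb h3 h4) (hU _ (mul_mem (mul_mem ha ha) ha))
    · rcases k7 a (by simpa using hb) h3 h4 with h | ⟨m, h | h⟩
      · exact h
      · exact absurd (h ▸ mul_mem (pow_mem hv _) ha) h1
      · exact absurd (inv_mem_iff.1 (h ▸ mul_mem (pow_mem hv _) ha)) h1
  obtain ⟨t, ht, ht1, ht2⟩ := hH.ev
  have hto : od t.fg = true := by
    by_contra hcon
    rcases hevs t ht (by simpa using hcon) with h | h | h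
    · exact ht1 h
    · rw [h] at ht2; revert ht2; decide +kernel
    · rw [h] at ht2; revert ht2; decide +kernel
  have hto' : od t.sg = true := (hpar t ht).symm.trans hto
  -- `H = ⟨v⟩ ∪ ⟨v⟩ t`
  have hmul : ∀ a ∈ H, a * t = 1 ∨ a * t = Vv ∨ a * t = Vv⁻¹ ∨ a = 1 ∨ a = Vv ∨ a = Vv⁻¹ := by
    intro a ha
    by_cases h3 : od a.fg = false
    · exact Or.inr (Or.inr (Or.inr (hevs a ha h3)))
    · have h3' : od a.fg = true := by simpa using h3
      have h4 : od a.sg = true := (hpar a ha).symm.trans h3'
      have h5 : od (a * t).fg = false := by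
        rw [mul_def]
        split_ifs
        · show od (a.fg * t.sg) = false
          rw [od_mul, h3', hto']; rfl
        · show od (a.fg * t.fg) = false
          rw [od_mul, h3', hto]; rfl
      rcases hevs _ (mul_mem ha ht) h5 with h | h | h
      · exact Or.inl h
      · exact Or.inr (Or.inl h)
      · exact Or.inr (Or.inr (Or.inl h))
  have hiff : ∀ a, a ∈ H ↔ a ∈ [1, Vv, Vv⁻¹, t, Vv * t, Vv⁻¹ * t] := by
    intro a
    have e1 : ∀ b : Wr, a * t = b → a = b * t := fun b hb => by
      rw [← hb, mul_assoc, ht2, mul_one]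
    constructor
    · intro ha
      simp only [List.mem_cons, List.not_mem_nil, or_false]
      rcases hmul a ha with h | h | h | h | h | h
      · right; right; right; left; rw [e1 _ h, one_mul]
      · right; right; right; right; left; exact e1 _ h
      · right; right; right; right; right; exact e1 _ h
      · left; exact h
      · right; left; exact h
      · right; right; left; exact h
    · intro ha
      simp only [List.mem_cons, List.not_mem_nil, or_false] at ha
      rcases ha with h | h | h | h | h | h <;> rw [h]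
      · exact one_mem _
      · exact hv
      · exact inv_mem hv
      · exact ht
      · exact mul_mem hv ht
      · exact mul_mem (inv_mem hv) ht
  by_cases hb : t.bg = true
  · have k8 : ∀ t : Wr, t.bg = true → od t.fg = true → t * t = 1 →
        ∀ a : Wr, (⟨1, t.fg, false⟩ : Wr) * a * (⟨1, t.fg, false⟩ : Wr)⁻¹ ∈ [1, Vv, Vv⁻¹, t, Vv * t, Vv⁻¹ * t] ↔
          D .F1 a = true := by decide +kernel
    exact ⟨⟨1, t.fg, false⟩, .F1, fun a => by rw [hiff]; exact k8 t hb hto ht2 a⟩
  · have k9 : ∀ t : Wr, t.bg = false → od t.fg = true → od t.sg = true →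
        ∃ m : Fin 3, ∀ a : Wr, X2 ^ (m : ℕ) * a * (X2 ^ (m : ℕ))⁻¹ ∈ [1, Vv, Vv⁻¹, t, Vv * t, Vv⁻¹ * t] ↔
          D .F2 a = true := by decide +kernel
    obtain ⟨m, hm⟩ := k9 t (by simpa using hb) hto hto'
    exact ⟨X2 ^ (m : ℕ), .F2, fun a => by rw [hiff]; exact hm a⟩

/-- The classification. -/
theorem classify {H : Subgroup Wr} (hH : Hyp H) : Concl H := by
  by_cases h1 : X1 ∈ H
  · by_cases h2 : X2 ∈ H
    · exact case_nine hH h1 h2
    · exact (case_one hH h1 h2).elim
  · by_cases h2 : X2 ∈ H
    · exfalso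
      have e1 : Ss * X2 * Ss⁻¹ = X1 := by decide +kernel
      have e2 : Ss⁻¹ * X2 * Ss = X1 := by decide +kernel
      refine case_one (hH.conj Ss) ⟨X2, h2, e1⟩ ?_
      rintro ⟨a, ha, h3⟩
      have h3' : Ss * a * Ss⁻¹ = X2 := h3
      apply h1
      rw [← e2, ← h3']
      have : Ss⁻¹ * (Ss * a * Ss⁻¹) * Ss = a := by group
      rw [this]; exact ha
    · by_cases hv : Vv ∈ H
      · exact case_v hH hv h1 h2
      · -- `w ∈ H`
        have hw : Ww ∈ H := by
          have hex : ∃ a ∈ H, a ^ 4 ≠ 1 := by
            have := hH.two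
            push Not at this
            exact this
          obtain ⟨a, ha, h4⟩ := hex
          have k : ∀ a : Wr, a ^ 4 = 1 ∨ a ^ 4 = X1 ∨ a ^ 4 = X1⁻¹ ∨ a ^ 4 = X2 ∨ a ^ 4 = X2⁻¹ ∨
              a ^ 4 = Vv ∨ a ^ 4 = Vv⁻¹ ∨ a ^ 4 = Ww ∨ a ^ 4 = Ww⁻¹ := by decide +kernel
          have hm : a ^ 4 ∈ H := pow_mem ha _
          rcases k a with h | h | h | h | h | h | h | h | h <;> rw [h] at hm
          · exact absurd h h4
          · exact absurd hm h1
          · exact absurd (inv_mem_iff.1 hm) h1
          · exact absurd hm h2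
          · exact absurd (inv_mem_iff.1 hm) h2
          · exact absurd hm hv
          · exact absurd (inv_mem_iff.1 hm) hv
          · exact hm
          · exact inv_mem_iff.1 hm
        apply Concl.of_conj T2
        have e0 : T2 * Ww * T2⁻¹ = Vv := by decide +kernel
        have back : ∀ b c : Wr, T2⁻¹ * b * T2 = c → c ∉ H → b ∉ H.map (MulAut.conj T2).toMonoidHom := by
          rintro b c hbc hc ⟨a, ha, h3⟩
          have h3' : T2 * a * T2⁻¹ = b := h3
          apply hc
          rw [← hbc, ← h3']
          have : T2⁻¹ * (T2 * a * T2⁻¹) * T2 = a := by group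
          rw [this]; exact ha
        refine case_v (hH.conj T2) ⟨Ww, hw, e0⟩ ?_ ?_
        · exact back X1 X1 (by decide +kernel) h1
        · exact back X2 X2⁻¹ (by decide +kernel) (fun h => h2 (inv_mem_iff.1 h))

end Cfsg.Agent.LargeExtra.W2.Wr
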