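import Cfsg.Agent.LargeExtra.W2.Coord
import Cfsg.Agent.LargeExtra.W2.WrList
import Cfsg.Agent.LargeExtra.TOne
import Cfsg.Agent.LargeExtra.LemmaR

/-!
# The action of `C_G(z)` on the six cyclic subgroups of order four of `Q = Q₈ ∘ Q₈`
-/

set_option autoImplicit false

namespace Cfsg.Agent.LargeExtra.W2.Hom

open Cfsg.Agent.Co2Type.Quad Cfsg.Agent.LargeExtra.W2

abbrev Pt := Fin 3 ⊕ Fin 3

/-- same block and different -/
def adj : Pt → Pt → Bool
  | .inl a, .inl b => decide (a ≠ b)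
  | .inr a, .inr b => decide (a ≠ b)
  | _, _ => false

/-- third point of the block -/
def third : Pt → Pt → Pt
  | .inl a, .inl b => .inl (-(a + b))
  | .inr a, .inr b => .inr (-(a + b))
  | a, _ => a

/-- coefficients -/
def coef : Pt → Fin 4 → ZMod 2
  | .inl 0 => ![1, 0, 0, 0]
  | .inl 1 => ![0, 1, 0, 0]
  | .inl 2 => ![1, 1, 0, 0]
  | .inr 0 => ![0, 0, 1, 0]
  | .inr 1 => ![0, 0, 0, 1]
  | .inr 2 => ![0, 0, 1, 1]

theorem coef_injective : ∀ p p', coef p = coef p' → p = p' := by decide +kernel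

theorem coef_third : ∀ p p', adj p p' = true → coef (third p p') = coef p + coef p' := by decide +kernel

/-- the form in coordinates -/
def bc (c c' : Fin 4 → ZMod 2) : ZMod 2 := c 0 * c' 1 + c 1 * c' 0 + c 2 * c' 3 + c 3 * c' 2

def qc (c : Fin 4 → ZMod 2) : ZMod 2 := c 0 + c 1 + c 0 * c 1 + (c 2 + c 3 + c 2 * c 3)

theorem bc_coef : ∀ p p', bc (coef p) (coef p') = if adj p p' then 1 else 0 := by decide +kernel

theorem qc_coef : ∀ p, qc (coef p) = 1 := by decide +kernel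

theorem exists_coef : ∀ c : Fin 4 → ZMod 2, qc c = 1 → ∃ p, c = coef p := by decide +kernel

variable {G : Type*} [Group G] {Q : Subgroup G} {z i j k l : G}

/-- the six elements of order four (up to sign) -/
def e (i j k l : G) : Pt → G
  | .inl 0 => i
  | .inl 1 => j
  | .inl 2 => i * j
  | .inr 0 => k
  | .inr 1 => l
  | .inr 2 => k * l

theorem e_mem (P : Plus Q z i j k l) (p : Pt) : e i j k l p ∈ Q := by
  have hi := P.symp.mem_i
  have hj := P.symp.mem_j
  have hk := P.symp.mem_k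
  have hl := P.symp.mem_l
  match p with
  | .inl 0 => exact hi
  | .inl 1 => exact hj
  | .inl 2 => exact mul_mem hi hj
  | .inr 0 => exact hk
  | .inr 1 => exact hl
  | .inr 2 => exact mul_mem hk hl

/-- the six nonsingular vectors -/
noncomputable def u (P : Plus Q z i j k l) (p : Pt) : P.large.V := P.large.pr ⟨e i j k l p, e_mem P p⟩

/-- linear combinations -/
noncomputable def cb (P : Plus Q z i j k l) (c : Fin 4 → ZMod 2) : P.large.V :=
  comb P.large ⟨i, P.symp.mem_i⟩ ⟨j, P.symp.mem_j⟩ ⟨k, P.symp.mem_k⟩ ⟨l, P.symp.mem_l⟩ c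

section

variable (P : Plus Q z i j k l)

theorem cb_bijective : Function.Bijective (cb P) :=
  comb_bijective P.large P.card P.ji P.lk P.ki P.kj P.li P.lj

theorem cb_add (c c' : Fin 4 → ZMod 2) : cb P (c + c') = cb P c + cb P c' := by
  simp only [cb, comb, Pi.add_apply, add_smul]
  abel

theorem u_eq (p : Pt) : u P p = cb P (coef p) := by
  match p with
  | .inl 0 => simp [cb, comb, coef, u, e]
  | .inl 1 => simp [cb, comb, coef, u, e]
  | .inl 2 =>
    have : u P (.inl 2) = P.large.pr ⟨i, P.symp.mem_i⟩ + P.large.pr ⟨j, P.symp.mem_j⟩ :=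
      P.large.pr_mul ⟨i, P.symp.mem_i⟩ ⟨j, P.symp.mem_j⟩
    rw [this]
    simp [cb, comb, coef]
  | .inr 0 => simp [cb, comb, coef, u, e]
  | .inr 1 => simp [cb, comb, coef, u, e]
  | .inr 2 =>
    have : u P (.inr 2) = P.large.pr ⟨k, P.symp.mem_k⟩ + P.large.pr ⟨l, P.symp.mem_l⟩ :=
      P.large.pr_mul ⟨k, P.symp.mem_k⟩ ⟨l, P.symp.mem_l⟩
    rw [this]
    simp [cb, comb, coef]

theorem b_cb (c c' : Fin 4 → ZMod 2) : P.large.b (cb P c) (cb P c') = bc c c' := by
  have h := P.large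
  have b01 : P.large.b (P.large.pr ⟨i, P.symp.mem_i⟩) (P.large.pr ⟨j, P.symp.mem_j⟩) = 1 := by
    rw [P.large.b_pr_one]; exact ac_symm P.large P.ji
  have b23 : P.large.b (P.large.pr ⟨k, P.symp.mem_k⟩) (P.large.pr ⟨l, P.symp.mem_l⟩) = 1 := by
    rw [P.large.b_pr_one]; exact ac_symm P.large P.lk
  have b10 : P.large.b (P.large.pr ⟨j, P.symp.mem_j⟩) (P.large.pr ⟨i, P.symp.mem_i⟩) = 1 := by
    rw [P.large.b_comm]; exact b01
  have b32 : P.large.b (P.large.pr ⟨l, P.symp.mem_l⟩) (P.large.pr ⟨k, P.symp.mem_k⟩) = 1 := by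
    rw [P.large.b_comm]; exact b23
  have b20 : P.large.b (P.large.pr ⟨k, P.symp.mem_k⟩) (P.large.pr ⟨i, P.symp.mem_i⟩) = 0 := by
    rw [P.large.b_pr]; exact P.ki
  have b21 : P.large.b (P.large.pr ⟨k, P.symp.mem_k⟩) (P.large.pr ⟨j, P.symp.mem_j⟩) = 0 := by
    rw [P.large.b_pr]; exact P.kj
  have b30 : P.large.b (P.large.pr ⟨l, P.symp.mem_l⟩) (P.large.pr ⟨i, P.symp.mem_i⟩) = 0 := by
    rw [P.large.b_pr]; exact P.li
  have b31 : P.large.b (P.large.pr ⟨l, P.symp.mem_l⟩) (P.large.pr ⟨j, P.symp.mem_j⟩) = 0 := by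
    rw [P.large.b_pr]; exact P.lj
  have b02 : P.large.b (P.large.pr ⟨i, P.symp.mem_i⟩) (P.large.pr ⟨k, P.symp.mem_k⟩) = 0 := by
    rw [P.large.b_comm]; exact b20
  have b12 : P.large.b (P.large.pr ⟨j, P.symp.mem_j⟩) (P.large.pr ⟨k, P.symp.mem_k⟩) = 0 := by
    rw [P.large.b_comm]; exact b21
  have b03 : P.large.b (P.large.pr ⟨i, P.symp.mem_i⟩) (P.large.pr ⟨l, P.symp.mem_l⟩) = 0 := by
    rw [P.large.b_comm]; exact b30
  have b13 : P.large.b (P.large.pr ⟨j, P.symp.mem_j⟩) (P.large.pr ⟨l, P.symp.mem_l⟩) = 0 := by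
    rw [P.large.b_comm]; exact b31
  simp only [cb, comb, map_add, LinearMap.add_apply, map_smul, LinearMap.smul_apply, smul_eq_mul,
    b01, b23, b10, b32, b20, b21, b30, b31, b02, b12, b03, b13, P.large.b_self, bc]
  ring

theorem q_smul (h : Large Q z) (a : ZMod 2) (v : h.V) : h.q (a • v) = a * h.q v := by
  have : a = 0 ∨ a = 1 := by revert a; decide
  rcases this with rfl | rfl
  · rw [zero_smul, zero_mul, h.q_zero]
  · rw [one_smul, one_mul]

theorem q_cb (c : Fin 4 → ZMod 2) : P.large.q (cb P c) = qc c := by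
  have q0 : P.large.q (P.large.pr ⟨i, P.symp.mem_i⟩) = 1 := P.large.q_eq_one.2 P.ii
  have q1 : P.large.q (P.large.pr ⟨j, P.symp.mem_j⟩) = 1 := P.large.q_eq_one.2 P.jj
  have q2 : P.large.q (P.large.pr ⟨k, P.symp.mem_k⟩) = 1 := P.large.q_eq_one.2 P.kk
  have q3 : P.large.q (P.large.pr ⟨l, P.symp.mem_l⟩) = 1 := P.large.q_eq_one.2 P.ll
  have b01 : P.large.b (P.large.pr ⟨i, P.symp.mem_i⟩) (P.large.pr ⟨j, P.symp.mem_j⟩) = 1 := by
    rw [P.large.b_pr_one]; exact ac_symm P.large P.ji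
  have b23 : P.large.b (P.large.pr ⟨k, P.symp.mem_k⟩) (P.large.pr ⟨l, P.symp.mem_l⟩) = 1 := by
    rw [P.large.b_pr_one]; exact ac_symm P.large P.lk
  have b02 : P.large.b (P.large.pr ⟨i, P.symp.mem_i⟩) (P.large.pr ⟨k, P.symp.mem_k⟩) = 0 := by
    rw [P.large.b_comm, P.large.b_pr]; exact P.ki
  have b12 : P.large.b (P.large.pr ⟨j, P.symp.mem_j⟩) (P.large.pr ⟨k, P.symp.mem_k⟩) = 0 := by
    rw [P.large.b_comm, P.large.b_pr]; exact P.kj
  have b03 : P.large.b (P.large.pr ⟨i, P.symp.mem_i⟩) (P.large.pr ⟨l, P.symp.mem_l⟩) = 0 := by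
    rw [P.large.b_comm, P.large.b_pr]; exact P.li
  have b13 : P.large.b (P.large.pr ⟨j, P.symp.mem_j⟩) (P.large.pr ⟨l, P.symp.mem_l⟩) = 0 := by
    rw [P.large.b_comm, P.large.b_pr]; exact P.lj
  simp only [cb, comb, P.large.q_add', q_smul, map_add, LinearMap.add_apply, map_smul,
    LinearMap.smul_apply, smul_eq_mul, b01, b23, b02, b12, b03, b13, q0, q1, q2, q3, qc]
  ring

theorem b_u (p p' : Pt) : P.large.b (u P p) (u P p') = if adj p p' then 1 else 0 := by
  rw [u_eq, u_eq, b_cb, bc_coef]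

theorem q_u (p : Pt) : P.large.q (u P p) = 1 := by rw [u_eq, q_cb, qc_coef]

theorem exists_u {v : P.large.V} (hv : P.large.q v = 1) : ∃ p, v = u P p := by
  obtain ⟨c, rfl⟩ := (cb_bijective P).2 v
  rw [q_cb] at hv
  obtain ⟨p, rfl⟩ := exists_coef c hv
  exact ⟨p, (u_eq P p).symm⟩

theorem u_injective : Function.Injective (u P) := by
  intro p p' h
  rw [u_eq, u_eq] at h
  exact coef_injective p p' ((cb_bijective P).1 h)

theorem u_third {p p' : Pt} (h : adj p p' = true) : u P (third p p') = u P p + u P p' := by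
  rw [u_eq, u_eq, u_eq, coef_third p p' h, cb_add]

/-- two linear maps agreeing on the six vectors are equal -/
theorem ext_u {f g : P.large.V ≃ₗ[ZMod 2] P.large.V} (h : ∀ p, f (u P p) = g (u P p)) (v : P.large.V) :
    f v = g v := by
  obtain ⟨c, rfl⟩ := (cb_bijective P).2 v
  have h0 := h (.inl 0)
  have h1 := h (.inl 1)
  have h2 := h (.inr 0)
  have h3 := h (.inr 1)
  simp only [u, e] at h0 h1 h2 h3
  simp only [cb, comb, map_add, map_smul, h0, h1, h2, h3]

/-- `c` induces `a` -/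
def Ind (c : Subgroup.centralizer ({z} : Set G)) (a : Wr) : Prop :=
  ∀ p, P.large.act c (u P p) = u P (Wr.app a p)

variable {P}

theorem Ind.mul {c c' : Subgroup.centralizer ({z} : Set G)} {a a' : Wr} (h : Ind P c a) (h' : Ind P c' a') :
    Ind P (c * c') (a * a') := by
  intro p
  rw [map_mul, Wr.app_mul, ← h, ← h']
  rfl

theorem Ind.one : Ind P 1 1 := by
  intro p
  rw [map_one, Wr.app_one]
  rfl

theorem Ind.inv {c : Subgroup.centralizer ({z} : Set G)} {a : Wr} (h : Ind P c a) : Ind P c⁻¹ a⁻¹ := by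
  intro p
  have h1 := h (Wr.app a⁻¹ p)
  rw [← Wr.app_mul, mul_inv_cancel, Wr.app_one] at h1
  rw [← h1, ← LinearEquiv.mul_apply, ← map_mul, inv_mul_cancel, map_one]
  rfl

theorem Ind.unique {c : Subgroup.centralizer ({z} : Set G)} {a a' : Wr} (h : Ind P c a) (h' : Ind P c a') :
    a = a' := by
  apply Wr.toPerm_injective
  refine Equiv.ext fun p => ?_
  exact u_injective P ((h p).symm.trans (h' p))

theorem Ind.pow {c : Subgroup.centralizer ({z} : Set G)} {a : Wr} (h : Ind P c a) (n : ℕ) :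
    Ind P (c ^ n) (a ^ n) := by
  induction n with
  | zero => rw [pow_zero, pow_zero]; exact Ind.one
  | succ n ih => rw [pow_succ, pow_succ]; exact ih.mul h

theorem ind_of_mem {c : Subgroup.centralizer ({z} : Set G)} (hc : (c : G) ∈ Q) : Ind P c 1 := by
  intro p
  rw [P.large.act_mem c hc, Wr.app_one]
  rfl

theorem mem_of_ind {c : Subgroup.centralizer ({z} : Set G)} (h : Ind P c 1) : (c : G) ∈ Q := by
  have : Finite Q := Nat.finite_of_card_ne_zero (by rw [P.card]; decide)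
  apply P.large.mem_of_act c
  ext v
  refine ext_u P (fun p => ?_) v
  rw [h p, Wr.app_one]
  rfl

theorem ex_wr : ∀ p0 p1 p2 p3 : Pt, adj p0 p1 = true → adj p2 p3 = true → adj p0 p2 = false →
    adj p1 p2 = false → ∃ a : Wr, Wr.app a (.inl 0) = p0 ∧ Wr.app a (.inl 1) = p1 ∧
      Wr.app a (.inr 0) = p2 ∧ Wr.app a (.inr 1) = p3 := by decide +kernel

theorem app_third : ∀ a : Wr, Wr.app a (.inl 2) = third (Wr.app a (.inl 0)) (Wr.app a (.inl 1)) ∧
    Wr.app a (.inr 2) = third (Wr.app a (.inr 0)) (Wr.app a (.inr 1)) := by decide +kernel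

theorem exists_ind (P : Plus Q z i j k l) (c : Subgroup.centralizer ({z} : Set G)) : ∃ a, Ind P c a := by
  have hp : ∀ p, ∃ p', P.large.act c (u P p) = u P p' := by
    intro p
    apply exists_u P
    rw [P.large.q_act, q_u]
  choose π hπ using hp
  have hadj : ∀ p p', adj (π p) (π p') = adj p p' := by
    intro p p'
    have h1 := P.large.b_act c (u P p) (u P p')
    rw [hπ, hπ, b_u, b_u] at h1
    cases h2 : adj (π p) (π p') <;> cases h3 : adj p p'
    · rfl
    · rw [h2, h3] at h1; exact absurd h1 (by decide)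
    · rw [h2, h3] at h1; exact absurd h1 (by decide)
    · rfl
  obtain ⟨a, h0, h1, h2, h3⟩ := ex_wr (π (.inl 0)) (π (.inl 1)) (π (.inr 0)) (π (.inr 1))
    (by rw [hadj]; decide) (by rw [hadj]; decide) (by rw [hadj]; decide) (by rw [hadj]; decide)
  refine ⟨a, fun p => ?_⟩
  have e0 : u P (.inl 2) = u P (.inl 0) + u P (.inl 1) := u_third P (p := .inl 0) (p' := .inl 1) (by decide)
  have e1 : u P (.inr 2) = u P (.inr 0) + u P (.inr 1) := u_third P (p := .inr 0) (p' := .inr 1) (by decide)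
  match p with
  | .inl 0 => rw [hπ, h0]
  | .inl 1 => rw [hπ, h1]
  | .inl 2 =>
    rw [(app_third a).1, h0, h1, u_third P (by rw [hadj]; decide), e0, map_add, hπ, hπ]
  | .inr 0 => rw [hπ, h2]
  | .inr 1 => rw [hπ, h3]
  | .inr 2 =>
    rw [(app_third a).2, h2, h3, u_third P (by rw [hadj]; decide), e1, map_add, hπ, hπ]

/-- the image of `C_G(z)` in `S₃ wr 2` -/
def im (P : Plus Q z i j k l) : Subgroup Wr where
  carrier := {a | ∃ c, Ind P c a}
  mul_mem' := by
    rintro a b ⟨c, hc⟩ ⟨d, hd⟩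
    exact ⟨c * d, hc.mul hd⟩
  one_mem' := ⟨1, Ind.one⟩
  inv_mem' := by
    rintro a ⟨c, hc⟩
    exact ⟨c⁻¹, hc.inv⟩

theorem mem_im {a : Wr} : a ∈ im P ↔ ∃ c, Ind P c a := Iff.rfl

theorem refl_spec : ∀ a : Wr, Wr.isR a = true → ∃ p0 : Pt, ∀ p, Wr.app a p = if adj p0 p then third p0 p else p := by
  decide +kernel

/-- `Hyp` for the image -/
theorem hyp_im [Finite G] (hG : ∀ H : Subgroup G, H.index ≠ 2) (P : Plus Q z i j k l)
    (hO : ∀ N : Subgroup G, Q ≤ N → N ≤ Subgroup.centralizer ({z} : Set G) →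
      (∀ c ∈ Subgroup.centralizer ({z} : Set G), ∀ n ∈ N, c * n * c⁻¹ ∈ N) → IsPGroup 2 N → N ≤ Q)
    (hev : ∃ c ∈ Subgroup.centralizer ({z} : Set G), c ∉ Q ∧ c * c ∈ Q) : Wr.Hyp (im P) := by
  have h32 : 8 < Nat.card Q := by rw [P.card]; decide
  have hevH : ∃ a ∈ im P, a ≠ 1 ∧ a * a = 1 := by
    obtain ⟨c, hc, hcQ, hcc⟩ := hev
    obtain ⟨a, ha⟩ := exists_ind P ⟨c, hc⟩
    refine ⟨a, ⟨_, ha⟩, ?_, ?_⟩
    · rintro rfl
      exact hcQ (mem_of_ind ha)
    · exact (ha.mul ha).unique (ind_of_mem (c := ⟨c, hc⟩ * ⟨c, hc⟩) hcc)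
  -- normal 2-subgroups
  have key : ∀ N : Subgroup Wr, N ≤ im P → (∀ a ∈ im P, ∀ n ∈ N, a * n * a⁻¹ ∈ N) →
      (∀ n ∈ N, n ^ 4 = 1) → N = ⊥ := by
    intro N hN1 hN2 hN4
    rw [eq_bot_iff]
    intro n hn
    rw [Subgroup.mem_bot]
    let M : Subgroup G :=
      { carrier := {x | ∃ (h : x ∈ Subgroup.centralizer ({z} : Set G)), ∃ a ∈ N, Ind P ⟨x, h⟩ a}
        mul_mem' := by
          rintro x y ⟨hx, a, ha, h1⟩ ⟨hy, b, hb, h2⟩
          exact ⟨mul_mem hx hy, a * b, mul_mem ha hb, h1.mul h2⟩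
        one_mem' := ⟨one_mem _, 1, one_mem _, Ind.one⟩
        inv_mem' := by
          rintro x ⟨hx, a, ha, h1⟩
          exact ⟨inv_mem hx, a⁻¹, inv_mem ha, h1.inv⟩ }
    have hM : M ≤ Q := by
      apply hO M
      · intro x hx
        have hxC : x ∈ Subgroup.centralizer ({z} : Set G) :=
          Subgroup.mem_centralizer_singleton_iff.2 (P.large.comm_z x hx)
        exact ⟨hxC, 1, one_mem _, ind_of_mem hx⟩
      · rintro x ⟨hx, -⟩
        exact hx
      · rintro c hc x ⟨hx, a, ha, h1⟩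
        obtain ⟨b, hb⟩ := exists_ind P ⟨c, hc⟩
        exact ⟨mul_mem (mul_mem hc hx) (inv_mem hc), b * a * b⁻¹, hN2 b ⟨_, hb⟩ a ha, (hb.mul h1).mul hb.inv⟩
      · rintro ⟨x, hx, a, ha, h1⟩
        have h2 : Ind P (⟨x, hx⟩ ^ 4) 1 := by
          have := h1.pow 4
          rwa [hN4 a ha] at this
        have h3 : x ^ 4 ∈ Q := mem_of_ind h2
        obtain ⟨m, hm⟩ := Base.isPGroup P.large ⟨x ^ 4, h3⟩
        refine ⟨2 + m, Subtype.ext ?_⟩
        have h4 : (x ^ 4) ^ (2 ^ m) = 1 := congrArg Subtype.val hm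
        show x ^ (2 ^ (2 + m)) = 1
        rw [pow_add, pow_mul, show (2 : ℕ) ^ 2 = 4 from rfl]
        exact h4
    obtain ⟨c, hc⟩ := hN1 hn
    have : (c : G) ∈ M := ⟨c.2, n, hn, hc⟩
    exact hc.unique (ind_of_mem (hM this))
  refine ⟨?_, ?_, ?_, hevH, ?_⟩
  · -- no reflection
    rintro a ⟨c, hc⟩
    by_contra hcon
    have hR : Wr.isR a = true := by simpa using hcon
    obtain ⟨p0, hp0⟩ := refl_spec a hR
    have hv : ∀ v, P.large.act c v = v + P.large.b (u P p0) v • u P p0 := by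
      intro v
      obtain ⟨co, rfl⟩ := (cb_bijective P).2 v
      have hp : ∀ p, P.large.act c (u P p) = u P p + P.large.b (u P p0) (u P p) • u P p0 := by
        intro p
        rw [hc p, hp0 p, b_u]
        cases h1 : adj p0 p
        · simp
        · simp only [if_true, one_smul]
          rw [u_third P h1, add_comm]
      have h0 := hp (.inl 0)
      have h1 := hp (.inl 1)
      have h2 := hp (.inr 0)
      have h3 := hp (.inr 1)
      have e0 : u P (.inl 0) = P.large.pr ⟨i, P.symp.mem_i⟩ := rfl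
      have e1 : u P (.inl 1) = P.large.pr ⟨j, P.symp.mem_j⟩ := rfl
      have e2 : u P (.inr 0) = P.large.pr ⟨k, P.symp.mem_k⟩ := rfl
      have e3 : u P (.inr 1) = P.large.pr ⟨l, P.symp.mem_l⟩ := rfl
      rw [e0] at h0
      rw [e1] at h1
      rw [e2] at h2
      rw [e3] at h3
      simp only [cb, comb, map_add, map_smul, h0, h1, h2, h3, smul_add, smul_eq_mul, add_smul, mul_smul]
      abel
    exact LemmaR.no_reflection hG P.large h32 (q_u P p0) hv
  · -- central involutions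
    intro x hx hxx hcen
    have h1 := key (Subgroup.zpowers x) (by rw [Subgroup.zpowers_le]; exact hx) ?_ ?_
    · rw [Subgroup.zpowers_eq_bot] at h1
      exact h1
    · intro a ha n hn
      obtain ⟨m, rfl⟩ := Subgroup.mem_zpowers_iff.1 hn
      rw [← conj_zpow, hcen a ha]
      exact zpow_mem (Subgroup.mem_zpowers x) m
    · intro n hn
      obtain ⟨m, rfl⟩ := Subgroup.mem_zpowers_iff.1 hn
      have : (x ^ m) ^ 4 = ((x * x) ^ m) ^ 2 := by
        rw [← pow_two, ← zpow_natCast, ← zpow_natCast, ← zpow_natCast, ← zpow_mul, ← zpow_mul, ← zpow_mul]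
        congr 1
        push_cast
        ring
      rw [this, hxx, one_zpow, one_pow]
  · intro hall
    have h1 := key (im P) le_rfl (fun a ha n hn => mul_mem (mul_mem ha hn) (inv_mem ha)) hall
    obtain ⟨a, ha, hne, -⟩ := hevH
    rw [h1, Subgroup.mem_bot] at ha
    exact hne ha
  · -- no fixed point
    intro p
    by_contra hcon
    push Not at hcon
    have h1 := TOne.eq_zero_of_fixed hG P.large h32 (v := u P p) (fun c => by
      obtain ⟨a, ha⟩ := exists_ind P c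
      rw [ha p, hcon a ⟨c, ha⟩])
    have h2 := q_u P p
    rw [h1, P.large.q_zero] at h2
    exact absurd h2 (by decide)

/-- The classification of the image. -/
theorem concl_im [Finite G] (hG : ∀ H : Subgroup G, H.index ≠ 2) (P : Plus Q z i j k l)
    (hO : ∀ N : Subgroup G, Q ≤ N → N ≤ Subgroup.centralizer ({z} : Set G) →
      (∀ c ∈ Subgroup.centralizer ({z} : Set G), ∀ n ∈ N, c * n * c⁻¹ ∈ N) → IsPGroup 2 N → N ≤ Q)
    (hev : ∃ c ∈ Subgroup.centralizer ({z} : Set G), c ∉ Q ∧ c * c ∈ Q) : Wr.Concl (im P) :=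
  Wr.classify (hyp_im hG P hO hev)

end

end Cfsg.Agent.LargeExtra.W2.Hom
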