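import Cfsg.Agent.LargeExtra.W2.Iface

/-!
# S1759, `Case9aa`, case I (`L₄(3)`): the fusion data (interface; helper465, helper221)
-/

set_option autoImplicit false

namespace Cfsg.Agent.LargeExtra.W2

/-- `Case9aa`, `z` weakly closed in `Q`, split extension, `z ~ y ~ s ~ s y`, `z ≁ s z, s y z`. -/
structure LFour {G : Type*} [Group G] (Q : Subgroup G) (z i j k l x₁ x₂ y s : G) : Prop
    extends Case9aa Q z i j k l x₁ x₂ y s where
  y1' : y * y = 1
  s1' : s * s = 1
  sy' : s * y = y * s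
  weak : ∀ x ∈ Q, IsConj z x → x = z
  conj_y : IsConj z y
  conj_s : IsConj z s
  conj_sy : IsConj z (s * y)
  nconj_sz : ¬ IsConj z (s * z)
  nconj_syz : ¬ IsConj z (s * y * z)

end Cfsg.Agent.LargeExtra.W2
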