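import Cfsg.Agent.LargeExtra.W2.Hom

/-!
# Lifting elements of the image in `S₃ wr 2` to elements of `C_G(z)` with exact action
-/

set_option autoImplicit false

namespace Cfsg.Agent.LargeExtra.W2.Lift

open Cfsg.Agent.Co2Type.Quad Cfsg.Agent.LargeExtra.W2 Cfsg.Agent.LargeExtra.W2.Hom

variable {G : Type*} [Group G] {Q : Subgroup G} {z i j k l : G}

/-! ### change of coordinates -/

theorem e_sq (P : Plus Q z i j k l) (p : Pt) : e i j k l p * e i j k l p = z :=
  P.large.q_eq_one.1 (q_u P p)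

theorem adj_comm : ∀ p p' : Pt, adj p' p = adj p p' := by decide +kernel

theorem e_adj (P : Plus Q z i j k l) {p p' : Pt} (h : adj p p' = true) :
    e i j k l p' * e i j k l p = e i j k l p * e i j k l p' * z := by
  have h1 := b_u P p' p
  have h2 : adj p' p = true := by rw [adj_comm, h]
  rw [h2, if_pos rfl] at h1
  exact (P.large.b_pr_one ⟨_, e_mem P p'⟩ ⟨_, e_mem P p⟩).1 h1

theorem e_nadj (P : Plus Q z i j k l) {p p' : Pt} (h : adj p p' = false) :
    e i j k l p' * e i j k l p = e i j k l p * e i j k l p' := by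
  have h1 := b_u P p' p
  have h2 : adj p' p = false := by rw [adj_comm, h]
  rw [h2, if_neg (by decide)] at h1
  exact (P.large.b_pr ⟨_, e_mem P p'⟩ ⟨_, e_mem P p⟩).1 h1

theorem adj_app : ∀ (a : Wr) (p p' : Pt), adj (Wr.app a p) (Wr.app a p') = adj p p' := by decide +kernel

/-- new coordinates -/
theorem plus_new (P : Plus Q z i j k l) (s : Wr) : Plus Q z (e i j k l (Wr.app s (.inl 0)))
    (e i j k l (Wr.app s (.inl 1))) (e i j k l (Wr.app s (.inr 0))) (e i j k l (Wr.app s (.inr 1))) := by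
  have S : Symp Q z (e i j k l (Wr.app s (.inl 0)))
      (e i j k l (Wr.app s (.inl 1))) (e i j k l (Wr.app s (.inr 0))) (e i j k l (Wr.app s (.inr 1))) :=
    Symp.mk' P.large P.card (e_mem P _) (e_mem P _) (e_mem P _) (e_mem P _)
      (e_adj P (by rw [adj_app]; decide)) (e_adj P (by rw [adj_app]; decide))
      (e_nadj P (by rw [adj_app]; decide)) (e_nadj P (by rw [adj_app]; decide))
      (e_nadj P (by rw [adj_app]; decide)) (e_nadj P (by rw [adj_app]; decide))
  exact ⟨P.large, P.card, S.gen, e_sq P _, e_sq P _, e_sq P _, e_sq P _, S.ji, S.lk, S.ki, S.li, S.kj, S.lj⟩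

theorem u_new (P : Plus Q z i j k l) (s : Wr) (p : Pt) : u (plus_new P s) p = u P (Wr.app s p) := by
  have e0 : u (plus_new P s) (.inl 2) = u (plus_new P s) (.inl 0) + u (plus_new P s) (.inl 1) :=
    u_third _ (p := .inl 0) (p' := .inl 1) (by decide)
  have e1 : u (plus_new P s) (.inr 2) = u (plus_new P s) (.inr 0) + u (plus_new P s) (.inr 1) :=
    u_third _ (p := .inr 0) (p' := .inr 1) (by decide)
  have h0 : u (plus_new P s) (.inl 0) = u P (Wr.app s (.inl 0)) := rfl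
  have h1 : u (plus_new P s) (.inl 1) = u P (Wr.app s (.inl 1)) := rfl
  have h2 : u (plus_new P s) (.inr 0) = u P (Wr.app s (.inr 0)) := rfl
  have h3 : u (plus_new P s) (.inr 1) = u P (Wr.app s (.inr 1)) := rfl
  match p with
  | .inl 0 => exact h0
  | .inl 1 => exact h1
  | .inl 2 => rw [(app_third s).1, e0, h0, h1]; exact (u_third P (by rw [adj_app]; decide)).symm
  | .inr 0 => exact h2
  | .inr 1 => exact h3
  | .inr 2 => rw [(app_third s).2, e1, h2, h3]; exact (u_third P (by rw [adj_app]; decide)).symm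

theorem mem_im_new (P : Plus Q z i j k l) (s a : Wr) : a ∈ im (plus_new P s) ↔ s * a * s⁻¹ ∈ im P := by
  constructor
  · rintro ⟨c, hc⟩
    refine ⟨c, fun p => ?_⟩
    have h1 := hc (Wr.app s⁻¹ p)
    rw [u_new, u_new, ← Wr.app_mul, mul_inv_cancel, Wr.app_one] at h1
    rw [Wr.app_mul, Wr.app_mul]
    exact h1
  · rintro ⟨c, hc⟩
    refine ⟨c, fun p => ?_⟩
    rw [u_new, u_new]
    have h1 := hc (Wr.app s p)
    rw [← Wr.app_mul, inv_mul_cancel_right, Wr.app_mul] at h1
    exact h1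

/-! ### lifting -/

theorem conj_of_ind (P : Plus Q z i j k l) {c : Subgroup.centralizer ({z} : Set G)} {a : Wr} (h : Ind P c a)
    (p : Pt) : (c : G) * e i j k l p * (c : G)⁻¹ = e i j k l (Wr.app a p) ∨
      (c : G) * e i j k l p * (c : G)⁻¹ = e i j k l (Wr.app a p) * z := by
  have h1 := h p
  rw [u, P.large.act_pr, u, P.large.pr_eq_pr, P.large.conjQ_coe] at h1
  exact h1

theorem ind_of_act (P : Plus Q z i j k l) {a : Wr} {c t0 t1 t2 t3 : G} (hcz : c ∈ Subgroup.centralizer ({z} : Set G))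
    (A : Act z i j k l c t0 t1 t2 t3)
    (h0 : t0 = e i j k l (Wr.app a (.inl 0)) ∨ t0 = e i j k l (Wr.app a (.inl 0)) * z)
    (h1 : t1 = e i j k l (Wr.app a (.inl 1)) ∨ t1 = e i j k l (Wr.app a (.inl 1)) * z)
    (h2 : t2 = e i j k l (Wr.app a (.inr 0)) ∨ t2 = e i j k l (Wr.app a (.inr 0)) * z)
    (h3 : t3 = e i j k l (Wr.app a (.inr 1)) ∨ t3 = e i j k l (Wr.app a (.inr 1)) * z) :
    Ind P ⟨c, hcz⟩ a := by
  have key : ∀ (p : Pt) (t : G), c * e i j k l p * c⁻¹ = t →
      (t = e i j k l (Wr.app a p) ∨ t = e i j k l (Wr.app a p) * z) →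
      P.large.act ⟨c, hcz⟩ (u P p) = u P (Wr.app a p) := by
    intro p t h4 h5
    rw [u, P.large.act_pr, u, P.large.pr_eq_pr, P.large.conjQ_coe]
    show c * e i j k l p * c⁻¹ = _ ∨ c * e i j k l p * c⁻¹ = _
    rw [h4]; exact h5
  have k0 := key (.inl 0) t0 A.i h0
  have k1 := key (.inl 1) t1 A.j h1
  have k2 := key (.inr 0) t2 A.k h2
  have k3 := key (.inr 1) t3 A.l h3
  have e0 : u P (.inl 2) = u P (.inl 0) + u P (.inl 1) := u_third P (p := .inl 0) (p' := .inl 1) (by decide)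
  have e1 : u P (.inr 2) = u P (.inr 0) + u P (.inr 1) := u_third P (p := .inr 0) (p' := .inr 1) (by decide)
  intro p
  match p with
  | .inl 0 => exact k0
  | .inl 1 => exact k1
  | .inl 2 => rw [(app_third a).1, u_third P (by rw [adj_app]; decide), e0, map_add, k0, k1]
  | .inr 0 => exact k2
  | .inr 1 => exact k3
  | .inr 2 => rw [(app_third a).2, u_third P (by rw [adj_app]; decide), e1, map_add, k2, k3]

/-- lifting with exact action -/
theorem exists_lift (P : Plus Q z i j k l) {a : Wr} (ha : a ∈ im P) {t0 t1 t2 t3 : G}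
    (h0 : t0 = e i j k l (Wr.app a (.inl 0)) ∨ t0 = e i j k l (Wr.app a (.inl 0)) * z)
    (h1 : t1 = e i j k l (Wr.app a (.inl 1)) ∨ t1 = e i j k l (Wr.app a (.inl 1)) * z)
    (h2 : t2 = e i j k l (Wr.app a (.inr 0)) ∨ t2 = e i j k l (Wr.app a (.inr 0)) * z)
    (h3 : t3 = e i j k l (Wr.app a (.inr 1)) ∨ t3 = e i j k l (Wr.app a (.inr 1)) * z) :
    ∃ c, Act z i j k l c t0 t1 t2 t3 := by
  obtain ⟨c, hc⟩ := ha
  have hcz : (c : G) * z = z * c := Subgroup.mem_centralizer_singleton_iff.1 c.2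
  have fl : ∀ {x t y : G}, (x = y ∨ x = y * z) → (t = y ∨ t = y * z) → (x = t ∨ x = t * z) := by
    rintro x t y (rfl | rfl) (rfl | rfl)
    · exact Or.inl rfl
    · right; rw [mul_assoc, P.large.z_sq, mul_one]
    · exact Or.inr rfl
    · exact Or.inl rfl
  obtain ⟨q, -, hA⟩ := P.symp.exists_act hcz (fl (conj_of_ind P hc (.inl 0)) h0) (fl (conj_of_ind P hc (.inl 1)) h1)
    (fl (conj_of_ind P hc (.inr 0)) h2) (fl (conj_of_ind P hc (.inr 1)) h3)
  exact ⟨_, hA⟩

/-! ### calculus -/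

section calculus

variable {c d ci cj ck cl di dj dk dl : G}

theorem _root_.Cfsg.Agent.LargeExtra.W2.Act.comm_z (A : Act z i j k l c ci cj ck cl) : c * z = z * c := by
  have := A.z
  rw [mul_inv_eq_iff_eq_mul] at this
  exact this

theorem _root_.Cfsg.Agent.LargeExtra.W2.Act.mem (A : Act z i j k l c ci cj ck cl) :
    c ∈ Subgroup.centralizer ({z} : Set G) := Subgroup.mem_centralizer_singleton_iff.2 A.comm_z

theorem conj_mul_z {x : G} (A : Act z i j k l c ci cj ck cl) : c * (x * z) * c⁻¹ = c * x * c⁻¹ * z := by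
  calc c * (x * z) * c⁻¹ = (c * x * c⁻¹) * (c * z * c⁻¹) := by group
    _ = _ := by rw [A.z]

theorem conj_mul_mul {x y : G} : c * (x * y) * c⁻¹ = (c * x * c⁻¹) * (c * y * c⁻¹) := by group

theorem _root_.Cfsg.Agent.LargeExtra.W2.Act.comp (A : Act z i j k l c ci cj ck cl) (B : Act z i j k l d di dj dk dl) :
    Act z i j k l (c * d) (c * di * c⁻¹) (c * dj * c⁻¹) (c * dk * c⁻¹) (c * dl * c⁻¹) := by
  refine ⟨?_, ?_, ?_, ?_, ?_⟩
  · calc c * d * z * (c * d)⁻¹ = c * (d * z * d⁻¹) * c⁻¹ := by group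
      _ = z := by rw [B.z, A.z]
  · rw [← B.i]; group
  · rw [← B.j]; group
  · rw [← B.k]; group
  · rw [← B.l]; group

theorem _root_.Cfsg.Agent.LargeExtra.W2.Act.one : Act z i j k l 1 i j k l := by
  refine ⟨?_, ?_, ?_, ?_, ?_⟩ <;> group

theorem _root_.Cfsg.Agent.LargeExtra.W2.Act.mulz (P : Plus Q z i j k l) (A : Act z i j k l c ci cj ck cl) :
    Act z i j k l (c * z) ci cj ck cl := by
  have h : ∀ x ∈ Q, z * x * z⁻¹ = x := fun x hx => by rw [← P.large.comm_z x hx]; group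
  have h' : ∀ x ∈ Q, c * z * x * (c * z)⁻¹ = c * x * c⁻¹ := fun x hx => by
    calc c * z * x * (c * z)⁻¹ = c * (z * x * z⁻¹) * c⁻¹ := by group
      _ = _ := by rw [h x hx]
  refine ⟨?_, ?_, ?_, ?_, ?_⟩
  · rw [h' z P.large.z_mem]; exact A.z
  · rw [h' i P.symp.mem_i]; exact A.i
  · rw [h' j P.symp.mem_j]; exact A.j
  · rw [h' k P.symp.mem_k]; exact A.k
  · rw [h' l P.symp.mem_l]; exact A.l

/-- elements of order three are determined by their action -/
theorem rigid3 (P : Plus Q z i j k l) {g g' : G} (h3 : g ^ 3 = 1) (h3' : g' ^ 3 = 1) (hz : g * z = z * g)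
    (h : g' = g ∨ g' = g * z) : g' = g := by
  rcases h with h | h
  · exact h
  · exfalso
    have h1 : (g * z) ^ 3 = g ^ 3 * z ^ 3 := (show Commute g z from hz).mul_pow 3
    rw [← h, h3', h3, one_mul, pow_succ, pow_two, P.large.z_sq, one_mul] at h1
    exact P.large.z_ne h1.symm

/-- an element acting with cube one can be taken of order three -/
theorem exists_cube (P : Plus Q z i j k l) (A : Act z i j k l c ci cj ck cl) (B : Act z i j k l (c ^ 3) i j k l) :
    ∃ c', Act z i j k l c' ci cj ck cl ∧ c' ^ 3 = 1 := by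
  rcases P.symp.act_unique Act.one B with h | h
  · exact ⟨c, A, h⟩
  · refine ⟨c * z, A.mulz P, ?_⟩
    have h1 : (c * z) ^ 3 = c ^ 3 * z ^ 3 := (show Commute c z from A.comm_z).mul_pow 3
    rw [h1, h, one_mul, pow_succ z 2, pow_two, P.large.z_sq, one_mul, P.large.z_sq]

end calculus

/-- rewriting rules for words in `i, j, k, l, z` -/
theorem rules (P : Plus Q z i j k l) :
    (z * z = 1 ∧ (∀ t, z * (z * t) = t)) ∧
    (i * i = z ∧ (∀ t, i * (i * t) = z * t)) ∧ (j * j = z ∧ (∀ t, j * (j * t) = z * t)) ∧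
    (k * k = z ∧ (∀ t, k * (k * t) = z * t)) ∧ (l * l = z ∧ (∀ t, l * (l * t) = z * t)) ∧
    (i * z = z * i ∧ (∀ t, i * (z * t) = z * (i * t))) ∧ (j * z = z * j ∧ (∀ t, j * (z * t) = z * (j * t))) ∧
    (k * z = z * k ∧ (∀ t, k * (z * t) = z * (k * t))) ∧ (l * z = z * l ∧ (∀ t, l * (z * t) = z * (l * t))) ∧
    (j * i = z * (i * j) ∧ (∀ t, j * (i * t) = z * (i * (j * t)))) ∧
    (l * k = z * (k * l) ∧ (∀ t, l * (k * t) = z * (k * (l * t)))) ∧
    (k * i = i * k ∧ (∀ t, k * (i * t) = i * (k * t))) ∧ (l * i = i * l ∧ (∀ t, l * (i * t) = i * (l * t))) ∧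
    (k * j = j * k ∧ (∀ t, k * (j * t) = j * (k * t))) ∧ (l * j = j * l ∧ (∀ t, l * (j * t) = j * (l * t))) := by
  have hz := P.large.z_sq
  have iz := P.large.comm_z i P.symp.mem_i
  have jz := P.large.comm_z j P.symp.mem_j
  have kz := P.large.comm_z k P.symp.mem_k
  have lz := P.large.comm_z l P.symp.mem_l
  have ji : j * i = z * (i * j) := by
    rw [P.ji, mul_assoc, jz, ← mul_assoc, iz, mul_assoc]
  have lk : l * k = z * (k * l) := by
    rw [P.lk, mul_assoc, lz, ← mul_assoc, kz, mul_assoc]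
  have ext2 : ∀ {a b c d : G}, a * b = c * d → ∀ t, a * (b * t) = c * (d * t) := by
    intro a b c d h t
    rw [← mul_assoc, h, mul_assoc]
  have ext1 : ∀ {a b c : G}, a * b = c → ∀ t, a * (b * t) = c * t := by
    intro a b c h t
    rw [← mul_assoc, h]
  refine ⟨⟨hz, fun t => by rw [← mul_assoc, hz, one_mul]⟩, ⟨P.ii, ext1 P.ii⟩, ⟨P.jj, ext1 P.jj⟩,
    ⟨P.kk, ext1 P.kk⟩, ⟨P.ll, ext1 P.ll⟩, ⟨iz, ext2 iz⟩, ⟨jz, ext2 jz⟩, ⟨kz, ext2 kz⟩, ⟨lz, ext2 lz⟩,
    ⟨ji, fun t => ?_⟩, ⟨lk, fun t => ?_⟩, ⟨P.ki, ext2 P.ki⟩, ⟨P.li, ext2 P.li⟩, ⟨P.kj, ext2 P.kj⟩, ⟨P.lj, ext2 P.lj⟩⟩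
  · rw [← mul_assoc, ji, mul_assoc, mul_assoc]
  · rw [← mul_assoc, lk, mul_assoc, mul_assoc]

/-! ### the index -/

/-- the homomorphism `C_G(z) → S₃ wr 2` -/
noncomputable def hom (P : Plus Q z i j k l) : Subgroup.centralizer ({z} : Set G) →* Wr where
  toFun c := (exists_ind P c).choose
  map_one' := (exists_ind P 1).choose_spec.unique Ind.one
  map_mul' c d := (exists_ind P (c * d)).choose_spec.unique
    ((exists_ind P c).choose_spec.mul (exists_ind P d).choose_spec)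

theorem hom_spec (P : Plus Q z i j k l) (c : Subgroup.centralizer ({z} : Set G)) : Ind P c (hom P c) :=
  (exists_ind P c).choose_spec

theorem card_cent (P : Plus Q z i j k l) :
    Nat.card (Subgroup.centralizer ({z} : Set G)) = 32 * Nat.card (im P) := by
  have h1 : (hom P).ker = Q.subgroupOf (Subgroup.centralizer ({z} : Set G)) := by
    ext c
    rw [MonoidHom.mem_ker, Subgroup.mem_subgroupOf]
    constructor
    · intro h
      have := hom_spec P c
      rw [h] at this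
      exact mem_of_ind this
    · intro h
      exact (hom_spec P c).unique (ind_of_mem h)
  have h2 : (hom P).range = im P := by
    ext a
    constructor
    · rintro ⟨c, rfl⟩
      exact ⟨c, hom_spec P c⟩
    · rintro ⟨c, hc⟩
      exact ⟨c, (hom_spec P c).unique hc⟩
  have h3 : Q ≤ Subgroup.centralizer ({z} : Set G) := fun x hx =>
    Subgroup.mem_centralizer_singleton_iff.2 (P.large.comm_z x hx)
  have h4 : Nat.card (hom P).ker = 32 := by
    rw [h1, Nat.card_congr (Subgroup.subgroupOfEquivOfLe h3).toEquiv, P.card]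
  rw [← h4, ← h2, ← Subgroup.index_ker]
  exact (Subgroup.card_mul_index _).symm

theorem card_im (P : Plus Q z i j k l) {X : Wr.Shape} (h : ∀ a, a ∈ im P ↔ Wr.D X a = true) :
    Nat.card (im P) = Fintype.card {a : Wr // Wr.D X a = true} := by
  rw [← Nat.card_eq_fintype_card]
  exact Nat.card_congr (Equiv.subtypeEquivRight h)

/-- reduction of the generation statement -/
theorem cent_eq (P : Plus Q z i j k l) (S : Set G) (hS : ∀ g ∈ S, g ∈ Subgroup.centralizer ({z} : Set G))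
    (hQ : {i, j, k, l} ⊆ S)
    (hgen : ∀ a ∈ im P, ∃ (c : G) (_ : c ∈ Subgroup.closure S) (hcz : c ∈ Subgroup.centralizer ({z} : Set G)),
      Ind P ⟨c, hcz⟩ a) : Subgroup.centralizer ({z} : Set G) = Subgroup.closure S := by
  apply le_antisymm
  · intro g hg
    obtain ⟨a, ha⟩ := exists_ind P ⟨g, hg⟩
    obtain ⟨c, hc, hcz, hca⟩ := hgen a ⟨_, ha⟩
    have h1 : Ind P (⟨g, hg⟩ * ⟨c, hcz⟩⁻¹) 1 := by
      have := ha.mul hca.inv
      rwa [mul_inv_cancel] at this
    have h2 : g * c⁻¹ ∈ Q := mem_of_ind h1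
    have h3 : Q ≤ Subgroup.closure S := by
      rw [P.gen]; exact Subgroup.closure_mono hQ
    have h4 := mul_mem (h3 h2) hc
    rwa [inv_mul_cancel_right] at h4
  · rw [Subgroup.closure_le]
    exact hS

end Cfsg.Agent.LargeExtra.W2.Lift
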