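import Cfsg.Agent.LargeExtra.W2.Simple
import Cfsg.Agent.LargeExtra.W2.NSBridge
import Cfsg.Agent.TwoFusion.FStarControl

/-!
# S1759: assembly modulo the recognition theorems (helper995)
-/

set_option autoImplicit false

universe u

namespace Cfsg.Agent.LargeExtra.W2.Main

open Cfsg.Agent.LargeExtra.W2.Simple Cfsg.Agent.LargeExtra.W2.NonSimple

/-- the identification of `PSU₃(3)` needed for non-simple `G` -/
def UThree (L : Type u) [Group L] : Prop :=
  ∀ z e i j : L, FourL ((Cfsg.generalizedFittingSubgroup ↥(Subgroup.centralizer ({z} : Set L))).map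
    (Subgroup.centralizer ({z} : Set L)).subtype) z e i j →
    ∃ (F : Type) (_ : Field F) (_ : Fintype F), Fintype.card F = 9 ∧ Nonempty (L ≃* Cfsg.PSU 3 F 3)

/-- S1759 modulo the recognition theorems. -/
theorem main {G : Type u} [Group G] [Finite G] (z : G) (hz : orderOf z = 2)
    (hE : Cfsg.IsExtraspecial 2 ↥(Cfsg.generalizedFittingSubgroup ↥(Subgroup.centralizer ({z} : Set G))))
    (h32 : Nat.card ↥(Cfsg.generalizedFittingSubgroup ↥(Subgroup.centralizer ({z} : Set G))) = 32)
    (hL : IsSimpleGroup ↥(Cfsg.generalizedFittingSubgroup G))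
    (hL' : ¬ IsMulCommutative ↥(Cfsg.generalizedFittingSubgroup G))
    (R : ∀ (L : Type u) [Group L] [Finite L] [IsSimpleGroup L], ¬ IsMulCommutative L → Recog L)
    (U : ∀ (L : Type u) [Group L] [Finite L] [IsSimpleGroup L], ¬ IsMulCommutative L → UThree L) :
    Concl ↥(Cfsg.generalizedFittingSubgroup G) := by
  obtain ⟨hzL, h | ⟨e, i, j, h⟩⟩ := reduction z hz hE h32 (Cfsg.generalizedFittingSubgroup G)
    (Cfsg.Agent.TwoFusion.FStarControl.genFitting_normal G) hL hL'
  · have := hL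
    refine Simple.main hL' ⟨z, hzL⟩ ?_ h.1 h.2 (R _ hL')
    rw [← hz]
    exact (Subgroup.orderOf_mk z hzL).symm ▸ rfl
  · have := hL
    obtain ⟨F, i1, i2, hF, hn⟩ := U _ hL' _ _ _ _ h
    exact Or.inl ⟨F, i1, i2, hF, Or.inl hn⟩

end Cfsg.Agent.LargeExtra.W2.Main
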