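import Mathlib

/-!
# S1759 [D]: facts on permutations of five points (decided by the kernel)
-/

set_option autoImplicit false

namespace Cfsg.Agent.LargeExtra.W2.PermFive

open Equiv

/-- identity or double transposition fixing `p` -/
def DT (p : Fin 5) (σ : Perm (Fin 5)) : Prop :=
  σ p = p ∧ σ * σ = 1 ∧ ∀ x y, x ≠ y → σ ≠ swap x y

instance (p : Fin 5) (σ : Perm (Fin 5)) : Decidable (DT p σ) := by
  unfold DT; infer_instance

/-- `coef p` is the `p`-th singular vector of the quadratic space of type minus -/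
def coef : Fin 5 → Fin 4 → ZMod 2
  | 0 => ![0, 0, 1, 0]
  | 1 => ![0, 0, 0, 1]
  | 2 => ![1, 0, 1, 1]
  | 3 => ![0, 1, 1, 1]
  | 4 => ![1, 1, 1, 1]

/-- the form in coordinates -/
def bc (c c' : Fin 4 → ZMod 2) : ZMod 2 := c 0 * c' 1 + c 1 * c' 0 + c 2 * c' 3 + c 3 * c' 2

/-- the quadratic form in coordinates -/
def qc (c : Fin 4 → ZMod 2) : ZMod 2 := c 0 + c 1 + c 0 * c 1 + c 2 * c 3

/-- the action of a permutation in coordinates -/
def ac (σ : Perm (Fin 5)) (c : Fin 4 → ZMod 2) : Fin 4 → ZMod 2 :=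
  c 0 • (coef (σ 2) + coef (σ 0) + coef (σ 1)) + c 1 • (coef (σ 3) + coef (σ 0) + coef (σ 1)) +
    c 2 • coef (σ 0) + c 3 • coef (σ 1)

theorem coef_injective : ∀ p p', coef p = coef p' → p = p' := by decide +kernel

theorem bc_coef : ∀ p p', bc (coef p) (coef p') = if p = p' then 0 else 1 := by decide +kernel

theorem qc_coef : ∀ p, qc (coef p) = 0 := by decide +kernel

theorem exists_coef : ∀ c : Fin 4 → ZMod 2, qc c = 0 → c ≠ 0 → ∃ p, c = coef p := by decide +kernel

theorem coef_four : coef 4 = coef 0 + coef 1 + coef 2 + coef 3 := by decide +kernel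

theorem basis : (![1, 0, 0, 0] : Fin 4 → ZMod 2) = coef 2 + coef 0 + coef 1 ∧
    (![0, 1, 0, 0] : Fin 4 → ZMod 2) = coef 3 + coef 0 + coef 1 := by decide +kernel

theorem card_DT : ∀ p, Fintype.card {σ : Perm (Fin 5) // DT p σ} = 4 := by decide +kernel

theorem exists_fixed : ∀ σ : Perm (Fin 5), σ * σ = 1 → ∃ p, σ p = p := by decide +kernel

theorem exists_DT : ∀ p p' r : Fin 5, p' ≠ p → r ≠ p → ∃ x : Perm (Fin 5), DT p x ∧ x p' = r := by
  decide +kernel

/-- for an involution which is not a transposition: the fixed space, and the commutators -/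
theorem fixed_space : ∀ σ : Perm (Fin 5), σ * σ = 1 → σ ≠ 1 → (∀ x y, x ≠ y → σ ≠ swap x y) →
    ∃ a b : Fin 4 → ZMod 2, qc (a + ac σ a) = 1 ∧ qc (b + ac σ b) = 1 ∧
      (a + ac σ a) + (b + ac σ b) ≠ 0 ∧
      ∀ c, ac σ c = c → c = 0 ∨ c = (a + ac σ a) + (b + ac σ b) ∨ (c = a + ac σ a) ∨ (c = b + ac σ b) := by
  decide +kernel

end Cfsg.Agent.LargeExtra.W2.PermFive
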