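import Cfsg.Agent.LargeExtra.W2.Coord
import Cfsg.Agent.LargeExtra.W2.CaseOneDead
import Cfsg.Agent.LargeExtra.W2.PermFive
import Cfsg.Agent.LargeExtra.TOne
import Cfsg.Agent.LargeExtra.LemmaR
import Cfsg.Agent.J2.ExtQuot

/-!
# S1759 [D]: type minus, `G` simple: `C / Q ≅ A₅`, the second and third Janko groups

`C = C_G(z)` acts on the five singular vectors of `V = Q / ⟨z⟩`.
-/

set_option autoImplicit false

namespace Cfsg.Agent.LargeExtra.W2.MinusType

open Cfsg.Agent.Co2Type.Quad Cfsg.Agent.LargeExtra.W2 Cfsg.Agent.LargeExtra.W2.PermFive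
open Cfsg.Agent.LargeExtra.Base Cfsg.Agent.LargeExtra.Local Equiv

variable {G : Type*} [Group G] {Q : Subgroup G} {z i j k l : G}

/-- linear combinations -/
noncomputable def cb (M : Minus Q z i j k l) (c : Fin 4 → ZMod 2) : M.large.V :=
  comb M.large ⟨i, M.symp.mem_i⟩ ⟨j, M.symp.mem_j⟩ ⟨k, M.symp.mem_k⟩ ⟨l, M.symp.mem_l⟩ c

section

variable (M : Minus Q z i j k l)

theorem cb_bijective : Function.Bijective (cb M) :=
  comb_bijective M.large M.card M.ji M.lk M.ki M.kj M.li M.lj

theorem cb_add (c c' : Fin 4 → ZMod 2) : cb M (c + c') = cb M c + cb M c' := by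
  simp only [cb, comb, Pi.add_apply, add_smul]
  abel

theorem cb_zero : cb M 0 = 0 := by
  simp [cb, comb]

theorem cb_smul (a : ZMod 2) (c : Fin 4 → ZMod 2) : cb M (a • c) = a • cb M c := by
  simp only [cb, comb, Pi.smul_apply, smul_add, smul_eq_mul, mul_smul]

theorem b_cb (c c' : Fin 4 → ZMod 2) : M.large.b (cb M c) (cb M c') = bc c c' := by
  have b01 : M.large.b (M.large.pr ⟨i, M.symp.mem_i⟩) (M.large.pr ⟨j, M.symp.mem_j⟩) = 1 := by
    rw [M.large.b_pr_one]; exact ac_symm M.large M.ji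
  have b23 : M.large.b (M.large.pr ⟨k, M.symp.mem_k⟩) (M.large.pr ⟨l, M.symp.mem_l⟩) = 1 := by
    rw [M.large.b_pr_one]; exact ac_symm M.large M.lk
  have b10 : M.large.b (M.large.pr ⟨j, M.symp.mem_j⟩) (M.large.pr ⟨i, M.symp.mem_i⟩) = 1 := by
    rw [M.large.b_comm]; exact b01
  have b32 : M.large.b (M.large.pr ⟨l, M.symp.mem_l⟩) (M.large.pr ⟨k, M.symp.mem_k⟩) = 1 := by
    rw [M.large.b_comm]; exact b23
  have b20 : M.large.b (M.large.pr ⟨k, M.symp.mem_k⟩) (M.large.pr ⟨i, M.symp.mem_i⟩) = 0 := by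
    rw [M.large.b_pr]; exact M.ki
  have b21 : M.large.b (M.large.pr ⟨k, M.symp.mem_k⟩) (M.large.pr ⟨j, M.symp.mem_j⟩) = 0 := by
    rw [M.large.b_pr]; exact M.kj
  have b30 : M.large.b (M.large.pr ⟨l, M.symp.mem_l⟩) (M.large.pr ⟨i, M.symp.mem_i⟩) = 0 := by
    rw [M.large.b_pr]; exact M.li
  have b31 : M.large.b (M.large.pr ⟨l, M.symp.mem_l⟩) (M.large.pr ⟨j, M.symp.mem_j⟩) = 0 := by
    rw [M.large.b_pr]; exact M.lj
  have b02 : M.large.b (M.large.pr ⟨i, M.symp.mem_i⟩) (M.large.pr ⟨k, M.symp.mem_k⟩) = 0 := by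
    rw [M.large.b_comm]; exact b20
  have b12 : M.large.b (M.large.pr ⟨j, M.symp.mem_j⟩) (M.large.pr ⟨k, M.symp.mem_k⟩) = 0 := by
    rw [M.large.b_comm]; exact b21
  have b03 : M.large.b (M.large.pr ⟨i, M.symp.mem_i⟩) (M.large.pr ⟨l, M.symp.mem_l⟩) = 0 := by
    rw [M.large.b_comm]; exact b30
  have b13 : M.large.b (M.large.pr ⟨j, M.symp.mem_j⟩) (M.large.pr ⟨l, M.symp.mem_l⟩) = 0 := by
    rw [M.large.b_comm]; exact b31
  simp only [cb, comb, map_add, LinearMap.add_apply, map_smul, LinearMap.smul_apply, smul_eq_mul,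
    b01, b23, b10, b32, b20, b21, b30, b31, b02, b12, b03, b13, M.large.b_self, bc]
  ring

theorem q_smul (h : Large Q z) (a : ZMod 2) (v : h.V) : h.q (a • v) = a * h.q v := by
  have : a = 0 ∨ a = 1 := by revert a; decide
  rcases this with rfl | rfl
  · rw [zero_smul, zero_mul, h.q_zero]
  · rw [one_smul, one_mul]

theorem q_cb (c : Fin 4 → ZMod 2) : M.large.q (cb M c) = qc c := by
  have q0 : M.large.q (M.large.pr ⟨i, M.symp.mem_i⟩) = 1 := M.large.q_eq_one.2 M.ii
  have q1 : M.large.q (M.large.pr ⟨j, M.symp.mem_j⟩) = 1 := M.large.q_eq_one.2 M.jj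
  have q2 : M.large.q (M.large.pr ⟨k, M.symp.mem_k⟩) = 0 := M.large.q_eq_zero.2 M.kk
  have q3 : M.large.q (M.large.pr ⟨l, M.symp.mem_l⟩) = 0 := M.large.q_eq_zero.2 M.ll
  have b01 : M.large.b (M.large.pr ⟨i, M.symp.mem_i⟩) (M.large.pr ⟨j, M.symp.mem_j⟩) = 1 := by
    rw [M.large.b_pr_one]; exact ac_symm M.large M.ji
  have b23 : M.large.b (M.large.pr ⟨k, M.symp.mem_k⟩) (M.large.pr ⟨l, M.symp.mem_l⟩) = 1 := by
    rw [M.large.b_pr_one]; exact ac_symm M.large M.lk
  have b02 : M.large.b (M.large.pr ⟨i, M.symp.mem_i⟩) (M.large.pr ⟨k, M.symp.mem_k⟩) = 0 := by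
    rw [M.large.b_comm, M.large.b_pr]; exact M.ki
  have b12 : M.large.b (M.large.pr ⟨j, M.symp.mem_j⟩) (M.large.pr ⟨k, M.symp.mem_k⟩) = 0 := by
    rw [M.large.b_comm, M.large.b_pr]; exact M.kj
  have b03 : M.large.b (M.large.pr ⟨i, M.symp.mem_i⟩) (M.large.pr ⟨l, M.symp.mem_l⟩) = 0 := by
    rw [M.large.b_comm, M.large.b_pr]; exact M.li
  have b13 : M.large.b (M.large.pr ⟨j, M.symp.mem_j⟩) (M.large.pr ⟨l, M.symp.mem_l⟩) = 0 := by
    rw [M.large.b_comm, M.large.b_pr]; exact M.lj
  simp only [cb, comb, M.large.q_add', q_smul, map_add, LinearMap.add_apply, map_smul,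
    LinearMap.smul_apply, smul_eq_mul, b01, b23, b02, b12, b03, b13, q0, q1, q2, q3, qc]
  ring

/-- the five singular vectors -/
noncomputable def s (p : Fin 5) : M.large.V := cb M (coef p)

theorem b_s (p p' : Fin 5) : M.large.b (s M p) (s M p') = if p = p' then 0 else 1 := by
  rw [s, s, b_cb, bc_coef]

theorem q_s (p : Fin 5) : M.large.q (s M p) = 0 := by rw [s, q_cb, qc_coef]

theorem s_injective : Function.Injective (s M) := fun p p' h =>
  coef_injective p p' ((cb_bijective M).1 h)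

theorem s_ne (p : Fin 5) : s M p ≠ 0 := by
  intro h
  have h1 : coef p = 0 := (cb_bijective M).1 (h.trans (cb_zero M).symm)
  revert h1
  clear h
  revert p
  decide +kernel

theorem exists_s {v : M.large.V} (hq : M.large.q v = 0) (hv : v ≠ 0) : ∃ p, v = s M p := by
  obtain ⟨c, rfl⟩ := (cb_bijective M).2 v
  rw [q_cb] at hq
  obtain ⟨p, rfl⟩ := exists_coef c hq (by rintro rfl; exact hv (cb_zero M))
  exact ⟨p, rfl⟩

/-- every vector in terms of the singular vectors -/
theorem cb_eq (c : Fin 4 → ZMod 2) : cb M c = c 0 • (s M 2 + s M 0 + s M 1) + c 1 • (s M 3 + s M 0 + s M 1) +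
    c 2 • s M 0 + c 3 • s M 1 := by
  simp only [s, ← cb_add, ← cb_smul]
  congr 1
  revert c
  decide +kernel

theorem ext_s {f g : M.large.V ≃ₗ[ZMod 2] M.large.V} (h : ∀ p, f (s M p) = g (s M p)) (v : M.large.V) :
    f v = g v := by
  obtain ⟨c, rfl⟩ := (cb_bijective M).2 v
  simp only [cb_eq, map_add, map_smul, h]

/-- `c` induces `σ` -/
def Ind (c : Subgroup.centralizer ({z} : Set G)) (σ : Perm (Fin 5)) : Prop :=
  ∀ p, M.large.act c (s M p) = s M (σ p)

variable {M}

theorem Ind.mul {c c' : Subgroup.centralizer ({z} : Set G)} {a a' : Perm (Fin 5)} (h : Ind M c a) (h' : Ind M c' a') :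
    Ind M (c * c') (a * a') := by
  intro p
  rw [map_mul, Perm.mul_apply, ← h, ← h']
  rfl

theorem Ind.one : Ind M 1 1 := by
  intro p
  rw [map_one, Perm.one_apply]
  rfl

theorem Ind.inv {c : Subgroup.centralizer ({z} : Set G)} {a : Perm (Fin 5)} (h : Ind M c a) : Ind M c⁻¹ a⁻¹ := by
  intro p
  have h1 := h (a⁻¹ p)
  rw [← Perm.mul_apply, mul_inv_cancel, Perm.one_apply] at h1
  rw [← h1, ← LinearEquiv.mul_apply, ← map_mul, inv_mul_cancel, map_one]
  rfl

theorem Ind.unique {c : Subgroup.centralizer ({z} : Set G)} {a a' : Perm (Fin 5)} (h : Ind M c a) (h' : Ind M c a') :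
    a = a' :=
  Equiv.ext fun p => s_injective M ((h p).symm.trans (h' p))

theorem Ind.act_cb {c : Subgroup.centralizer ({z} : Set G)} {σ : Perm (Fin 5)} (h : Ind M c σ)
    (co : Fin 4 → ZMod 2) : M.large.act c (cb M co) = cb M (ac σ co) := by
  rw [cb_eq]
  simp only [map_add, map_smul, h _]
  simp only [s, ac, cb_add, cb_smul]

theorem ind_of_mem {c : Subgroup.centralizer ({z} : Set G)} (hc : (c : G) ∈ Q) : Ind M c 1 := by
  intro p
  rw [M.large.act_mem c hc, Perm.one_apply]
  rfl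

theorem mem_of_ind {c : Subgroup.centralizer ({z} : Set G)} (h : Ind M c 1) : (c : G) ∈ Q := by
  have : Finite Q := Nat.finite_of_card_ne_zero (by rw [M.card]; decide)
  apply M.large.mem_of_act c
  ext v
  refine ext_s M (fun p => ?_) v
  rw [h p, Perm.one_apply]
  rfl

theorem exists_ind (M : Minus Q z i j k l) (c : Subgroup.centralizer ({z} : Set G)) : ∃ σ, Ind M c σ := by
  have hp : ∀ p, ∃ p', M.large.act c (s M p) = s M p' := by
    intro p
    apply exists_s M
    · rw [M.large.q_act, q_s]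
    · intro h0
      apply s_ne M p
      exact (M.large.act c).map_eq_zero_iff.1 h0
  choose π hπ using hp
  have hinj : Function.Injective π := by
    intro p p' h
    apply s_injective M
    apply (M.large.act c).injective
    rw [hπ, hπ, h]
  exact ⟨Equiv.ofBijective π (Finite.injective_iff_bijective.1 hinj), fun p => hπ p⟩

/-- no transposition -/
theorem Ind.not_swap [Finite G] (hG : ∀ H : Subgroup G, H.index ≠ 2) {c : Subgroup.centralizer ({z} : Set G)}
    {σ : Perm (Fin 5)} (h : Ind M c σ) (x y : Fin 5) (hxy : x ≠ y) : σ ≠ swap x y := by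
  rintro rfl
  have h32 : 8 < Nat.card Q := by rw [M.card]; decide
  have hb : M.large.b (s M x) (s M y) = 1 := by rw [b_s, if_neg hxy]
  have hq : M.large.q (s M x + s M y) = 1 := by
    rw [M.large.q_add', q_s, q_s, hb]; decide
  refine LemmaR.no_reflection hG M.large h32 hq (c := c) ?_
  have hp : ∀ p, M.large.act c (s M p) = s M p + M.large.b (s M x + s M y) (s M p) • (s M x + s M y) := by
    intro p
    rw [h p, map_add, LinearMap.add_apply, b_s, b_s]
    by_cases h1 : x = p
    · subst h1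
      rw [swap_apply_left, if_pos rfl, if_neg (Ne.symm hxy), zero_add, one_smul, ← add_assoc,
        M.large.add_self, zero_add]
    · by_cases h2 : y = p
      · subst h2
        rw [swap_apply_right, if_pos rfl, if_neg h1, add_zero, one_smul, add_comm (s M x), ← add_assoc,
          M.large.add_self, zero_add]
      · rw [swap_apply_of_ne_of_ne (Ne.symm h1) (Ne.symm h2), if_neg h1, if_neg h2]
        have : (1 : ZMod 2) + 1 = 0 := by decide
        rw [this, zero_smul, add_zero]
  intro v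
  obtain ⟨co, rfl⟩ := (cb_bijective M).2 v
  simp only [cb_eq, map_add, map_smul, hp, LinearMap.add_apply, smul_add, smul_eq_mul, add_smul, mul_smul]
  abel

/-- no fixed point -/
theorem exists_move [Finite G] (hG : ∀ H : Subgroup G, H.index ≠ 2) (M : Minus Q z i j k l) (p : Fin 5) :
    ∃ c σ, Ind M c σ ∧ σ p ≠ p := by
  by_contra hcon
  push Not at hcon
  have h32 : 8 < Nat.card Q := by rw [M.card]; decide
  refine s_ne M p (TOne.eq_zero_of_fixed hG M.large h32 (fun c => ?_))
  obtain ⟨σ, hσ⟩ := exists_ind M c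
  rw [hσ p, hcon c σ hσ]

/-- the image -/
def im (M : Minus Q z i j k l) : Subgroup (Perm (Fin 5)) where
  carrier := {a | ∃ c, Ind M c a}
  mul_mem' := by
    rintro a b ⟨c, hc⟩ ⟨d, hd⟩
    exact ⟨c * d, hc.mul hd⟩
  one_mem' := ⟨1, Ind.one⟩
  inv_mem' := by
    rintro a ⟨c, hc⟩
    exact ⟨c⁻¹, hc.inv⟩

theorem mem_im {a : Perm (Fin 5)} : a ∈ im M ↔ ∃ c, Ind M c a := Iff.rfl

/-! ### case II -/

theorem case_two_DT [Finite G] (hG : ∀ H : Subgroup G, H.index ≠ 2) (M : Minus Q z i j k l)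
    {A : Subgroup G} {a : G} (p : Pair Q z A a) : ∃ p₀ : Fin 5, ∀ σ, DT p₀ σ → σ ∈ im M := by
  classical
  have ea : p.lz = M.large := rfl
  obtain ⟨p₀, hp₀⟩ := exists_s M (v := p.va) (p.q_D p.va_mem_D) p.va_ne
  refine ⟨p₀, ?_⟩
  -- `D = {0, ã}`
  have hD : Nat.card p.D = 2 := by
    rw [Nat.card_eq_two_iff]
    refine ⟨0, ⟨p.va, p.va_mem_D⟩, ?_, ?_⟩
    · intro h0
      exact p.va_ne (congrArg Subtype.val h0).symm
    · ext v
      simp only [Set.mem_insert_iff, Set.mem_singleton_iff, Set.mem_univ, iff_true]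
      by_cases hv : (v : p.lz.V) = 0
      · left; exact Subtype.ext hv
      · right
        obtain ⟨r, hr⟩ := exists_s M (v := (v : p.lz.V)) (p.q_D v.2) hv
        have hb : M.large.b (v : p.lz.V) p.va = 0 := p.b_D v.2 p.va_mem_D
        rw [hr, hp₀, b_s] at hb
        have : r = p₀ := by
          by_contra hne
          rw [if_neg hne] at hb
          exact absurd hb (by decide)
        apply Subtype.ext
        rw [hr, this]
        exact hp₀.symm
  have hX : Nat.card p.X = 4 := by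
    have h1 := p.card_X
    have h2 := card_V M.large M.card
    rw [hD] at h1
    have h3 : Nat.card p.lz.V = 16 := h2
    omega
  -- the elements of `X` give permutations
  have hf : ∀ f : p.X, ∃ σ : Perm (Fin 5), DT p₀ σ ∧ σ ∈ im M ∧ ∀ q, (f : M.large.V ≃ₗ[ZMod 2] M.large.V) (s M q) = s M (σ q) := by
    intro f
    obtain ⟨c, hc, hcf⟩ := p.mem_X.1 f.2
    obtain ⟨σ, hσ⟩ := exists_ind M c
    have hfσ : ∀ q, (f : M.large.V ≃ₗ[ZMod 2] M.large.V) (s M q) = s M (σ q) := by
      intro q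
      rw [← hcf]
      exact hσ q
    refine ⟨σ, ⟨?_, ?_, fun x y hxy => hσ.not_swap hG x y hxy⟩, ⟨c, hσ⟩, hfσ⟩
    · apply s_injective M
      rw [← hfσ, ← hp₀]
      exact p.X_va f.2
    · ext q
      have h1 := p.X_sq f.2
      have h2 : ((f : M.large.V ≃ₗ[ZMod 2] M.large.V) * f) (s M q) = s M q := by
        have : (f : M.large.V ≃ₗ[ZMod 2] M.large.V) * f = 1 := h1
        rw [this]; rfl
      rw [LinearEquiv.mul_apply, hfσ, hfσ] at h2
      rw [Perm.mul_apply, Perm.one_apply, s_injective M h2]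
  choose F hF1 hF2 hF3 using hf
  have hinj : Function.Injective (fun f : p.X => (⟨F f, hF1 f⟩ : {σ : Perm (Fin 5) // DT p₀ σ})) := by
    intro f g hfg
    have h1 : F f = F g := congrArg Subtype.val hfg
    apply Subtype.ext
    refine LinearEquiv.ext fun v => ?_
    refine ext_s M (f := (f : M.large.V ≃ₗ[ZMod 2] M.large.V)) (g := (g : M.large.V ≃ₗ[ZMod 2] M.large.V))
      (fun q => ?_) v
    rw [hF3, hF3, h1]
  have hbij := hinj.bijective_of_nat_card_le (by rw [hX, Nat.card_eq_fintype_card, card_DT])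
  intro σ hσ
  obtain ⟨f, hf⟩ := hbij.2 ⟨σ, hσ⟩
  have : F f = σ := congrArg Subtype.val hf
  rw [← this]
  exact hF2 f

theorem DT_conj {p : Fin 5} {σ τ : Perm (Fin 5)} (h : DT (τ p) σ) : DT p (τ⁻¹ * σ * τ) := by
  refine ⟨?_, ?_, ?_⟩
  · rw [Perm.mul_apply, Perm.mul_apply, h.1, ← Perm.mul_apply, inv_mul_cancel, Perm.one_apply]
  · calc τ⁻¹ * σ * τ * (τ⁻¹ * σ * τ) = τ⁻¹ * (σ * σ) * τ := by group
      _ = 1 := by rw [h.2.1]; group
  · intro x y hxy he
    refine h.2.2 (τ x) (τ y) (fun h' => hxy (τ.injective h')) ?_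
    have : σ = τ * (τ⁻¹ * σ * τ) * τ⁻¹ := by group
    rw [this, he, Equiv.swap_apply_apply]

/-- the double transpositions fixing two different points generate `A₅` -/
theorem alternating_le (H : Subgroup (Perm (Fin 5))) {p p' : Fin 5} (hpp : p' ≠ p) (h : ∀ σ, DT p σ → σ ∈ H)
    (h' : ∀ σ, DT p' σ → σ ∈ H) : alternatingGroup (Fin 5) ≤ H := by
  have hall : ∀ r σ, DT r σ → σ ∈ H := by
    intro r σ hσ
    by_cases hr : r = p
    · subst hr; exact h σ hσ
    · obtain ⟨x, hx, hxr⟩ := exists_DT p p' r hpp hr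
      subst hxr
      have h1 := h' _ (DT_conj hσ)
      have h2 : σ = x * (x⁻¹ * σ * x) * x⁻¹ := by group
      rw [h2]
      exact mul_mem (mul_mem (h x hx) h1) (inv_mem (h x hx))
  -- simplicity of `A₅`
  have hinv : ∀ σ : Perm (Fin 5), σ ∈ alternatingGroup (Fin 5) → σ * σ = 1 → σ ∈ H := by
    intro σ hσ hs
    obtain ⟨r, hr⟩ := exists_fixed σ hs
    refine hall r σ ⟨hr, hs, ?_⟩
    rintro x y hxy rfl
    rw [Perm.mem_alternatingGroup, Perm.sign_swap hxy] at hσ
    exact absurd hσ (by decide)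
  let S : Set (alternatingGroup (Fin 5)) := {x | x * x = 1}
  have hle : Subgroup.normalClosure S ≤ H.subgroupOf (alternatingGroup (Fin 5)) := by
    rw [Subgroup.normalClosure, Subgroup.closure_le]
    intro x hx
    obtain ⟨y, hy, hyx⟩ := Group.mem_conjugatesOfSet_iff.1 hx
    obtain ⟨c, hc⟩ := isConj_iff.1 hyx
    have hx2 : x * x = 1 := by
      rw [← hc]
      calc c * y * c⁻¹ * (c * y * c⁻¹) = c * (y * y) * c⁻¹ := by group
        _ = 1 := by rw [show y * y = 1 from hy]; group
    exact hinv x x.2 (congrArg Subtype.val hx2)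
  have htop : Subgroup.normalClosure S = ⊤ := by
    rcases (Subgroup.normalClosure_normal (s := S)).eq_bot_or_eq_top with h0 | h0
    · exfalso
      have hmem : (swap 0 1 * swap 2 3 : Perm (Fin 5)) ∈ alternatingGroup (Fin 5) := by
        rw [Perm.mem_alternatingGroup]; decide
      have h1 : (⟨_, hmem⟩ : alternatingGroup (Fin 5)) ∈ Subgroup.normalClosure S := by
        apply Subgroup.subset_normalClosure
        apply Subtype.ext
        change (swap 0 1 * swap 2 3 : Perm (Fin 5)) * (swap 0 1 * swap 2 3) = 1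
        decide
      rw [h0, Subgroup.mem_bot] at h1
      have h2 : (swap 0 1 * swap 2 3 : Perm (Fin 5)) = 1 := congrArg Subtype.val h1
      revert h2
      decide
    · exact h0
  intro x hx
  have h1 : (⟨x, hx⟩ : alternatingGroup (Fin 5)) ∈ Subgroup.normalClosure S := by rw [htop]; trivial
  exact hle h1

/-- In case II the image is `A₅`. -/
theorem im_eq [Finite G] (hG : ∀ H : Subgroup G, H.index ≠ 2) (M : Minus Q z i j k l)
    {A : Subgroup G} {a : G} (p : Pair Q z A a) : im M = alternatingGroup (Fin 5) := by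
  obtain ⟨p₀, hp₀⟩ := case_two_DT hG M p
  obtain ⟨c, τ, hτ, hne⟩ := exists_move hG M p₀
  have hτm : τ ∈ im M := ⟨c, hτ⟩
  have hle : alternatingGroup (Fin 5) ≤ im M := by
    refine alternating_le (im M) hne hp₀ ?_
    intro σ hσ
    have h1 := hp₀ _ (DT_conj hσ)
    have h2 : σ = τ * (τ⁻¹ * σ * τ) * τ⁻¹ := by group
    rw [h2]
    exact mul_mem (mul_mem hτm h1) (inv_mem hτm)
  refine le_antisymm ?_ hle
  intro σ hσ
  rw [Perm.mem_alternatingGroup]
  rcases Int.units_eq_one_or (Perm.sign σ) with h1 | h1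
  · exact h1
  · exfalso
    have h2 : σ * swap 0 1 ∈ im M := by
      apply hle
      rw [Perm.mem_alternatingGroup, map_mul, h1, Perm.sign_swap (by decide)]
      decide
    have h3 : swap 0 1 ∈ im M := by
      have := mul_mem (inv_mem hσ) h2
      rwa [inv_mul_cancel_left] at this
    obtain ⟨d, hd⟩ := h3
    exact hd.not_swap hG 0 1 (by decide) rfl

/-- the homomorphism `C_G(z) → S₅` -/
noncomputable def hom (M : Minus Q z i j k l) : Subgroup.centralizer ({z} : Set G) →* Perm (Fin 5) where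
  toFun c := (exists_ind M c).choose
  map_one' := (exists_ind M 1).choose_spec.unique Ind.one
  map_mul' c d := (exists_ind M (c * d)).choose_spec.unique
    ((exists_ind M c).choose_spec.mul (exists_ind M d).choose_spec)

theorem hom_spec (M : Minus Q z i j k l) (c : Subgroup.centralizer ({z} : Set G)) : Ind M c (hom M c) :=
  (exists_ind M c).choose_spec

theorem hom_ker (M : Minus Q z i j k l) : (hom M).ker = Q.subgroupOf (Subgroup.centralizer ({z} : Set G)) := by
  ext c
  rw [MonoidHom.mem_ker, Subgroup.mem_subgroupOf]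
  constructor
  · intro h
    have := hom_spec M c
    rw [h] at this
    exact mem_of_ind this
  · intro h
    exact (hom_spec M c).unique (ind_of_mem h)

theorem hom_range (M : Minus Q z i j k l) : (hom M).range = im M := by
  ext σ
  constructor
  · rintro ⟨c, rfl⟩
    exact ⟨c, hom_spec M c⟩
  · rintro ⟨c, hc⟩
    exact ⟨c, (hom_spec M c).unique hc⟩

theorem normal_subgroupOf (h : Large Q z) : (Q.subgroupOf (Subgroup.centralizer ({z} : Set G))).Normal :=
  ⟨fun x hx c => h.conj_mem c (Subgroup.mem_centralizer_singleton_iff.1 c.2) x hx⟩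

/-- `C / Q ≅ A₅` in case II -/
theorem exists_equiv [Finite G] (hG : ∀ H : Subgroup G, H.index ≠ 2) (M : Minus Q z i j k l)
    [(Q.subgroupOf (Subgroup.centralizer ({z} : Set G))).Normal]
    {A : Subgroup G} {a : G} (p : Pair Q z A a) :
    Nonempty ((Subgroup.centralizer ({z} : Set G)) ⧸ (Q.subgroupOf (Subgroup.centralizer ({z} : Set G))) ≃*
      alternatingGroup (Fin 5)) :=
  ⟨(QuotientGroup.quotientMulEquivOfEq (hom_ker M).symm).trans
    ((QuotientGroup.quotientKerEquivRange (hom M)).trans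
      (MulEquiv.subgroupCongr ((hom_range M).trans (im_eq hG M p))))⟩

/-- `Q` is extraspecial -/
theorem isExtraspecial (M : Minus Q z i j k l) :
    Cfsg.IsExtraspecial 2 (Q.subgroupOf (Subgroup.centralizer ({z} : Set G))) := by
  have hfin : Finite Q := Nat.finite_of_card_ne_zero (by rw [M.card]; decide)
  have hle : Q ≤ Subgroup.centralizer ({z} : Set G) := fun x hx =>
    Subgroup.mem_centralizer_singleton_iff.2 (M.large.comm_z x hx)
  have e := Subgroup.subgroupOfEquivOfLe hle
  refine Cfsg.Agent.J2.ExtQuot.isExtraspecial_of_equiv e.symm ?_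
  refine Cfsg.Agent.J2.ExtQuot.isExtraspecial_two (Base.isPGroup M.large) M.large.card_center ?_ ?_
  · intro x
    rw [pow_two]
    exact M.large.sq_mem x
  · refine ⟨⟨i, M.symp.mem_i⟩, ⟨j, M.symp.mem_j⟩, ?_⟩
    intro he
    have he' : i * j = j * i := congrArg Subtype.val he
    exact ne_of_ac M.large M.ji he'.symm

theorem card_subgroupOf (M : Minus Q z i j k l) :
    Nat.card (Q.subgroupOf (Subgroup.centralizer ({z} : Set G))) = 32 := by
  have hle : Q ≤ Subgroup.centralizer ({z} : Set G) := fun x hx =>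
    Subgroup.mem_centralizer_singleton_iff.2 (M.large.comm_z x hx)
  rw [Nat.card_congr (Subgroup.subgroupOfEquivOfLe hle).toEquiv, M.card]

theorem centralizer_le (M : Minus Q z i j k l) :
    Subgroup.centralizer ((Q.subgroupOf (Subgroup.centralizer ({z} : Set G)) :
      Subgroup (Subgroup.centralizer ({z} : Set G))) : Set (Subgroup.centralizer ({z} : Set G))) ≤
      Q.subgroupOf (Subgroup.centralizer ({z} : Set G)) := by
  intro c hc
  rw [Subgroup.mem_subgroupOf]
  refine M.large.self c (Subgroup.mem_centralizer_singleton_iff.1 c.2) ?_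
  intro x hx
  have hxC : x ∈ Subgroup.centralizer ({z} : Set G) :=
    Subgroup.mem_centralizer_singleton_iff.2 (M.large.comm_z x hx)
  have h1 := Subgroup.mem_centralizer_iff.1 hc ⟨x, hxC⟩ (by
    show (⟨x, hxC⟩ : Subgroup.centralizer ({z} : Set G)) ∈ Q.subgroupOf _
    rw [Subgroup.mem_subgroupOf]; exact hx)
  exact (congrArg Subtype.val h1).symm

/-! ### case I -/

/-- an involution of `C - Q` centralises a subgroup of order four of `Q` -/
theorem card_cent [Finite G] (hG : ∀ H : Subgroup G, H.index ≠ 2) (M : Minus Q z i j k l)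
    {t : G} (htz : t * z = z * t) (htt : t * t = 1) (htQ : t ∉ Q) :
    Nat.card ↥(Q ⊓ Subgroup.centralizer ({t} : Set G)) = 4 := by
  classical
  have htC : t ∈ Subgroup.centralizer ({z} : Set G) := Subgroup.mem_centralizer_singleton_iff.2 htz
  obtain ⟨σ, hσ⟩ := exists_ind M ⟨t, htC⟩
  have hσσ : σ * σ = 1 := by
    refine (hσ.mul hσ).unique ?_
    apply ind_of_mem
    show t * t ∈ Q
    rw [htt]; exact Q.one_mem
  have hσ1 : σ ≠ 1 := by
    rintro rfl
    exact htQ (mem_of_ind hσ)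
  obtain ⟨a, b, hqa, hqb, hne, hfix⟩ := fixed_space σ hσσ hσ1 (fun x y hxy => hσ.not_swap hG x y hxy)
  have hti : t⁻¹ = t := inv_eq_of_mul_eq_one_left htt
  -- the commutators
  have key : ∀ co : Fin 4 → ZMod 2, qc (co + ac σ co) = 1 → ∃ y : Q, M.large.pr y = cb M (co + ac σ co) ∧
      t * (y : G) * t⁻¹ = y * z ∧ (y : G) * y = z := by
    intro co hq
    obtain ⟨x, hx⟩ := M.large.pr_surjective (cb M co)
    have hx' : M.large.pr (M.large.conjQ ⟨t, htC⟩ x) = cb M (ac σ co) := by
      rw [← M.large.act_pr, hx, hσ.act_cb]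
    have hxc : ((M.large.conjQ ⟨t, htC⟩ x : Q) : G) = t * x * t⁻¹ := rfl
    refine ⟨x⁻¹ * M.large.conjQ ⟨t, htC⟩ x, ?_, ?_, ?_⟩
    · rw [M.large.pr_mul, M.large.pr_inv, M.large.neg_eq, hx, hx', cb_add]
    · have h1 : M.large.q (M.large.pr (x⁻¹ * M.large.conjQ ⟨t, htC⟩ x)) = 1 := by
        rw [M.large.pr_mul, M.large.pr_inv, M.large.neg_eq, hx, hx', ← cb_add, q_cb, hq]
      have h2 : ((x⁻¹ * M.large.conjQ ⟨t, htC⟩ x : Q) : G) * ((x⁻¹ * M.large.conjQ ⟨t, htC⟩ x : Q) : G) = z :=
        M.large.q_eq_one.1 h1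
      have h3 : ((x⁻¹ * M.large.conjQ ⟨t, htC⟩ x : Q) : G) = (x : G)⁻¹ * (t * x * t⁻¹) := rfl
      obtain ⟨y, hy⟩ : ∃ y, y = (x : G)⁻¹ * (t * x * t⁻¹) := ⟨_, rfl⟩
      rw [h3, ← hy] at h2
      rw [h3, ← hy]
      have h4 : t * y * t⁻¹ = y⁻¹ := by
        calc t * y * t⁻¹ = t * (x : G)⁻¹ * t⁻¹ * ((t * t) * x * (t * t)⁻¹) := by rw [hy]; group
          _ = t * (x : G)⁻¹ * t⁻¹ * x := by rw [htt]; group
          _ = y⁻¹ := by rw [hy]; group
      rw [h4]
      rw [inv_eq_iff_mul_eq_one, ← mul_assoc, h2, M.large.z_sq]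
    · have h1 : M.large.q (M.large.pr (x⁻¹ * M.large.conjQ ⟨t, htC⟩ x)) = 1 := by
        rw [M.large.pr_mul, M.large.pr_inv, M.large.neg_eq, hx, hx', ← cb_add, q_cb, hq]
      exact M.large.q_eq_one.1 h1
  obtain ⟨y1, hy1, hc1, -⟩ := key a hqa
  obtain ⟨y2, hy2, hc2, -⟩ := key b hqb
  -- an element over a commutator does not commute with `t`
  have notc : ∀ (y x : Q), M.large.pr y = M.large.pr x → t * (x : G) * t⁻¹ = x * z → (y : G) * t ≠ t * y := by
    intro y x hyx hx he
    have hyt : t * (y : G) * t⁻¹ = y := by rw [← he]; group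
    rcases M.large.pr_eq_pr.1 hyx with h1 | h1
    · rw [h1, hx] at hyt
      exact M.large.z_ne (mul_eq_left.1 hyt)
    · have h2 : t * ((x : G) * z) * t⁻¹ = (x : G) * z := by rw [← h1]; exact hyt
      have h3 : t * ((x : G) * z) * t⁻¹ = (t * (x : G) * t⁻¹) * (t * z * t⁻¹) := by group
      have h4 : t * z * t⁻¹ = z := by rw [htz]; group
      rw [h3, h4, hx] at h2
      exact M.large.z_ne (mul_eq_left.1 h2)
  have hzt : z ∈ Subgroup.centralizer ({t} : Set G) := Subgroup.mem_centralizer_singleton_iff.2 htz.symm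
  have hcard := card_sub M.large hzt
  have hsub : Nat.card (sub M.large (Subgroup.centralizer ({t} : Set G))) = 2 := by
    have hw : cb M ((a + ac σ a) + (b + ac σ b)) ∈ sub M.large (Subgroup.centralizer ({t} : Set G)) := by
      refine ⟨y1 * y2, ?_, ?_⟩
      · rw [Subgroup.mem_centralizer_singleton_iff]
        have h5 : t * ((y1 : G) * y2) * t⁻¹ = (y1 : G) * y2 := by
          calc t * ((y1 : G) * y2) * t⁻¹ = (t * y1 * t⁻¹) * (t * y2 * t⁻¹) := by group
            _ = (y1 : G) * z * (y2 * z) := by rw [hc1, hc2]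
            _ = (y1 : G) * (z * y2) * z := by group
            _ = (y1 : G) * (y2 * z) * z := by rw [M.large.comm_z y2 y2.2]
            _ = (y1 : G) * y2 * (z * z) := by group
            _ = (y1 : G) * y2 := by rw [M.large.z_sq, mul_one]
        have h6 : t * ((y1 : G) * y2) = (y1 : G) * y2 * t := by
          rw [← mul_inv_eq_iff_eq_mul]; exact h5
        exact h6.symm
      · rw [M.large.pr_mul, hy1, hy2, ← cb_add]
    rw [Nat.card_eq_two_iff]
    refine ⟨0, ⟨_, hw⟩, ?_, ?_⟩
    · intro h0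
      apply hne
      apply (cb_bijective M).1
      rw [cb_zero]
      exact (congrArg Subtype.val h0).symm
    · ext v
      simp only [Set.mem_insert_iff, Set.mem_singleton_iff, Set.mem_univ, iff_true]
      obtain ⟨y, hy, hyv⟩ := v.2
      have hyt : (y : G) * t = t * y := Subgroup.mem_centralizer_singleton_iff.1 hy
      obtain ⟨co, hco⟩ := (cb_bijective M).2 (v : M.large.V)
      have hfixv : M.large.act ⟨t, htC⟩ (v : M.large.V) = v := by
        rw [← hyv, M.large.act_pr]
        congr 1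
        apply Subtype.ext
        show t * (y : G) * t⁻¹ = y
        rw [← hyt]; group
      rw [← hco, hσ.act_cb] at hfixv
      rcases hfix co ((cb_bijective M).1 hfixv) with h1 | h1 | h1 | h1
      · left
        apply Subtype.ext
        rw [← hco, h1, cb_zero]; rfl
      · right
        apply Subtype.ext
        rw [← hco, h1]
      · exfalso
        refine notc y y1 ?_ hc1 hyt
        rw [hyv, ← hco, h1, hy1]
      · exfalso
        refine notc y y2 ?_ hc2 hyt
        rw [hyv, ← hco, h1, hy2]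
  rw [hsub] at hcard
  rw [inf_comm, hcard]

/-- Case I is impossible. -/
theorem exists_pair [Finite G] [IsSimpleGroup G] (hnc : ¬ IsMulCommutative G)
    (hG : ∀ H : Subgroup G, H.index ≠ 2) (M : Minus Q z i j k l) : ∃ A a, Pair Q z A a := by
  by_contra hno
  refine case_one_dead hnc M.large M.card ?_ ?_
  · intro g hg
    by_contra hne
    exact hno ⟨_, _, pair_of_conj M.large hg hne⟩
  · intro g hg hgQ
    refine card_cent hG M hg ?_ hgQ
    have : g * z * g⁻¹ * (g * z * g⁻¹) = g * (z * z) * g⁻¹ := by group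
    rw [this, M.large.z_sq]; group

end

end Cfsg.Agent.LargeExtra.W2.MinusType
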