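import Cfsg.Agent.LargeExtra.W2.NSBase

/-!
# S1759 [G]: `Q ∩ L` is not abelian
-/

set_option autoImplicit false

namespace Cfsg.Agent.LargeExtra.W2.NonSimple

open Cfsg.Agent.Co2Type.Quad

universe u

variable {G : Type u} [Group G] {Q L : Subgroup G} {z : G}

namespace Hyp

/-- if `Q ∩ L` is abelian, then `C_L(z) = Q ∩ L` -/
theorem cent_le_of_abelian [Finite G] (h : Hyp Q L z)
    (hab : ∀ r ∈ Q, r ∈ L → ∀ s ∈ Q, s ∈ L → r * s = s * r) {c : G} (hc : c ∈ L) (hcz : c * z = z * c) :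
    c ∈ Q := by
  have hle : L ⊓ Subgroup.centralizer {z} ≤ Q := by
    apply h.core_le
    · intro n hn
      exact Subgroup.mem_centralizer_singleton_iff.1 hn.2
    · intro c hc n hn
      refine ⟨h.conj_mem_L c hn.1, ?_⟩
      have hnz := Subgroup.mem_centralizer_singleton_iff.1 hn.2
      apply Subgroup.mem_centralizer_singleton_iff.2
      calc c * n * c⁻¹ * z = c * n * (z * c)⁻¹ * (z * z) := by group
        _ = c * n * (c * z)⁻¹ * (z * z) := by rw [hc]
        _ = c * (n * z) * (z * z)⁻¹ * c⁻¹ * (z * z) := by group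
        _ = c * (z * n) * (z * z)⁻¹ * c⁻¹ * (z * z) := by rw [hnz]
        _ = (c * z) * n * c⁻¹ := by rw [h.large.z_sq]; group
        _ = z * (c * n * c⁻¹) := by rw [hc]; group
    · intro n hn ho
      have hnz := Subgroup.mem_centralizer_singleton_iff.1 hn.2
      refine h.odd_eq_one hn.1 hnz ho fun r hr hrL => ?_
      -- `[n, r] ∈ ⟨z⟩`
      have hrQ : n * r * n⁻¹ ∈ Q := h.large.conj_mem n hnz r hr
      have hrL' : n * r * n⁻¹ ∈ L := h.conj_mem_L n hrL
      have hcq : ∀ q ∈ Q, (n * r * n⁻¹ * r⁻¹) * q = q * (n * r * n⁻¹ * r⁻¹) := by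
        intro q hq
        -- `s = [n, q]`
        have hsQ := h.comm_mem_Q hnz hq
        have hsL := h.comm_mem_L hn.1 q
        have hs : n * q * n⁻¹ = (n * q * n⁻¹ * q⁻¹) * q := by group
        generalize hse : n * q * n⁻¹ * q⁻¹ = s at hsQ hsL hs
        have hsr : s * (n * r * n⁻¹) = (n * r * n⁻¹) * s := hab s hsQ hsL _ hrQ hrL'
        have hri : ∀ w : G, (w = 1 ∨ w = z) → r * q = q * r * w → (n * r * n⁻¹) * q = q * (n * r * n⁻¹) * w := by
          intro w hw e
          have hwn : n * w * n⁻¹ = w := by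
            rcases hw with rfl | rfl
            · group
            · rw [hnz]; group
          have e1 : (n * r * n⁻¹) * (n * q * n⁻¹) = (n * q * n⁻¹) * (n * r * n⁻¹) * w := by
            calc (n * r * n⁻¹) * (n * q * n⁻¹) = n * (r * q) * n⁻¹ := by group
              _ = (n * q * n⁻¹) * (n * r * n⁻¹) * (n * w * n⁻¹) := by rw [e]; group
              _ = _ := by rw [hwn]
          rw [hs] at e1
          calc (n * r * n⁻¹) * q = s⁻¹ * (s * (n * r * n⁻¹)) * q := by group
            _ = s⁻¹ * ((n * r * n⁻¹) * (s * q)) := by rw [hsr]; group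
            _ = s⁻¹ * (s * q * (n * r * n⁻¹) * w) := by rw [e1]
            _ = q * (n * r * n⁻¹) * w := by group
        rcases h.large.comm r hr q hq with e | e
        · have e1 := hri 1 (Or.inl rfl) (by rw [e, mul_one])
          rw [mul_one] at e1
          have e2 : r⁻¹ * q = q * r⁻¹ := ((show Commute r q from e).inv_left).eq
          exact comm_mul_comm e1 e2
        · have e1 := hri z (Or.inr rfl) e
          have e2 : r⁻¹ * q = q * r⁻¹ * z := by
            have hzr := h.large.comm_z r⁻¹ (Q.inv_mem hr)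
            calc r⁻¹ * q = r⁻¹ * (q * r * z) * z * r⁻¹ := by
                  have : r⁻¹ * (q * r * z) * z * r⁻¹ = r⁻¹ * (q * r) * (z * z) * r⁻¹ := by group
                  rw [this, h.large.z_sq]; group
              _ = r⁻¹ * (r * q) * (z * r⁻¹) := by rw [e]; group
              _ = q * r⁻¹ * z := by rw [← hzr]; group
          exact ac_mul_ac h.large (Q.inv_mem hr) e1 e2
      have hd := h.large.cent _ (Q.mul_mem hrQ (Q.inv_mem hr)) hcq
      have h4 : (n * r * n⁻¹ * r⁻¹) ^ 4 = 1 := pow_four h.large (Q.mul_mem hrQ (Q.inv_mem hr))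
      have hcn : n * (n * r * n⁻¹ * r⁻¹) = (n * r * n⁻¹ * r⁻¹) * n := by
        rcases hd with e | e
        · rw [e]; group
        · rw [e]; exact hnz
      have h1 := chain (n := n) (q := r) (s := n * r * n⁻¹ * r⁻¹) ho (by group) hcn h4
      calc n * r = (n * r * n⁻¹ * r⁻¹) * (r * n) := by group
        _ = r * n := by rw [h1, one_mul]
  exact hle ⟨hc, Subgroup.mem_centralizer_singleton_iff.2 hcz⟩

/-- `Q ∩ L` is not abelian -/
theorem not_abelian [Finite G] (h : Hyp Q L z)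
    (hab : ∀ r ∈ Q, r ∈ L → ∀ s ∈ Q, s ∈ L → r * s = s * r) : False := by
  have hCL : ∀ c ∈ L, c * z = z * c → c ∈ Q := fun c hc hcz => h.cent_le_of_abelian hab hc hcz
  have hzL := h.z_mem
  have hzQ := h.large.z_mem
  obtain ⟨g, hg, hne, hcomm⟩ := h.exists_t
  generalize ht : g * z * g⁻¹ = t at hne hcomm
  have htL : t ∈ L := ht ▸ L.mul_mem (L.mul_mem hg hzL) (L.inv_mem hg)
  have htQ : t ∈ Q := hCL t htL hcomm
  have ht1 : t ≠ 1 := by
    intro e
    rw [e] at ht
    apply h.large.z_ne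
    calc z = g⁻¹ * (g * z * g⁻¹) * g := by group
      _ = 1 := by rw [ht]; group
  have htt : t * t = 1 := by
    rw [← ht]
    have : g * z * g⁻¹ * (g * z * g⁻¹) = g * (z * z) * g⁻¹ := by group
    rw [this, h.large.z_sq]; group
  -- `g⁻¹ R g ⊆ R`
  have hconj : ∀ r, r ∈ Q → r ∈ L → g⁻¹ * r * g ∈ Q ∧ g⁻¹ * r * g ∈ L := by
    intro r hr hrL
    have h1 : g⁻¹ * r * g ∈ L := by
      have := h.conj_mem_L g⁻¹ hrL
      rwa [inv_inv] at this
    refine ⟨hCL _ h1 ?_, h1⟩
    have h2 : r * t = t * r := hab r hr hrL t htQ htL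
    calc g⁻¹ * r * g * z = g⁻¹ * (r * (g * z * g⁻¹)) * g := by group
      _ = g⁻¹ * (t * r) * g := by rw [ht, h2]
      _ = (g⁻¹ * (g * z * g⁻¹) * g) * (g⁻¹ * r * g) := by rw [ht]; group
      _ = z * (g⁻¹ * r * g) := by group
  by_cases hex : ∃ r, r ∈ Q ∧ r ∈ L ∧ r ≠ 1 ∧ r ≠ z ∧ r ≠ t ∧ r ≠ t * z
  · obtain ⟨r, hr, hrL, h1, h2, h3, h4⟩ := hex
    obtain ⟨q, hq, hqt, hqr⟩ := exists_comm_ac h.large htQ hr h1 h2 h3 h4
    -- `q₀ = g⁻¹ q g`
    have hq0z : g⁻¹ * q * g * z = z * (g⁻¹ * q * g) := by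
      calc g⁻¹ * q * g * z = g⁻¹ * (q * (g * z * g⁻¹)) * g := by group
        _ = g⁻¹ * (t * q) * g := by rw [ht, hqt]
        _ = (g⁻¹ * (g * z * g⁻¹) * g) * (g⁻¹ * q * g) := by rw [ht]; group
        _ = z * (g⁻¹ * q * g) := by group
    have hwL : g⁻¹ * q * g * q⁻¹ ∈ L := by
      have : g⁻¹ * q * g * q⁻¹ = g⁻¹ * (q * g * q⁻¹) := by group
      rw [this]
      exact L.mul_mem (L.inv_mem hg) (h.conj_mem_L q hg)
    have hqz : q⁻¹ * z = z * q⁻¹ := h.large.comm_z _ (Q.inv_mem hq)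
    have hwz : g⁻¹ * q * g * q⁻¹ * z = z * (g⁻¹ * q * g * q⁻¹) := by
      calc g⁻¹ * q * g * q⁻¹ * z = g⁻¹ * q * g * (q⁻¹ * z) := by group
        _ = (g⁻¹ * q * g * z) * q⁻¹ := by rw [hqz]; group
        _ = z * (g⁻¹ * q * g * q⁻¹) := by rw [hq0z]; group
    have hwQ := hCL _ hwL hwz
    obtain ⟨hr1, hr1L⟩ := hconj r hr hrL
    have e1 : (g⁻¹ * q * g) * (g⁻¹ * r * g) * (g⁻¹ * q * g)⁻¹ = (g⁻¹ * r * g) * (g⁻¹ * z * g) := by
      calc (g⁻¹ * q * g) * (g⁻¹ * r * g) * (g⁻¹ * q * g)⁻¹ = g⁻¹ * (q * r * q⁻¹) * g := by group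
        _ = g⁻¹ * (r * z) * g := by rw [conj_eq_of_ac h.large hq hqr]
        _ = _ := by group
    have e2 : (g⁻¹ * q * g) * (g⁻¹ * r * g) * (g⁻¹ * q * g)⁻¹ = (g⁻¹ * r * g) ∨
        (g⁻¹ * q * g) * (g⁻¹ * r * g) * (g⁻¹ * q * g)⁻¹ = (g⁻¹ * r * g) * z := by
      generalize g⁻¹ * r * g = s at hr1 hr1L
      generalize hwe : g⁻¹ * q * g * q⁻¹ = w at hwL hwz hwQ
      have hq0 : g⁻¹ * q * g = w * q := by rw [← hwe]; group
      rw [hq0]
      have hcw : ∀ s' ∈ Q, s' ∈ L → w * s' * w⁻¹ = s' := by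
        intro s' hs' hs'L
        rw [hab w hwQ hwL s' hs' hs'L]; group
      have e3 : w * q * s * (w * q)⁻¹ = w * (q * s * q⁻¹) * w⁻¹ := by group
      rw [e3]
      rcases h.large.comm q hq s hr1 with e | e
      · left
        have : q * s * q⁻¹ = s := by rw [e]; group
        rw [this]; exact hcw s hr1 hr1L
      · right
        rw [conj_eq_of_ac h.large hq e]
        exact hcw _ (Q.mul_mem hr1 hzQ) (L.mul_mem hr1L hzL)
    have e3 : g⁻¹ * z * g = 1 ∨ g⁻¹ * z * g = z := by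
      rcases e2 with e2 | e2
      · left; rw [e1] at e2; exact mul_eq_left.1 e2
      · right; rw [e1] at e2; exact mul_left_cancel e2
    rcases e3 with e3 | e3
    · apply h.large.z_ne
      calc z = g * (g⁻¹ * z * g) * g⁻¹ := by group
        _ = 1 := by rw [e3]; group
    · apply hne
      rw [← ht]
      calc g * z * g⁻¹ = g * (g⁻¹ * z * g) * g⁻¹ := by rw [e3]
        _ = z := by group
  · push Not at hex
    -- `R = {1, z, t, t z}`
    have hR : ∀ r, r ∈ Q → r ∈ L → r = 1 ∨ r = z ∨ r = t ∨ r = t * z := by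
      intro r hr hrL
      by_cases h1 : r = 1
      · exact Or.inl h1
      by_cases h2 : r = z
      · exact Or.inr (Or.inl h2)
      by_cases h3 : r = t
      · exact Or.inr (Or.inr (Or.inl h3))
      exact Or.inr (Or.inr (Or.inr (hex r hr hrL h1 h2 h3)))
    have hx : ∃ x ∈ Q, x * t = t * x * z := by
      by_contra hno
      push Not at hno
      rcases h.large.cent t htQ (fun y hy => by
        rcases h.large.comm y hy t htQ with e | e
        · exact e.symm
        · exact absurd e (hno y hy)) with e | e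
      · exact ht1 e
      · exact hne e
    obtain ⟨x, hx, hxt⟩ := hx
    obtain ⟨k, hk, k', hk', hkk, hkt, -, hkt', -⟩ := exists_second h.large h.card htQ hx hxt
    -- commutators with `g`
    have hcz : ∀ k ∈ Q, k * t = t * k →
        g * k * g⁻¹ * k⁻¹ ∈ Q ∧ g * k * g⁻¹ * k⁻¹ ∈ L := by
      intro k hk hkt
      have hL : g * k * g⁻¹ * k⁻¹ ∈ L := h.comm_mem_L hg k
      refine ⟨hCL _ hL ?_, hL⟩
      have hkz : k * z = z * k := h.large.comm_z k hk
      -- `k` commutes with `g⁻¹ z g ∈ {1, z, t, t z}`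
      have h1 := hconj z hzQ hzL
      have h2 : k * (g⁻¹ * z * g) = (g⁻¹ * z * g) * k := by
        rcases hR _ h1.1 h1.2 with e | e | e | e
        · rw [e]; group
        · rw [e]; exact hkz
        · rw [e]; exact hkt
        · rw [e]
          calc k * (t * z) = (k * t) * z := by group
            _ = t * (k * z) := by rw [hkt]; group
            _ = t * z * k := by rw [hkz]; group
      have h3 : (g * k * g⁻¹) * z = z * (g * k * g⁻¹) := by
        calc (g * k * g⁻¹) * z = g * (k * (g⁻¹ * z * g)) * g⁻¹ := by group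
          _ = z * (g * k * g⁻¹) := by rw [h2]; group
      have h4 : k⁻¹ * z = z * k⁻¹ := h.large.comm_z _ (Q.inv_mem hk)
      exact comm_mul_comm h3 h4
    obtain ⟨a1, a2⟩ := hcz k hk hkt
    obtain ⟨b1, b2⟩ := hcz k' hk' hkt'
    have hcc : ∀ a, a ∈ Q → a ∈ L → ∀ k ∈ Q, k * t = t * k → a * k = k * a := by
      intro a ha haL k hk hkt
      have hkz : k * z = z * k := h.large.comm_z k hk
      rcases hR a ha haL with e | e | e | e
      · rw [e]; group
      · rw [e]; exact hkz.symm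
      · rw [e]; exact hkt.symm
      · rw [e]
        calc t * z * k = t * (k * z) := by rw [hkz]; group
          _ = (t * k) * z := by group
          _ = k * (t * z) := by rw [← hkt]; group
    have := principle (z := z) (k := k) (k' := k') (y := g) (a := g * k * g⁻¹ * k⁻¹)
      (a' := g * k' * g⁻¹ * k'⁻¹) hkk (by group) (by group) (hcc _ a1 a2 k' hk' hkt')
      (hcc _ b1 b2 k hk hkt) (hab _ a1 a2 _ b1 b2)
    exact hne (ht ▸ this)

end Hyp

end Cfsg.Agent.LargeExtra.W2.NonSimple
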