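import Cfsg.Agent.LargeExtra.W2.Coord
import Cfsg.Agent.S0215
import Cfsg.Agent.S1180

/-!
# S1759, part [G]: the case that `G` is not simple (helper860, after helper49 and helper995)

`z` an involution of the finite group `G`, `Q = F*(C_G(z))` extraspecial of order 32, `L` a normal non-abelian
simple subgroup of `G`.  Then `z ∈ L` and either `Q ≤ L` or `Q ∩ L = ⟨x⟩ ∘ Q₈`, `x² = z`, is of order 16.
-/

set_option autoImplicit false

namespace Cfsg.Agent.LargeExtra.W2.NonSimple

open Cfsg.Agent.Co2Type.Quad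

universe u

variable {G : Type u} [Group G] {Q L : Subgroup G} {z : G}

/-- `Q = F*(C_G(z))` is extraspecial of order 32, `L` is normal, simple and not abelian. -/
structure Hyp (Q L : Subgroup G) (z : G) : Prop where
  large : Large Q z
  card : Nat.card Q = 32
  core : ∀ N : Subgroup G, (∀ n ∈ N, n * z = z * n) → (∀ c, c * z = z * c → ∀ n ∈ N, c * n * c⁻¹ ∈ N) →
    IsPGroup 2 N → N ≤ Q
  normal : L.Normal
  simple : IsSimpleGroup L
  nonab : ∃ a ∈ L, ∃ b ∈ L, a * b ≠ b * a

/-- a finite non-abelian simple group has no isolated involution -/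
theorem exists_commuting {X : Type u} [Group X] [Finite X] [IsSimpleGroup X] (t : X) (ht : orderOf t = 2)
    (hnc : ∃ a b : X, a * b ≠ b * a) : ∃ g : X, g * t * g⁻¹ ≠ t ∧ t * (g * t * g⁻¹) = g * t * g⁻¹ * t := by
  by_contra hcon
  push Not at hcon
  have hiso : Cfsg.IsIsolatedInvolution t := ⟨ht, fun g hg => by
    by_contra hne
    exact hcon g hne hg.eq⟩
  have : Fact (Nat.Prime 2) := ⟨Nat.prime_two⟩
  have hp : IsPGroup 2 (Subgroup.zpowers t) := by
    apply IsPGroup.of_card (n := 1)
    rw [Nat.card_zpowers, hiso.1, pow_one]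
  obtain ⟨P, hP⟩ := hp.exists_le_sylow
  have htP : t ∈ P := hP (Subgroup.mem_zpowers t)
  obtain ⟨N, hN, hodd, hcomm⟩ := Cfsg.Agent.S0215.result P t hiso.1 htP
    (fun g hg => Cfsg.Agent.S1180.eq_of_conj_mem_isPGroup t hiso (P : Subgroup X) P.2 htP g hg)
  rcases hN.eq_bot_or_eq_top with h | h
  · have hcen : ∀ g : X, t * g = g * t := by
      intro g
      have := hcomm g
      rw [h, Subgroup.mem_bot] at this
      have h1 : t * g * t⁻¹ = g := mul_inv_eq_one.mp this
      rw [mul_inv_eq_iff_eq_mul] at h1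
      exact h1
    have htc : t ∈ Subgroup.center X := by
      rw [Subgroup.mem_center_iff]; intro g; exact (hcen g).symm
    rcases (inferInstance : (Subgroup.center X).Normal).eq_bot_or_eq_top with hc | hc
    · rw [hc, Subgroup.mem_bot] at htc
      have := hiso.1
      rw [htc, orderOf_one] at this
      omega
    · obtain ⟨a, b, hab⟩ := hnc
      apply hab
      have : b ∈ Subgroup.center X := by rw [hc]; trivial
      exact (Subgroup.mem_center_iff.mp this a)
  · rw [h, Subgroup.card_top] at hodd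
    have h2 : 2 ∣ Nat.card X := by
      rw [← hiso.1]; exact orderOf_dvd_natCard t
    exact (Nat.not_even_iff_odd.mpr hodd) (even_iff_two_dvd.mpr h2)

namespace Hyp

theorem orderOf_z (h : Hyp Q L z) : orderOf z = 2 :=
  orderOf_eq_prime (by rw [pow_two, h.large.z_sq]) h.large.z_ne

/-- `z ∈ L` -/
theorem z_mem [Finite G] (h : Hyp Q L z) : z ∈ L := by
  by_contra hz
  have hN := h.normal
  have hQL : ∀ w ∈ Q, w ∈ L → w = 1 := by
    intro w hwQ hwL
    by_contra hw1
    have hwz : w ≠ z := fun e => hz (e ▸ hwL)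
    have : ∃ y ∈ Q, w * y ≠ y * w := by
      by_contra hno
      push Not at hno
      rcases h.large.cent w hwQ hno with e | e
      · exact hw1 e
      · exact hwz e
    obtain ⟨y, hy, hwy⟩ := this
    rcases h.large.comm w hwQ y hy with e | e
    · exact hwy e
    · apply hz
      have e2 : z = (y * w)⁻¹ * (w * y) := by rw [e]; group
      have e3 : (y * w)⁻¹ * (w * y) = w⁻¹ * (y⁻¹ * w * y) := by group
      rw [e2, e3]
      refine L.mul_mem (L.inv_mem hwL) ?_
      have := hN.conj_mem w hwL y⁻¹
      simpa using this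
  have hcen : ∀ l ∈ L, l * z = z * l → l = 1 := by
    intro l hl hlz
    have hlQ : l ∈ Q := by
      refine h.large.self l hlz fun x hx => ?_
      have h1 : l * x * l⁻¹ * x⁻¹ ∈ Q := Q.mul_mem (h.large.conj_mem l hlz x hx) (Q.inv_mem hx)
      have h2 : l * x * l⁻¹ * x⁻¹ ∈ L := by
        have : l * x * l⁻¹ * x⁻¹ = l * (x * l⁻¹ * x⁻¹) := by group
        rw [this]
        exact L.mul_mem hl (hN.conj_mem _ (L.inv_mem hl) x)
      have h3 := hQL _ h1 h2
      calc l * x = (l * x * l⁻¹ * x⁻¹) * (x * l) := by group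
        _ = x * l := by rw [h3, one_mul]
    exact hQL l hlQ hl
  -- `z` acts without fixed points
  have _ := h.simple
  let φ : L ≃* L := MulAut.conjNormal z
  have hφ : ∀ l : L, (φ l : G) = z * l * z⁻¹ := fun l => rfl
  have hfp : MonoidHom.FixedPointFree φ := by
    intro l hl
    apply Subtype.ext
    apply hcen l l.2
    have := congrArg Subtype.val hl
    rw [hφ] at this
    rw [mul_inv_eq_iff_eq_mul] at this
    exact this.symm
  have hinv : Function.Involutive φ := by
    intro l
    apply Subtype.ext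
    rw [hφ, hφ]
    have : z * (z * (l : G) * z⁻¹) * z⁻¹ = (z * z) * l * (z * z)⁻¹ := by group
    rw [this, h.large.z_sq]; group
  obtain ⟨a, ha, b, hb, hab⟩ := h.nonab
  apply hab
  have := hfp.commute_all_of_involutive hinv ⟨a, ha⟩ ⟨b, hb⟩
  exact congrArg Subtype.val this.eq

theorem exists_t [Finite G] (h : Hyp Q L z) :
    ∃ g ∈ L, g * z * g⁻¹ ≠ z ∧ g * z * g⁻¹ * z = z * (g * z * g⁻¹) := by
  have _ := h.simple
  obtain ⟨a, ha, b, hb, hab⟩ := h.nonab
  obtain ⟨g, h1, h2⟩ := exists_commuting (⟨z, h.z_mem⟩ : L)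
    (by rw [← Subgroup.orderOf_coe]; exact h.orderOf_z)
    ⟨⟨a, ha⟩, ⟨b, hb⟩, fun e => hab (congrArg Subtype.val e)⟩
  refine ⟨g, g.2, fun e => h1 (Subtype.ext e), ?_⟩
  exact (congrArg Subtype.val h2).symm

/-- subgroups of odd-order-free elements are contained in `Q` -/
theorem core_le [Finite G] (h : Hyp Q L z) (N : Subgroup G) (hN : ∀ n ∈ N, n * z = z * n)
    (hn : ∀ c, c * z = z * c → ∀ n ∈ N, c * n * c⁻¹ ∈ N)
    (ho : ∀ n ∈ N, Odd (orderOf n) → n = 1) : N ≤ Q := by
  apply h.core N hN hn
  intro n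
  obtain ⟨k, m, hm, hkm⟩ := Nat.exists_eq_two_pow_mul_odd (orderOf_pos (n : G)).ne'
  refine ⟨k, ?_⟩
  apply Subtype.ext
  rw [Subgroup.coe_pow, Subgroup.coe_one]
  apply ho _ (N.pow_mem n.2 _)
  rw [orderOf_pow' _ (pow_ne_zero _ two_ne_zero), hkm,
    Nat.gcd_eq_right (Dvd.intro _ rfl), Nat.mul_div_cancel_left _ (pow_pos two_pos k)]
  exact hm

end Hyp

/-! ### commuting and anticommuting elements of `Q` -/

section ac

variable {x y w k k' a a' : G}

theorem ac_symm' (h : Large Q z) (hxy : x * y = y * x * z) : y * x = x * y * z := by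
  rw [hxy, mul_assoc, h.z_sq, mul_one]

theorem ac_mul_comm (h : Large Q z) (hw : w ∈ Q) (hxy : x * y = y * x * z) (hwy : w * y = y * w) :
    (x * w) * y = y * (x * w) * z := by
  have hz := h.comm_z w hw
  calc (x * w) * y = x * (w * y) := by group
    _ = x * y * w := by rw [hwy]; group
    _ = y * x * (z * w) := by rw [hxy]; group
    _ = y * (x * w) * z := by rw [← hz]; group

theorem comm_mul_ac (hwy : w * y = y * w) (hxy : x * y = y * x * z) :
    (w * x) * y = y * (w * x) * z := by
  calc (w * x) * y = w * (x * y) := by group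
    _ = w * y * x * z := by rw [hxy]; group
    _ = y * (w * x) * z := by rw [hwy]; group

theorem ac_mul_ac (h : Large Q z) (hw : w ∈ Q) (hxy : x * y = y * x * z) (hwy : w * y = y * w * z) :
    (x * w) * y = y * (x * w) := by
  have hz := h.comm_z w hw
  calc (x * w) * y = x * (w * y) := by group
    _ = x * y * (w * z) := by rw [hwy]; group
    _ = y * x * (z * w) * z := by rw [hxy]; group
    _ = y * (x * w) * (z * z) := by rw [← hz]; group
    _ = y * (x * w) := by rw [h.z_sq, mul_one]

theorem comm_mul_comm (hxy : x * y = y * x) (hwy : w * y = y * w) : (x * w) * y = y * (x * w) := by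
  calc (x * w) * y = x * (w * y) := by group
    _ = x * y * w := by rw [hwy]; group
    _ = y * (x * w) := by rw [hxy]; group

theorem not_ac_of_comm (h : Large Q z) (h1 : x * y = y * x) (h2 : x * y = y * x * z) : False := by
  rw [h1] at h2
  exact h.z_ne (mul_eq_left.1 h2.symm)

/-- conjugation form -/
theorem conj_eq_of_ac (h : Large Q z) (hx : x ∈ Q) (hxy : x * y = y * x * z) : x * y * x⁻¹ = y * z := by
  have hz := h.comm_z x hx
  calc x * y * x⁻¹ = y * (x * z) * x⁻¹ := by rw [hxy]; group
    _ = y * z * (x * x⁻¹) := by rw [hz]; group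
    _ = y * z := by group

theorem pow_four (h : Large Q z) (hx : x ∈ Q) : x ^ 4 = 1 := by
  have e : x ^ 4 = (x * x) * (x * x) := by simp only [pow_succ, pow_zero, one_mul, mul_assoc]
  rw [e]
  rcases h.sq x hx with h1 | h1
  · rw [h1, mul_one]
  · rw [h1, h.z_sq]

/-- `n` of odd order, `n q n⁻¹ = s q` with `s` commuting with `n` and `s ^ 4 = 1`: then `s = 1` -/
theorem chain {n q s : G} (ho : Odd (orderOf n)) (h1 : n * q * n⁻¹ = s * q) (h2 : n * s = s * n)
    (h3 : s ^ 4 = 1) : s = 1 := by
  have key : ∀ i : ℕ, n ^ i * q * (n ^ i)⁻¹ = s ^ i * q := by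
    intro i
    induction i with
    | zero => simp
    | succ i ih =>
      have hc : n * s ^ i = s ^ i * n := ((show Commute n s from h2).pow_right i).eq
      calc n ^ (i + 1) * q * (n ^ (i + 1))⁻¹ = n * (n ^ i * q * (n ^ i)⁻¹) * n⁻¹ := by
            rw [pow_succ' n i]; group
        _ = n * s ^ i * q * n⁻¹ := by rw [ih]; group
        _ = s ^ i * (n * q * n⁻¹) := by rw [hc]; group
        _ = s ^ (i + 1) * q := by rw [h1, pow_succ]; group
  have h4 := key (orderOf n)
  rw [pow_orderOf_eq_one] at h4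
  have h5 : s ^ orderOf n = 1 := by
    have : 1 * q * (1 : G)⁻¹ = q := by group
    rw [this] at h4
    exact (mul_eq_right.1 h4.symm)
  have h6 : orderOf s ∣ orderOf n := orderOf_dvd_of_pow_eq_one h5
  have h7 : orderOf s ∣ 2 ^ 2 := orderOf_dvd_of_pow_eq_one (by rw [← h3]; norm_num)
  rw [← orderOf_eq_one_iff]
  apply Nat.eq_one_of_dvd_one
  have hc : Nat.Coprime (orderOf n) (2 ^ 2) :=
    Nat.Coprime.pow_right 2 (Nat.coprime_two_right.2 ho)
  rw [← hc.gcd_eq_one]
  exact Nat.dvd_gcd h6 h7

/-- an element of odd order of `Q` is trivial -/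
theorem eq_one_of_odd (h : Large Q z) (hx : x ∈ Q) (ho : Odd (orderOf x)) : x = 1 := by
  have h7 : orderOf x ∣ 2 ^ 2 := orderOf_dvd_of_pow_eq_one (by rw [← pow_four h hx]; norm_num)
  rw [← orderOf_eq_one_iff]
  apply Nat.eq_one_of_dvd_one
  have hc : Nat.Coprime (orderOf x) (2 ^ 2) :=
    Nat.Coprime.pow_right 2 (Nat.coprime_two_right.2 ho)
  rw [← hc.gcd_eq_one]
  exact Nat.dvd_gcd dvd_rfl h7

/-- (N): an element commuting with `t` but not with `r` -/
theorem exists_comm_ac (h : Large Q z) {t r : G} (ht : t ∈ Q) (hr : r ∈ Q) (h1 : r ≠ 1) (h2 : r ≠ z)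
    (h3 : r ≠ t) (h4 : r ≠ t * z) : ∃ q ∈ Q, q * t = t * q ∧ q * r = r * q * z := by
  by_contra hno
  push Not at hno
  have hc : ∀ q ∈ Q, q * t = t * q → q * r = r * q := by
    intro q hq hqt
    rcases h.comm q hq r hr with e | e
    · exact e
    · exact absurd e (hno q hq hqt)
  have hcen : ∀ w ∈ Q, (∀ q ∈ Q, q * w = w * q) → w = 1 ∨ w = z := by
    intro w hw hq
    exact h.cent w hw fun q hq' => (hq q hq').symm
  by_cases hct : ∀ q ∈ Q, q * t = t * q
  · rcases hcen r hr (fun q hq => hc q hq (hct q hq)) with e | e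
    · exact h1 e
    · exact h2 e
  · push Not at hct
    obtain ⟨q0, hq0, hq0t⟩ := hct
    have hq0t' : q0 * t = t * q0 * z := by
      rcases h.comm q0 hq0 t ht with e | e
      · exact absurd e hq0t
      · exact e
    -- every `q` commutes with `t` or is `q0` times such an element
    have hdec : ∀ q ∈ Q, q * t = t * q ∨ (q0⁻¹ * q) * t = t * (q0⁻¹ * q) := by
      intro q hq
      rcases h.comm q hq t ht with e | e
      · exact Or.inl e
      · right
        have hi : q0⁻¹ * t = t * q0⁻¹ * z := by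
          have hz0 := h.comm_z q0 hq0
          calc q0⁻¹ * t = q0⁻¹ * t * q0 * q0⁻¹ := by group
            _ = q0⁻¹ * (t * q0 * z) * z * q0⁻¹ := by
                have : q0⁻¹ * (t * q0 * z) * z * q0⁻¹ = q0⁻¹ * (t * q0) * (z * z) * q0⁻¹ := by group
                rw [this, h.z_sq]; group
            _ = q0⁻¹ * (q0 * t) * z * q0⁻¹ := by rw [hq0t']
            _ = t * (z * q0⁻¹) := by group
            _ = t * (q0⁻¹ * z) := by rw [h.comm_z _ (Q.inv_mem hq0)]
            _ = t * q0⁻¹ * z := by group
        exact ac_mul_ac h hq hi e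
    rcases h.comm q0 hq0 r hr with e | e
    · have : ∀ q ∈ Q, q * r = r * q := by
        intro q hq
        rcases hdec q hq with e' | e'
        · exact hc q hq e'
        · have h5 := hc _ (Q.mul_mem (Q.inv_mem hq0) hq) e'
          have h6 : (q0 * (q0⁻¹ * q)) * r = r * (q0 * (q0⁻¹ * q)) := comm_mul_comm e h5
          simpa using h6
      rcases hcen r hr this with e' | e'
      · exact h1 e'
      · exact h2 e'
    · -- `t r` is central
      have htr : ∀ q ∈ Q, q * (t * r) = t * r * q := by
        have key0 : q0 * (t * r) = t * r * q0 := by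
          have hz := h.comm_z r hr
          calc q0 * (t * r) = (q0 * t) * r := by group
            _ = t * q0 * (z * r) := by rw [hq0t']; group
            _ = t * (q0 * r) * z := by rw [← hz]; group
            _ = t * r * q0 * (z * z) := by rw [e]; group
            _ = t * r * q0 := by rw [h.z_sq, mul_one]
        intro q hq
        rcases hdec q hq with e' | e'
        · calc q * (t * r) = (q * t) * r := by group
            _ = t * (q * r) := by rw [e']; group
            _ = t * r * q := by rw [hc q hq e']; group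
        · have h5 := hc _ (Q.mul_mem (Q.inv_mem hq0) hq) e'
          calc q * (t * r) = q0 * ((q0⁻¹ * q) * t) * r := by group
            _ = q0 * t * ((q0⁻¹ * q) * r) := by rw [e']; group
            _ = (q0 * (t * r)) * (q0⁻¹ * q) := by rw [h5]; group
            _ = t * r * q := by rw [key0]; group
      have htt : ∀ w : G, (w = 1 ∨ w = z) → t * r = w → r = t ∨ r = t * z := by
        intro w hw htw
        have h5 : r = t⁻¹ * w := by rw [← htw]; group
        have h6 : t⁻¹ = t ∨ t⁻¹ = t * z := by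
          rcases h.sq t ht with e' | e'
          · left; exact inv_eq_of_mul_eq_one_left e'
          · right
            apply inv_eq_of_mul_eq_one_left
            have hz := h.comm_z t ht
            rw [mul_assoc, ← hz, ← mul_assoc, e', h.z_sq]
        rcases h6 with h6 | h6 <;> rcases hw with rfl | rfl
        · left; rw [h5, h6, mul_one]
        · right; rw [h5, h6]
        · right; rw [h5, h6, mul_one]
        · left
          rw [h5, h6, mul_assoc, h.z_sq, mul_one]
      rcases hcen (t * r) (Q.mul_mem ht hr) htr with e' | e'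
      · rcases htt 1 (Or.inl rfl) e' with e2 | e2
        · exact h3 e2
        · exact h4 e2
      · rcases htt z (Or.inr rfl) e' with e2 | e2
        · exact h3 e2
        · exact h4 e2

/-- the basic principle: if `y` moves `k, k'` by elements commuting with them, it centralises `[k, k']` -/
theorem principle (hk : k' * k = k * k' * z) (h1 : y * k * y⁻¹ = a * k) (h2 : y * k' * y⁻¹ = a' * k')
    (c2 : a * k' = k' * a) (c3 : a' * k = k * a') (c5 : a * a' = a' * a) : y * z * y⁻¹ = z := by
  have e0 : z = (k * k')⁻¹ * (k' * k) := by rw [hk]; group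
  calc y * z * y⁻¹ = ((y * k * y⁻¹) * (y * k' * y⁻¹))⁻¹ * ((y * k' * y⁻¹) * (y * k * y⁻¹)) := by
        conv_lhs => rw [e0]
        group
    _ = (a * k * (a' * k'))⁻¹ * (a' * k' * (a * k)) := by rw [h1, h2]
    _ = (a * a' * (k * k'))⁻¹ * (a * a' * (k' * k)) := by
        have e1 : a * k * (a' * k') = a * a' * (k * k') := by
          calc a * k * (a' * k') = a * (k * a') * k' := by group
            _ = a * a' * (k * k') := by rw [← c3]; group
        have e2 : a' * k' * (a * k) = a * a' * (k' * k) := by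
          calc a' * k' * (a * k) = a' * (k' * a) * k := by group
            _ = (a' * a) * (k' * k) := by rw [← c2]; group
            _ = a * a' * (k' * k) := by rw [c5]
        rw [e1, e2]
    _ = (k * k')⁻¹ * (k' * k) := by group
    _ = z := e0.symm

end ac

namespace Hyp

theorem conj_mem_L (h : Hyp Q L z) (c : G) {l : G} (hl : l ∈ L) : c * l * c⁻¹ ∈ L := h.normal.conj_mem l hl c

/-- `[l, q] ∈ L` -/
theorem comm_mem_L (h : Hyp Q L z) {l : G} (hl : l ∈ L) (q : G) : l * q * l⁻¹ * q⁻¹ ∈ L := by
  have : l * q * l⁻¹ * q⁻¹ = l * (q * l⁻¹ * q⁻¹) := by group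
  rw [this]
  exact L.mul_mem hl (h.conj_mem_L q (L.inv_mem hl))

theorem comm_mem_Q (h : Hyp Q L z) {l q : G} (hlz : l * z = z * l) (hq : q ∈ Q) : l * q * l⁻¹ * q⁻¹ ∈ Q :=
  Q.mul_mem (h.large.conj_mem l hlz q hq) (Q.inv_mem hq)

/-- an element of odd order of `L ∩ C_G(z)` centralising `Q ∩ L` is trivial -/
theorem odd_eq_one (h : Hyp Q L z) {n : G} (hn : n ∈ L) (hnz : n * z = z * n) (ho : Odd (orderOf n))
    (hc : ∀ r ∈ Q, r ∈ L → n * r = r * n) : n = 1 := by
  have hcQ : ∀ q ∈ Q, n * q = q * n := by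
    intro q hq
    have h1 := chain (n := n) (q := q) (s := n * q * n⁻¹ * q⁻¹) ho (by group)
      (hc _ (h.comm_mem_Q hnz hq) (h.comm_mem_L hn q)) (pow_four h.large (h.comm_mem_Q hnz hq))
    calc n * q = (n * q * n⁻¹ * q⁻¹) * (q * n) := by group
      _ = q * n := by rw [h1, one_mul]
  exact eq_one_of_odd h.large (h.large.self n hnz hcQ) ho

end Hyp

end Cfsg.Agent.LargeExtra.W2.NonSimple
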