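import Cfsg.Agent.LargeExtra.W2.NSFaith

/-!
# S1759 [G]: the three ways to finish, and the three-cycle
-/

set_option autoImplicit false

namespace Cfsg.Agent.LargeExtra.W2.NonSimple

open Cfsg.Agent.Co2Type.Quad

universe u

variable {G : Type u} [Group G] {Q L : Subgroup G} {z x y : G}

theorem comm_inv_left {a b : G} (h : a * b = b * a) : a⁻¹ * b = b * a⁻¹ :=
  ((show Commute a b from h).inv_left).eq

/-- an element permuting `z → t → t z → z` -/
theorem exists_cycle {g : G} (hzz : z * z = 1)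
    (hSW : ∀ g ∈ L, g * z * g⁻¹ ≠ z → g * z * g⁻¹ * z = z * (g * z * g⁻¹) →
      ∃ a ∈ L, a * z = z * a ∧ a * (g * z * g⁻¹) * a⁻¹ = g * z * g⁻¹ * z)
    (hg : g ∈ L) (hne : g * z * g⁻¹ ≠ z) (hc : g * z * g⁻¹ * z = z * (g * z * g⁻¹)) :
    ∃ y ∈ L, y * z * y⁻¹ = g * z * g⁻¹ ∧ y * (g * z * g⁻¹) * y⁻¹ = g * z * g⁻¹ * z := by
  obtain ⟨a, haL, haz, hat⟩ := hSW g hg hne hc
  have hne' : g⁻¹ * z * g⁻¹⁻¹ ≠ z := by
    intro e
    apply hne
    calc g * z * g⁻¹ = g * (g⁻¹ * z * g⁻¹⁻¹) * g⁻¹ := by rw [e]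
      _ = z := by group
  have hc' : g⁻¹ * z * g⁻¹⁻¹ * z = z * (g⁻¹ * z * g⁻¹⁻¹) := by
    calc g⁻¹ * z * g⁻¹⁻¹ * z = g⁻¹ * (z * (g * z * g⁻¹)) * g := by group
      _ = g⁻¹ * (g * z * g⁻¹ * z) * g := by rw [hc]
      _ = z * (g⁻¹ * z * g⁻¹⁻¹) := by group
  obtain ⟨b, hbL, hbz, hbt⟩ := hSW g⁻¹ (L.inv_mem hg) hne' hc'
  -- `c = g b g⁻¹` fixes `t` and maps `z` to `z t`
  have hct : (g * b * g⁻¹) * (g * z * g⁻¹) * (g * b * g⁻¹)⁻¹ = g * z * g⁻¹ := by
    calc (g * b * g⁻¹) * (g * z * g⁻¹) * (g * b * g⁻¹)⁻¹ = g * (b * z) * b⁻¹ * g⁻¹ := by group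
      _ = g * z * g⁻¹ := by rw [hbz]; group
  have hcz : (g * b * g⁻¹) * z * (g * b * g⁻¹)⁻¹ = z * (g * z * g⁻¹) := by
    calc (g * b * g⁻¹) * z * (g * b * g⁻¹)⁻¹ = g * (b * (g⁻¹ * z * g⁻¹⁻¹) * b⁻¹) * g⁻¹ := by group
      _ = z * (g * z * g⁻¹) := by rw [hbt]; group
  refine ⟨a * (g * b * g⁻¹), L.mul_mem haL (L.mul_mem (L.mul_mem hg hbL) (L.inv_mem hg)), ?_, ?_⟩
  · generalize g * b * g⁻¹ = c at hct hcz
    generalize g * z * g⁻¹ = t at *
    calc a * c * z * (a * c)⁻¹ = a * (c * z * c⁻¹) * a⁻¹ := by group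
      _ = (a * z) * t * a⁻¹ := by rw [hcz]; group
      _ = z * (a * t * a⁻¹) := by rw [haz]; group
      _ = (z * t) * z := by rw [hat]; group
      _ = t * (z * z) := by rw [← hc]; group
      _ = t := by rw [hzz, mul_one]
  · generalize g * b * g⁻¹ = c at hct hcz
    generalize g * z * g⁻¹ = t at *
    calc a * c * t * (a * c)⁻¹ = a * (c * t * c⁻¹) * a⁻¹ := by group
      _ = t * z := by rw [hct, hat]

/-- the centraliser of the four-group contains `y v y⁻¹` with `v` -/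
theorem conj_comm {v w t y : G} (hyz : y * z * y⁻¹ = t) (hyt : y * t * y⁻¹ = t * z)
    (htt : t * t = 1) (hvz : v * z = z * v) (hvt : v * t = t * v) (hw : w = y * v * y⁻¹) :
    w * z = z * w ∧ w * t = t * w := by
  have h1 : w * t = t * w := by
    rw [hw, ← hyz]
    calc y * v * y⁻¹ * (y * z * y⁻¹) = y * (v * z) * y⁻¹ := by group
      _ = (y * z * y⁻¹) * (y * v * y⁻¹) := by rw [hvz]; group
  have h2 : w * (t * z) = (t * z) * w := by
    rw [hw, ← hyt]
    calc y * v * y⁻¹ * (y * t * y⁻¹) = y * (v * t) * y⁻¹ := by group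
      _ = (y * t * y⁻¹) * (y * v * y⁻¹) := by rw [hvt]; group
  refine ⟨?_, h1⟩
  calc w * z = (t * t) * w * z := by rw [htt, one_mul]
    _ = t * (t * w) * z := by group
    _ = t * (w * (t * z)) := by rw [← h1]; group
    _ = (t * t) * z * w := by rw [h2]; group
    _ = z * w := by rw [htt, one_mul]

/-- end (i): `C_L(⟨z, t⟩) = ⟨z, t⟩` -/
theorem end_four (h : Hyp Q L z) {t y k k' : G} (hne : t ≠ z)
    (htt : t * t = 1) (hy : y ∈ L) (hyz : y * z * y⁻¹ = t) (hyt : y * t * y⁻¹ = t * z)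
    (hA : ∀ c ∈ L, c * z = z * c → c * t = t * c → c = 1 ∨ c = z ∨ c = t ∨ c = t * z)
    (hkz : k * z = z * k) (hkz' : k' * z = z * k') (hkt : k * t = t * k) (hkt' : k' * t = t * k')
    (hkk : k' * k = k * k' * z) : False := by
  have hzz := h.large.z_sq
  have key : ∀ v : G, v * z = z * v → v * t = t * v →
      (y * v * y⁻¹ * v⁻¹ = 1 ∨ y * v * y⁻¹ * v⁻¹ = z ∨ y * v * y⁻¹ * v⁻¹ = t ∨ y * v * y⁻¹ * v⁻¹ = t * z) := by
    intro v hvz hvt
    obtain ⟨h1, h2⟩ := conj_comm (v := v) hyz hyt htt hvz hvt rfl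
    exact hA _ (h.comm_mem_L hy v) (comm_mul_comm h1 (comm_inv_left hvz)) (comm_mul_comm h2 (comm_inv_left hvt))
  have hcc : ∀ a v : G, (a = 1 ∨ a = z ∨ a = t ∨ a = t * z) → v * z = z * v → v * t = t * v → a * v = v * a := by
    rintro a v (rfl | rfl | rfl | rfl) hvz hvt
    · group
    · exact hvz.symm
    · exact hvt.symm
    · exact comm_mul_comm hvt.symm hvz.symm
  have hzt : t * z = z * t := by
    have h1 := (conj_comm (v := z) hyz hyt htt rfl (by
      -- `z` commutes with `t`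
      have : (t * z) * (t * z) = 1 := by
        rw [← hyt]
        calc y * t * y⁻¹ * (y * t * y⁻¹) = y * (t * t) * y⁻¹ := by group
          _ = 1 := by rw [htt]; group
      calc z * t = (t * t) * z * t * (z * z) := by rw [htt, hzz]; group
        _ = t * ((t * z) * (t * z)) * z := by group
        _ = t * z := by rw [this, mul_one]) rfl).1
    rw [hyz] at h1
    exact h1
  have h1 := key k hkz hkt
  have h2 := key k' hkz' hkt'
  have hc5 : (y * k * y⁻¹ * k⁻¹) * (y * k' * y⁻¹ * k'⁻¹) = (y * k' * y⁻¹ * k'⁻¹) * (y * k * y⁻¹ * k⁻¹) := by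
    apply hcc _ _ h1
    · exact (hcc _ z h2 rfl hzt.symm)
    · exact (hcc _ t h2 hzt rfl)
  have := principle (z := z) (k := k) (k' := k') (y := y) (a := y * k * y⁻¹ * k⁻¹)
      (a' := y * k' * y⁻¹ * k'⁻¹) hkk (by group) (by group) (hcc _ _ h1 hkz' hkt') (hcc _ _ h2 hkz hkt) hc5
  rw [hyz] at this
  exact hne this

/-- end (ii): `C_L(⟨z, t⟩) = ⟨z, t, e⟩` -/
theorem end_eight (h : Hyp Q L z) {t y e v : G} (hne : t ≠ z)
    (htt : t * t = 1) (htz : t * z = z * t) (hy : y ∈ L) (hyz : y * z * y⁻¹ = t) (hyt : y * t * y⁻¹ = t * z)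
    (heL : e ∈ L) (hez : e * z = z * e) (het : e * t = t * e)
    (hA : ∀ c ∈ L, c * z = z * c → c * t = t * c →
      ∃ w, (w = 1 ∨ w = z ∨ w = t ∨ w = t * z) ∧ (c = w ∨ c = e * w))
    (hvz : v * z = z * v) (hvt : v * t = t * v) (hve : v * e * v⁻¹ = e * z) : False := by
  have hzz := h.large.z_sq
  have hz1 := h.large.z_ne
  let V : G → Prop := fun w => w = 1 ∨ w = z ∨ w = t ∨ w = t * z
  have hVc : ∀ a v : G, V a → v * z = z * v → v * t = t * v → a * v = v * a := by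
    rintro a v (rfl | rfl | rfl | rfl) hvz hvt
    · group
    · exact hvz.symm
    · exact hvt.symm
    · exact comm_mul_comm hvt.symm hvz.symm
  have hVz : ∀ a, V a → a * z = z * a := fun a ha => hVc a z ha rfl htz.symm
  have hVt : ∀ a, V a → a * t = t * a := fun a ha => hVc a t ha htz rfl
  have hytz : y * (t * z) * y⁻¹ = z := by
    calc y * (t * z) * y⁻¹ = (y * t * y⁻¹) * (y * z * y⁻¹) := by group
      _ = t * (z * t) := by rw [hyt, hyz]; group
      _ = (t * t) * z := by rw [← htz]; group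
      _ = z := by rw [htt, one_mul]
  have hyV : ∀ w, V w → V (y * w * y⁻¹) := by
    intro w hw
    rcases hw with hw | hw | hw | hw
    · left; rw [hw]; group
    · right; right; left; rw [hw]; exact hyz
    · right; right; right; rw [hw]; exact hyt
    · right; left; rw [hw]; exact hytz
  have hyV' : ∀ w, V w → w * (y * (y * w * y⁻¹) * y⁻¹) = y * w * y⁻¹ := by
    intro w hw
    rcases hw with hw | hw | hw | hw
    · rw [hw]; group
    · rw [hw, hyz, hyt, htz, ← mul_assoc, hzz, one_mul]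
    · rw [hw, hyt, hytz]
    · rw [hw, hytz, hyz, htz, mul_assoc, htt, mul_one]
  -- `y e y⁻¹ = e w`
  obtain ⟨c1, c2⟩ := conj_comm (v := e) hyz hyt htt hez het rfl
  have hyeL : y * e * y⁻¹ ∈ L := L.mul_mem (L.mul_mem hy heL) (L.inv_mem hy)
  obtain ⟨w, hw, hw'⟩ := hA _ hyeL c1 c2
  have hew : y * e * y⁻¹ = e * w := by
    rcases hw' with e1 | e1
    · exfalso
      -- `e = y⁻¹ w y ∈ V`
      have hyi : ∀ w', V w' → V (y⁻¹ * w' * y) := by
        intro w' hw'
        rcases hw' with hw' | hw' | hw' | hw'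
        · left; rw [hw']; group
        · right; right; right
          rw [hw']
          calc y⁻¹ * z * y = y⁻¹ * (y * (t * z) * y⁻¹) * y := by rw [hytz]
            _ = t * z := by group
        · right; left
          rw [hw']
          calc y⁻¹ * t * y = y⁻¹ * (y * z * y⁻¹) * y := by rw [hyz]
            _ = z := by group
        · right; right; left
          rw [hw']
          calc y⁻¹ * (t * z) * y = y⁻¹ * (y * t * y⁻¹) * y := by rw [hyt]
            _ = t := by group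
      have he := hyi w hw
      have he2 : y⁻¹ * w * y = e := by rw [← e1]; group
      rw [he2] at he
      have h3 := hVc e v he hvz hvt
      rw [← h3] at hve
      have h4 : e * v * v⁻¹ = e := by group
      rw [h4] at hve
      exact hz1 (mul_eq_left.1 hve.symm)
    · exact e1
  -- the fixed point
  set e' := e * (y * w * y⁻¹) with he'
  have hVw := hyV w hw
  have hfix : y * e' * y⁻¹ = e' := by
    calc y * e' * y⁻¹ = (y * e * y⁻¹) * (y * (y * w * y⁻¹) * y⁻¹) := by rw [he']; group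
      _ = e * (w * (y * (y * w * y⁻¹) * y⁻¹)) := by rw [hew]; group
      _ = e' := by rw [hyV' w hw]
  have hve' : v * e' * v⁻¹ = e' * z := by
    calc v * e' * v⁻¹ = (v * e * v⁻¹) * (v * (y * w * y⁻¹) * v⁻¹) := by rw [he']; group
      _ = (v * e * v⁻¹) * ((y * w * y⁻¹) * v * v⁻¹) := by rw [hVc _ v hVw hvz hvt]
      _ = e * (z * (y * w * y⁻¹)) := by rw [hve]; group
      _ = e' * z := by rw [← hVz _ hVw, he']; group
  -- `a = [y, v]`
  obtain ⟨d1, d2⟩ := conj_comm (v := v) hyz hyt htt hvz hvt rfl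
  obtain ⟨w2, hw2, hw2'⟩ := hA _ (h.comm_mem_L hy v) (comm_mul_comm d1 (comm_inv_left hvz))
    (comm_mul_comm d2 (comm_inv_left hvt))
  have hae : (y * v * y⁻¹ * v⁻¹) * e' = e' * (y * v * y⁻¹ * v⁻¹) := by
    have hw2e : w2 * e = e * w2 := hVc w2 e hw2 hez het
    have hw2w : w2 * (y * w * y⁻¹) = (y * w * y⁻¹) * w2 := hVc w2 _ hw2 (hVz _ hVw) (hVt _ hVw)
    have hee : e * (y * w * y⁻¹) = (y * w * y⁻¹) * e := (hVc _ e hVw hez het).symm
    have h5 : w2 * e' = e' * w2 := by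
      calc w2 * e' = (w2 * e) * (y * w * y⁻¹) := by rw [he']; group
        _ = e * (w2 * (y * w * y⁻¹)) := by rw [hw2e]; group
        _ = e' * w2 := by rw [hw2w, he']; group
    have h6 : e * e' = e' * e := by
      calc e * e' = e * (e * (y * w * y⁻¹)) := by rw [he']
        _ = e * ((y * w * y⁻¹) * e) := by rw [hee]
        _ = e' * e := by rw [he']; group
    rcases hw2' with e1 | e1
    · rw [e1]; exact h5
    · rw [e1]
      exact comm_mul_comm h6 h5
  have h7 : y * (v * e' * v⁻¹) * y⁻¹ = e' * t := by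
    rw [hve']
    calc y * (e' * z) * y⁻¹ = (y * e' * y⁻¹) * (y * z * y⁻¹) := by group
      _ = e' * t := by rw [hfix, hyz]
  have h8 : y * (v * e' * v⁻¹) * y⁻¹ = e' * z := by
    set a := y * v * y⁻¹ * v⁻¹ with ha
    have haz : a * z = z * a := by
      rcases hw2' with e1 | e1
      · rw [e1]; exact hVz _ hw2
      · rw [e1]; exact comm_mul_comm hez (hVz _ hw2)
    calc y * (v * e' * v⁻¹) * y⁻¹ = a * (v * (y * e' * y⁻¹) * v⁻¹) * a⁻¹ := by rw [ha]; group
      _ = (a * e') * z * a⁻¹ := by rw [hfix, hve']; group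
      _ = e' * (a * z) * a⁻¹ := by rw [hae]; group
      _ = e' * z := by rw [haz]; group
  rw [h7] at h8
  exact hne (mul_left_cancel h8)

/-- end (iii): the squares of `C_L(⟨z, t⟩)` are `1, z` -/
theorem end_sq (_h : Hyp Q L z) {t y r : G} (hne : t ≠ z) (ht1 : t ≠ 1)
    (htt : t * t = 1) (hy : y ∈ L) (hyz : y * z * y⁻¹ = t) (hyt : y * t * y⁻¹ = t * z)
    (hrL : r ∈ L) (hrz : r * z = z * r) (hrt : r * t = t * r) (hrr : r * r = z)
    (hA : ∀ c ∈ L, c * z = z * c → c * t = t * c → c * c = 1 ∨ c * c = z) : False := by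
  obtain ⟨c1, c2⟩ := conj_comm (v := r) hyz hyt htt hrz hrt rfl
  have hL : y * r * y⁻¹ ∈ L := L.mul_mem (L.mul_mem hy hrL) (L.inv_mem hy)
  have e : (y * r * y⁻¹) * (y * r * y⁻¹) = t := by
    calc (y * r * y⁻¹) * (y * r * y⁻¹) = y * (r * r) * y⁻¹ := by group
      _ = t := by rw [hrr, hyz]
  rcases hA _ hL c1 c2 with e1 | e1
  · exact ht1 (e.symm.trans e1)
  · exact hne (e.symm.trans e1)

end Cfsg.Agent.LargeExtra.W2.NonSimple
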