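import Cfsg.Agent.LargeExtra.W2.NSAbelian

/-!
# S1759 [G]: the action of `C_L(z)` on `R / Z(R)`, `R = Q ∩ L`
-/

set_option autoImplicit false

namespace Cfsg.Agent.LargeExtra.W2.NonSimple

open Cfsg.Agent.Co2Type.Quad

universe u

variable {G : Type u} [Group G] {Q L : Subgroup G} {z x y : G}

/-- the centre of `Q ∩ L` -/
def Z0 (Q L : Subgroup G) : Subgroup G := (Q ⊓ L) ⊓ Subgroup.centralizer ((Q ⊓ L : Subgroup G) : Set G)

theorem mem_Z0 {w : G} : w ∈ Z0 Q L ↔ w ∈ Q ∧ w ∈ L ∧ ∀ r ∈ Q, r ∈ L → w * r = r * w := by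
  constructor
  · rintro ⟨⟨h1, h2⟩, h3⟩
    exact ⟨h1, h2, fun r hr hrL => (Subgroup.mem_centralizer_iff.1 h3 r ⟨hr, hrL⟩).symm⟩
  · rintro ⟨h1, h2, h3⟩
    exact ⟨⟨h1, h2⟩, Subgroup.mem_centralizer_iff.2 fun r hr => (h3 r hr.1 hr.2).symm⟩

/-- a noncommuting pair `x, y` in `Q ∩ L`, `Q ≰ L` -/
structure Hyp2 (Q L : Subgroup G) (z x y : G) : Prop extends Hyp Q L z where
  xQ : x ∈ Q
  xL : x ∈ L
  yQ : y ∈ Q
  yL : y ∈ L
  yx : y * x = x * y * z
  nle : ¬ Q ≤ L

theorem Hyp.exists_pair [Finite G] (h : Hyp Q L z) (hle : ¬ Q ≤ L) : ∃ x y, Hyp2 Q L z x y := by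
  by_contra hno
  apply h.not_abelian
  intro r hr hrL s hs hsL
  rcases h.large.comm r hr s hs with e | e
  · exact e
  · exact absurd ⟨s, r, ⟨h, hs, hsL, hr, hrL, e, hle⟩⟩ hno

/-- the class of `r` modulo the centre of `Q ∩ L` -/
noncomputable def cls (x y r : G) : ZMod 2 × ZMod 2 := by
  classical exact (if r * y = y * r then 0 else 1, if r * x = x * r then 0 else 1)

theorem cls_fst (r : G) : (cls x y r).1 = 0 ↔ r * y = y * r := by
  unfold cls
  by_cases h : r * y = y * r <;> simp [h]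

theorem cls_snd (r : G) : (cls x y r).2 = 0 ↔ r * x = x * r := by
  unfold cls
  by_cases h : r * x = x * r <;> simp [h]

theorem zmod_two_eq {a b : ZMod 2} (h : a = 0 ↔ b = 0) : a = b := by
  revert a b
  decide

theorem comm_mul_iff (h : Large Q z) {r s w : G} (hr : r ∈ Q) (hs : s ∈ Q) (hw : w ∈ Q) :
    (r * s) * w = w * (r * s) ↔ (r * w = w * r ↔ s * w = w * s) := by
  rcases h.comm r hr w hw with e1 | e1 <;> rcases h.comm s hs w hw with e2 | e2
  · exact ⟨fun _ => ⟨fun _ => e2, fun _ => e1⟩, fun _ => comm_mul_comm e1 e2⟩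
  · constructor
    · intro h1
      exact absurd (comm_mul_ac e1 e2) (fun h2 => not_ac_of_comm h h1 h2)
    · intro h1
      exact absurd e2 (fun h2 => not_ac_of_comm h (h1.1 e1) h2)
  · constructor
    · intro h1
      exact absurd (ac_mul_comm h hs e1 e2) (fun h2 => not_ac_of_comm h h1 h2)
    · intro h1
      exact absurd e1 (fun h2 => not_ac_of_comm h (h1.2 e2) h2)
  · constructor
    · intro _
      exact ⟨fun h1 => (not_ac_of_comm h h1 e1).elim, fun h1 => (not_ac_of_comm h h1 e2).elim⟩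
    · intro _
      exact ac_mul_ac h hs e1 e2

theorem zmod_add (a b : ZMod 2) : a + b = 0 ↔ (a = 0 ↔ b = 0) := by
  revert a b
  decide

theorem cls_mul (h : Large Q z) (hx : x ∈ Q) (hy : y ∈ Q) {r s : G} (hr : r ∈ Q) (hs : s ∈ Q) :
    cls x y (r * s) = cls x y r + cls x y s := by
  apply Prod.ext
  · apply zmod_two_eq
    rw [cls_fst, Prod.fst_add, zmod_add, cls_fst, cls_fst]
    exact comm_mul_iff h hr hs hy
  · apply zmod_two_eq
    rw [cls_snd, Prod.snd_add, zmod_add, cls_snd, cls_snd]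
    exact comm_mul_iff h hr hs hx

theorem add_self_cls (p : ZMod 2 × ZMod 2) : p + p = 0 := by
  revert p
  decide

theorem cls_inv (h : Large Q z) (hx : x ∈ Q) (hy : y ∈ Q) {r : G} (hr : r ∈ Q) :
    cls x y r⁻¹ = cls x y r := by
  have h1 := cls_mul h hx hy hr (Q.inv_mem hr)
  have h2 : cls x y (1 : G) = 0 := by
    apply Prod.ext
    · exact (cls_fst (1 : G)).2 (by group)
    · exact (cls_snd (1 : G)).2 (by group)
  rw [mul_inv_cancel, h2] at h1
  have h3 : cls x y r + (cls x y r + cls x y r⁻¹) = cls x y r + 0 := by rw [← h1]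
  rw [← add_assoc, add_self_cls, zero_add, add_zero] at h3
  exact h3

namespace Hyp2

theorem cls_x (h : Hyp2 Q L z x y) : cls x y x = (1, 0) := by
  apply Prod.ext
  · show (cls x y x).1 = 1
    have : ¬ (cls x y x).1 = 0 := by
      rw [cls_fst]
      intro e
      exact not_ac_of_comm h.large e.symm h.yx
    have h01 : ∀ a : ZMod 2, a ≠ 0 → a = 1 := by decide
    exact h01 _ this
  · exact (cls_snd x).2 rfl

theorem cls_y (h : Hyp2 Q L z x y) : cls x y y = (0, 1) := by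
  apply Prod.ext
  · exact (cls_fst y).2 rfl
  · show (cls x y y).2 = 1
    have : ¬ (cls x y y).2 = 0 := by
      rw [cls_snd]
      intro e
      exact not_ac_of_comm h.large e h.yx
    have h01 : ∀ a : ZMod 2, a ≠ 0 → a = 1 := by decide
    exact h01 _ this

/-- elements of `Q ∩ L` commuting with `x` and `y` commute -/
theorem comm_of_comm (h : Hyp2 Q L z x y) {w w' : G} (hw : w ∈ Q) (hwL : w ∈ L) (hwx : w * x = x * w)
    (hwy : w * y = y * w) (hw' : w' ∈ Q) (hwL' : w' ∈ L) (hwx' : w' * x = x * w') (hwy' : w' * y = y * w') :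
    w * w' = w' * w := by
  rcases h.large.comm w hw w' hw' with e | e
  · exact e
  · exfalso
    apply h.nle
    rw [closure_eq h.large h.card h.xQ h.yQ hw' hw h.yx e hwx' hwy' hwx hwy, Subgroup.closure_le]
    intro g hg
    simp only [Set.mem_insert_iff, Set.mem_singleton_iff] at hg
    rcases hg with rfl | rfl | rfl | rfl
    · exact h.xL
    · exact h.yL
    · exact hwL'
    · exact hwL

/-- decomposition of the elements of `Q ∩ L` -/
theorem exists_dec0 (h : Hyp2 Q L z x y) {r : G} (hr : r ∈ Q) (hrL : r ∈ L) :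
    ∃ w ∈ Q, w ∈ L ∧ w * x = x * w ∧ w * y = y * w ∧
      ∃ x', (x' = 1 ∨ x' = x) ∧ ∃ y', (y' = 1 ∨ y' = y) ∧ r = w * x' * y' := by
  obtain ⟨w, hw, x', hx', y', hy', e, h1, h2⟩ := exists_proj h.large h.xQ h.yQ h.yx hr
  refine ⟨w, hw, ?_, h1, h2, x', hx', y', hy', e⟩
  have e2 : w = r * y'⁻¹ * x'⁻¹ := by rw [e]; group
  have hx'L : x' ∈ L := by
    rcases hx' with rfl | rfl
    · exact L.one_mem
    · exact h.xL
  have hy'L : y' ∈ L := by
    rcases hy' with rfl | rfl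
    · exact L.one_mem
    · exact h.yL
  rw [e2]
  exact L.mul_mem (L.mul_mem hrL (L.inv_mem hy'L)) (L.inv_mem hx'L)

theorem mem_Z0_of_comm (h : Hyp2 Q L z x y) {w : G} (hw : w ∈ Q) (hwL : w ∈ L) (hwx : w * x = x * w)
    (hwy : w * y = y * w) : w ∈ Z0 Q L := by
  rw [mem_Z0]
  refine ⟨hw, hwL, fun r hr hrL => ?_⟩
  obtain ⟨w', hw', hwL', hwx', hwy', x', hx', y', hy', e⟩ := h.exists_dec0 hr hrL
  have h1 : w * w' = w' * w := h.comm_of_comm hw hwL hwx hwy hw' hwL' hwx' hwy'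
  have h2 : x' * w = w * x' := by
    rcases hx' with rfl | rfl
    · group
    · exact hwx.symm
  have h3 : y' * w = w * y' := by
    rcases hy' with rfl | rfl
    · group
    · exact hwy.symm
  rw [e]
  exact (comm_mul_comm (comm_mul_comm h1.symm h2) h3).symm

theorem mem_Z0_iff (h : Hyp2 Q L z x y) {w : G} (hw : w ∈ Q) (hwL : w ∈ L) :
    w ∈ Z0 Q L ↔ cls x y w = 0 := by
  constructor
  · intro h1
    rw [mem_Z0] at h1
    apply Prod.ext
    · exact (cls_fst w).2 (h1.2.2 y h.yQ h.yL)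
    · exact (cls_snd w).2 (h1.2.2 x h.xQ h.xL)
  · intro h1
    refine h.mem_Z0_of_comm hw hwL ?_ ?_
    · exact (cls_snd w).1 (by rw [h1]; rfl)
    · exact (cls_fst w).1 (by rw [h1]; rfl)

theorem exists_dec (h : Hyp2 Q L z x y) {r : G} (hr : r ∈ Q) (hrL : r ∈ L) :
    ∃ w ∈ Z0 Q L, ∃ x', (x' = 1 ∨ x' = x) ∧ ∃ y', (y' = 1 ∨ y' = y) ∧ r = w * x' * y' := by
  obtain ⟨w', hw', hwL', hwx', hwy', x', hx', y', hy', e⟩ := h.exists_dec0 hr hrL
  exact ⟨w', h.mem_Z0_of_comm hw' hwL' hwx' hwy', x', hx', y', hy', e⟩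

theorem z_mem_Z0 [Finite G] (h : Hyp2 Q L z x y) : z ∈ Z0 Q L := by
  rw [mem_Z0]
  exact ⟨h.large.z_mem, h.toHyp.z_mem, fun r hr _ => (h.large.comm_z r hr).symm⟩

/-- `|Z(Q ∩ L)| ≤ 4` -/
theorem Z0_small (h : Hyp2 Q L z x y) {w w' : G} (hw : w ∈ Z0 Q L) (hw1 : w ≠ 1) (hwz : w ≠ z)
    (hw' : w' ∈ Z0 Q L) : w' = 1 ∨ w' = z ∨ w' = w ∨ w' = w * z := by
  rw [mem_Z0] at hw hw'
  obtain ⟨hwQ, hwL, hwc⟩ := hw
  obtain ⟨hwQ', hwL', hwc'⟩ := hw'
  have hwx := hwc x h.xQ h.xL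
  have hwy := hwc y h.yQ h.yL
  -- `v'` anticommuting with `w`
  have hv : ∃ v ∈ Q, v * w = w * v * z := by
    by_contra hno
    push Not at hno
    rcases h.large.cent w hwQ (fun y hy => by
      rcases h.large.comm y hy w hwQ with e | e
      · exact e.symm
      · exact absurd e (hno y hy)) with e | e
    · exact hw1 e
    · exact hwz e
  obtain ⟨v0, hv0, hv0w⟩ := hv
  obtain ⟨v, hvQ, x', hx', y', hy', e, hvx, hvy⟩ := exists_proj h.large h.xQ h.yQ h.yx hv0
  have hvw : v * w = w * v * z := by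
    rcases h.large.comm v hvQ w hwQ with e1 | e1
    · exfalso
      have h2 : x' * w = w * x' := by
        rcases hx' with rfl | rfl
        · group
        · exact hwx.symm
      have h3 : y' * w = w * y' := by
        rcases hy' with rfl | rfl
        · group
        · exact hwy.symm
      refine not_ac_of_comm h.large ?_ hv0w
      rw [e]
      exact comm_mul_comm (comm_mul_comm e1 h2) h3
    · exact e1
  obtain ⟨x1, hx1, y1, hy1, u1, hu1, v1, hv1, t, ht, e2⟩ :=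
    normal_form h.large h.card h.xQ h.yQ hwQ hvQ h.yx hvw hwx hwy hvx hvy hwQ'
  -- compare the commutators of `w'`
  have hxy : x * y = y * x * z := ac_symm' h.large h.yx
  have hne : ∀ {a b : G}, a * b = b * a * z → a * b = b * a → False :=
    fun h1 h2 => not_ac_of_comm h.large h2 h1
  have htc : ∀ q ∈ Q, t * q = q * t := by
    intro q hq
    rcases ht with rfl | rfl
    · group
    · exact (h.large.comm_z q hq).symm
  have hu1c : ∀ q ∈ Q, q ∈ L → u1 * q = q * u1 := by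
    intro q hq hqL
    rcases hu1 with rfl | rfl
    · group
    · exact hwc q hq hqL
  -- w' commutes with w : v1 = 1
  have hv1' : v1 = 1 := by
    rcases hv1 with e3 | e3
    · exact e3
    · exfalso
      have h3 := hwc' w hwQ hwL
      have h4 : (x1 * y1 * u1 * v1 * t) * w = w * (x1 * y1 * u1 * v1 * t) * z := by
        have hx1w : x1 * w = w * x1 := by
          rcases hx1 with rfl | rfl
          · group
          · exact hwx.symm
        have hy1w : y1 * w = w * y1 := by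
          rcases hy1 with rfl | rfl
          · group
          · exact hwy.symm
        have htQ : t ∈ Q := by
          rcases ht with rfl | rfl
          · exact Q.one_mem
          · exact h.large.z_mem
        refine ac_mul_comm h.large htQ ?_ (htc w hwQ)
        rw [e3]
        exact comm_mul_ac (comm_mul_comm (comm_mul_comm hx1w hy1w) (hu1c w hwQ hwL)) hvw
      rw [← e2] at h4
      exact hne h4 h3
  have htQ : t ∈ Q := by
    rcases ht with rfl | rfl
    · exact Q.one_mem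
    · exact h.large.z_mem
  have hu1Q : u1 ∈ Q := by
    rcases hu1 with rfl | rfl
    · exact Q.one_mem
    · exact hwQ
  have hy1' : y1 = 1 := by
    rcases hy1 with e3 | e3
    · exact e3
    · exfalso
      have h3 := hwc' x h.xQ h.xL
      have hx1x : x1 * x = x * x1 := by
        rcases hx1 with rfl | rfl
        · group
        · rfl
      have h4 : (x1 * y1 * u1 * v1 * t) * x = x * (x1 * y1 * u1 * v1 * t) * z := by
        refine ac_mul_comm h.large htQ ?_ (htc x h.xQ)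
        rw [hv1', mul_one]
        refine ac_mul_comm h.large hu1Q ?_ (hu1c x h.xQ h.xL)
        rw [e3]
        exact comm_mul_ac hx1x h.yx
      rw [← e2] at h4
      exact hne h4 h3
  have hx1' : x1 = 1 := by
    rcases hx1 with e3 | e3
    · exact e3
    · exfalso
      have h3 := hwc' y h.yQ h.yL
      have h4 : (x1 * y1 * u1 * v1 * t) * y = y * (x1 * y1 * u1 * v1 * t) * z := by
        refine ac_mul_comm h.large htQ ?_ (htc y h.yQ)
        rw [hv1', mul_one]
        refine ac_mul_comm h.large hu1Q ?_ (hu1c y h.yQ h.yL)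
        rw [hy1', mul_one, e3]
        exact hxy
      rw [← e2] at h4
      exact hne h4 h3
  rw [e2, hx1', hy1', hv1', one_mul, one_mul, mul_one]
  rcases hu1 with rfl | rfl <;> rcases ht with rfl | rfl
  · exact Or.inl (by group)
  · exact Or.inr (Or.inl (by group))
  · exact Or.inr (Or.inr (Or.inl (by group)))
  · exact Or.inr (Or.inr (Or.inr rfl))

/-- `C_G(z)` normalises `Z(Q ∩ L)` -/
theorem conj_Z0 (h : Hyp2 Q L z x y) {c w : G} (hc : c * z = z * c) (hw : w ∈ Z0 Q L) :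
    c * w * c⁻¹ ∈ Z0 Q L := by
  rw [mem_Z0] at hw ⊢
  obtain ⟨h1, h2, h3⟩ := hw
  refine ⟨h.large.conj_mem c hc w h1, h.toHyp.conj_mem_L c h2, fun r hr hrL => ?_⟩
  have hci : c⁻¹ * z = z * c⁻¹ := by
    calc c⁻¹ * z = c⁻¹ * (z * c) * c⁻¹ := by group
      _ = z * c⁻¹ := by rw [← hc]; group
  have h4 := h3 _ (h.large.conj_mem c⁻¹ hci r hr) (h.toHyp.conj_mem_L c⁻¹ hrL)
  rw [inv_inv] at h4
  calc c * w * c⁻¹ * r = c * (w * (c⁻¹ * r * c)) * c⁻¹ := by group
    _ = r * (c * w * c⁻¹) := by rw [h4]; group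

/-- kernel of the action on `R / Z(R)` -/
def K1 (h : Hyp2 Q L z x y) : Subgroup G where
  carrier := {c | c ∈ L ∧ c * z = z * c ∧ ∀ r ∈ Q, r ∈ L → c * r * c⁻¹ * r⁻¹ ∈ Z0 Q L}
  one_mem' := ⟨L.one_mem, by group, fun r _ _ => by
    have : 1 * r * (1 : G)⁻¹ * r⁻¹ = 1 := by group
    rw [this]; exact Subgroup.one_mem _⟩
  mul_mem' := by
    rintro a b ⟨ha1, ha2, ha3⟩ ⟨hb1, hb2, hb3⟩
    refine ⟨L.mul_mem ha1 hb1, comm_mul_comm ha2 hb2, fun r hr hrL => ?_⟩
    have e : a * b * r * (a * b)⁻¹ * r⁻¹ = (a * (b * r * b⁻¹ * r⁻¹) * a⁻¹) * (a * r * a⁻¹ * r⁻¹) := by group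
    rw [e]
    exact Subgroup.mul_mem _ (h.conj_Z0 ha2 (hb3 r hr hrL)) (ha3 r hr hrL)
  inv_mem' := by
    rintro a ⟨ha1, ha2, ha3⟩
    have ha2' : a⁻¹ * z = z * a⁻¹ := by
      calc a⁻¹ * z = a⁻¹ * (z * a) * a⁻¹ := by group
        _ = z * a⁻¹ := by rw [← ha2]; group
    refine ⟨L.inv_mem ha1, ha2', fun r hr hrL => ?_⟩
    have e : a⁻¹ * r * a⁻¹⁻¹ * r⁻¹ = (a⁻¹ * (a * r * a⁻¹ * r⁻¹) * a⁻¹⁻¹)⁻¹ := by group
    rw [e]
    exact Subgroup.inv_mem _ (h.conj_Z0 ha2' (ha3 r hr hrL))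

theorem K1_le [Finite G] (h : Hyp2 Q L z x y) : h.K1 ≤ Q := by
  apply h.core_le
  · intro n hn; exact hn.2.1
  · intro c hc n hn
    obtain ⟨h1, h2, h3⟩ := hn
    have hci : c⁻¹ * z = z * c⁻¹ := by
      calc c⁻¹ * z = c⁻¹ * (z * c) * c⁻¹ := by group
        _ = z * c⁻¹ := by rw [← hc]; group
    refine ⟨h.toHyp.conj_mem_L c h1, comm_mul_comm (comm_mul_comm hc h2) hci, fun r hr hrL => ?_⟩
    have h4 := h3 _ (h.large.conj_mem c⁻¹ hci r hr) (h.toHyp.conj_mem_L c⁻¹ hrL)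
    have e : c * n * c⁻¹ * r * (c * n * c⁻¹)⁻¹ * r⁻¹ =
        c * (n * (c⁻¹ * r * c⁻¹⁻¹) * n⁻¹ * (c⁻¹ * r * c⁻¹⁻¹)⁻¹) * c⁻¹ := by group
    rw [e]
    exact h.conj_Z0 hc h4
  · rintro n ⟨h1, h2, h3⟩ ho
    -- `n` centralises `Z0`
    have hZ : ∀ w ∈ Z0 Q L, n * w = w * n := by
      intro w hw
      by_cases hw1 : w = 1
      · rw [hw1]; group
      by_cases hwz : w = z
      · rw [hwz]; exact h2
      have hcw := h.conj_Z0 h2 hw
      have hcase : n * w * n⁻¹ = w ∨ n * w * n⁻¹ = w * z := by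
        rcases h.Z0_small hw hw1 hwz hcw with e | e | e | e
        · exfalso; apply hw1
          calc w = n⁻¹ * (n * w * n⁻¹) * n := by group
            _ = 1 := by rw [e]; group
        · exfalso; apply hwz
          calc w = n⁻¹ * (n * w * n⁻¹) * n := by group
            _ = n⁻¹ * (z * n) := by rw [e]; group
            _ = z := by rw [← h2]; group
        · exact Or.inl e
        · exact Or.inr e
      rcases hcase with e | e
      · calc n * w = (n * w * n⁻¹) * n := by group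
          _ = w * n := by rw [e]
      · exfalso
        have hwQ := (mem_Z0.1 hw).1
        have e' : n * w * n⁻¹ = z * w := by rw [e, h.large.comm_z w hwQ]
        have h4 : z ^ 4 = 1 := pow_four h.large h.large.z_mem
        exact h.large.z_ne (chain ho e' h2 h4)
    refine h.toHyp.odd_eq_one h1 h2 ho fun r hr hrL => ?_
    have h4 := h3 r hr hrL
    have h5 := chain (n := n) (q := r) (s := n * r * n⁻¹ * r⁻¹) ho (by group) (hZ _ h4)
      (pow_four h.large (mem_Z0.1 h4).1)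
    calc n * r = (n * r * n⁻¹ * r⁻¹) * (r * n) := by group
      _ = r * n := by rw [h5, one_mul]

/-- the matrix of `c` -/
noncomputable def M (_h : Hyp2 Q L z x y) (c : G) : (ZMod 2 × ZMod 2) × (ZMod 2 × ZMod 2) :=
  (cls x y (c * x * c⁻¹), cls x y (c * y * c⁻¹))

end Hyp2

/-- application of a matrix to a vector -/
def ap (A : (ZMod 2 × ZMod 2) × (ZMod 2 × ZMod 2)) (p : ZMod 2 × ZMod 2) : ZMod 2 × ZMod 2 :=
  (p.1 * A.1.1 + p.2 * A.2.1, p.1 * A.1.2 + p.2 * A.2.2)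

/-- product of matrices -/
def mm (A B : (ZMod 2 × ZMod 2) × (ZMod 2 × ZMod 2)) : (ZMod 2 × ZMod 2) × (ZMod 2 × ZMod 2) :=
  (ap A B.1, ap A B.2)

/-- identity matrix -/
def I2 : (ZMod 2 × ZMod 2) × (ZMod 2 × ZMod 2) := ((1, 0), (0, 1))

namespace Hyp2

theorem cls_conj (h : Hyp2 Q L z x y) {c r : G} (hcz : c * z = z * c) (hr : r ∈ Q)
    (hrL : r ∈ L) : cls x y (c * r * c⁻¹) = ap (h.M c) (cls x y r) := by
  obtain ⟨w, hw, x', hx', y', hy', rfl⟩ := h.exists_dec hr hrL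
  have hwQ := (mem_Z0.1 hw).1
  have hcw := h.conj_Z0 hcz hw
  have hxQ' : x' ∈ Q := by
    rcases hx' with rfl | rfl
    · exact Q.one_mem
    · exact h.xQ
  have hyQ' : y' ∈ Q := by
    rcases hy' with rfl | rfl
    · exact Q.one_mem
    · exact h.yQ
  have e : c * (w * x' * y') * c⁻¹ = (c * w * c⁻¹) * (c * x' * c⁻¹) * (c * y' * c⁻¹) := by group
  have hm : ∀ {g}, g ∈ Q → c * g * c⁻¹ ∈ Q := fun hg => h.large.conj_mem c hcz _ hg
  rw [e, cls_mul h.large h.xQ h.yQ (Q.mul_mem (hm hwQ) (hm hxQ')) (hm hyQ'),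
    cls_mul h.large h.xQ h.yQ (hm hwQ) (hm hxQ'),
    cls_mul h.large h.xQ h.yQ (Q.mul_mem hwQ hxQ') hyQ', cls_mul h.large h.xQ h.yQ hwQ hxQ',
    (h.mem_Z0_iff hwQ (mem_Z0.1 hw).2.1).1 hw,
    (h.mem_Z0_iff (mem_Z0.1 hcw).1 (mem_Z0.1 hcw).2.1).1 hcw, zero_add, zero_add]
  have h1 : cls x y (1 : G) = 0 := by
    apply Prod.ext
    · exact (cls_fst (1 : G)).2 (by group)
    · exact (cls_snd (1 : G)).2 (by group)
  have h1' : cls x y (c * 1 * c⁻¹) = 0 := by
    have : c * 1 * c⁻¹ = 1 := by group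
    rw [this, h1]
  have hX : cls x y (c * x * c⁻¹) = (h.M c).1 := rfl
  have hY : cls x y (c * y * c⁻¹) = (h.M c).2 := rfl
  generalize h.M c = A at hX hY
  rcases hx' with rfl | rfl <;> rcases hy' with rfl | rfl
  · rw [h1', h1]; simp [ap]; rfl
  · rw [h1', h1, hY, h.cls_y]; simp [ap]
  · rw [h1', h1, hX, h.cls_x]; simp [ap]
  · rw [hX, hY, h.cls_x, h.cls_y]; simp [ap, Prod.ext_iff]

theorem M_mul (h : Hyp2 Q L z x y) {c d : G} (hc : c * z = z * c) (hd : d * z = z * d) :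
    h.M (c * d) = mm (h.M c) (h.M d) := by
  have e1 : c * d * x * (c * d)⁻¹ = c * (d * x * d⁻¹) * c⁻¹ := by group
  have e2 : c * d * y * (c * d)⁻¹ = c * (d * y * d⁻¹) * c⁻¹ := by group
  apply Prod.ext
  · show cls x y (c * d * x * (c * d)⁻¹) = ap (h.M c) (cls x y (d * x * d⁻¹))
    rw [e1, h.cls_conj hc (h.large.conj_mem d hd x h.xQ) (h.toHyp.conj_mem_L d h.xL)]
  · show cls x y (c * d * y * (c * d)⁻¹) = ap (h.M c) (cls x y (d * y * d⁻¹))
    rw [e2, h.cls_conj hc (h.large.conj_mem d hd y h.yQ) (h.toHyp.conj_mem_L d h.yL)]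

theorem M_one (h : Hyp2 Q L z x y) : h.M 1 = I2 := by
  have e1 : 1 * x * (1 : G)⁻¹ = x := by group
  have e2 : 1 * y * (1 : G)⁻¹ = y := by group
  unfold M I2
  rw [e1, e2, h.cls_x, h.cls_y]

theorem M_of_mem (h : Hyp2 Q L z x y) {c : G} (hc : c ∈ Q) : h.M c = I2 := by
  have e1 : cls x y (c * x * c⁻¹) = cls x y x := by
    rw [cls_mul h.large h.xQ h.yQ (Q.mul_mem hc h.xQ) (Q.inv_mem hc), cls_mul h.large h.xQ h.yQ hc h.xQ,
      cls_inv h.large h.xQ h.yQ hc, add_comm (cls x y c), add_assoc, add_self_cls, add_zero]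
  have e2 : cls x y (c * y * c⁻¹) = cls x y y := by
    rw [cls_mul h.large h.xQ h.yQ (Q.mul_mem hc h.yQ) (Q.inv_mem hc), cls_mul h.large h.xQ h.yQ hc h.yQ,
      cls_inv h.large h.xQ h.yQ hc, add_comm (cls x y c), add_assoc, add_self_cls, add_zero]
  unfold M I2
  rw [e1, e2, h.cls_x, h.cls_y]

/-- faithfulness -/
theorem mem_of_M [Finite G] (h : Hyp2 Q L z x y) {c : G} (hcL : c ∈ L) (hc : c * z = z * c)
    (hM : h.M c = I2) : c ∈ Q := by
  refine h.K1_le ⟨hcL, hc, fun r hr hrL => ?_⟩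
  rw [h.mem_Z0_iff (h.toHyp.comm_mem_Q hc hr) (h.toHyp.comm_mem_L hcL r),
    cls_mul h.large h.xQ h.yQ (h.large.conj_mem c hc r hr) (Q.inv_mem hr),
    h.cls_conj hc hr hrL, cls_inv h.large h.xQ h.yQ hr, hM]
  generalize cls x y r = p
  revert p
  decide

end Hyp2

end Cfsg.Agent.LargeExtra.W2.NonSimple
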