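import Cfsg.Agent.LargeExtra.W2.NSEnd

/-!
# S1759 [G]: `Z(Q ∩ L)` is not elementary abelian
-/

set_option autoImplicit false

namespace Cfsg.Agent.LargeExtra.W2.NonSimple

open Cfsg.Agent.Co2Type.Quad

universe u

variable {G : Type u} [Group G] {Q L : Subgroup G} {z x y : G}

/-! ### facts about `GL₂(2)` -/

set_option synthInstance.maxHeartbeats 400000 in
set_option synthInstance.maxSize 1024 in
theorem m_comm : ∀ T C D : (ZMod 2 × ZMod 2) × (ZMod 2 × ZMod 2), mm C D = I2 → mm T T = I2 → T ≠ I2 →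
    mm C T = mm T C → C = I2 ∨ mm C T = I2 := by decide +kernel

set_option synthInstance.maxHeartbeats 400000 in
set_option synthInstance.maxSize 1024 in
theorem m_vec : ∀ T : (ZMod 2 × ZMod 2) × (ZMod 2 × ZMod 2), mm T T = I2 → T ≠ I2 →
    ∃ p q : ZMod 2 × ZMod 2, ap T p = p ∧ ap T q = p + q ∧ p.1 * q.2 + p.2 * q.1 = 1 ∧
      ∀ r, ap T r = r → r = 0 ∨ r = p := by decide +kernel

set_option synthInstance.maxHeartbeats 4000000 in
set_option synthInstance.maxSize 40000 in
theorem m_com3 : ∀ A B C : (ZMod 2 × ZMod 2) × (ZMod 2 × ZMod 2), mm C C = I2 → mm C A = mm A C →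
    mm C B = mm B C → mm B A = mm (mm A B) C → (mm A A = I2 ∨ mm A A = C) → (mm B B = I2 ∨ mm B B = C) →
    A = I2 ∨ B = I2 ∨ mm A B = I2 := by decide +kernel

theorem m_fix : ∀ (A D : (ZMod 2 × ZMod 2) × (ZMod 2 × ZMod 2)) (p : ZMod 2 × ZMod 2), mm A D = I2 → p ≠ 0 →
    ap A p = p → mm A A = I2 := by decide +kernel

theorem v_det : ∀ p q : ZMod 2 × ZMod 2, q ≠ 0 → p.1 * q.2 + p.2 * q.1 = 0 → p = 0 ∨ p = q := by decide

theorem v_three : ∀ p q r : ZMod 2 × ZMod 2, p ≠ 0 → q ≠ 0 → p ≠ q → r ≠ 0 → r = p ∨ r = q ∨ r = p + q := by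
  decide

theorem v_rep : ∀ p : ZMod 2 × ZMod 2, p = 0 ∨ p = (1, 0) ∨ p = (0, 1) ∨ p = (1, 0) + (0, 1) := by decide

/-! ### the commutator pairing -/

/-- `0` if `r` and `s` commute -/
noncomputable def cf (s r : G) : ZMod 2 := by classical exact if r * s = s * r then 0 else 1

theorem cf_eq_zero (s r : G) : cf s r = 0 ↔ r * s = s * r := by
  unfold cf
  by_cases h : r * s = s * r <;> simp [h]

theorem cf_symm (s r : G) : cf s r = cf r s := by
  apply zmod_two_eq
  rw [cf_eq_zero, cf_eq_zero]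
  exact eq_comm

theorem cf_mul (h : Large Q z) {r s w : G} (hr : r ∈ Q) (hs : s ∈ Q) (hw : w ∈ Q) :
    cf w (r * s) = cf w r + cf w s := by
  apply zmod_two_eq
  rw [cf_eq_zero, zmod_add, cf_eq_zero, cf_eq_zero]
  exact comm_mul_iff h hr hs hw

theorem cls_eq (r : G) : cls x y r = (cf y r, cf x r) := by
  apply Prod.ext
  · apply zmod_two_eq
    rw [cls_fst, cf_eq_zero]
  · apply zmod_two_eq
    rw [cls_snd, cf_eq_zero]

namespace Hyp2

theorem det (h : Hyp2 Q L z x y) {r s : G} (hr : r ∈ Q) (hrL : r ∈ L) (hs : s ∈ Q) (hsL : s ∈ L) :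
    cf s r = (cls x y r).1 * (cls x y s).2 + (cls x y r).2 * (cls x y s).1 := by
  obtain ⟨w, hw, x', hx', y', hy', rfl⟩ := h.exists_dec hr hrL
  have hwQ := (mem_Z0.1 hw).1
  have hws : cf s w = 0 := (cf_eq_zero _ _).2 ((mem_Z0.1 hw).2.2 s hs hsL)
  have hxQ' : x' ∈ Q := by
    rcases hx' with rfl | rfl
    · exact Q.one_mem
    · exact h.xQ
  have hyQ' : y' ∈ Q := by
    rcases hy' with rfl | rfl
    · exact Q.one_mem
    · exact h.yQ
  have h1 : cls x y (1 : G) = 0 := by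
    apply Prod.ext
    · exact (cls_fst (1 : G)).2 (by group)
    · exact (cls_snd (1 : G)).2 (by group)
  have h1' : cf s (1 : G) = 0 := (cf_eq_zero _ _).2 (by group)
  have hX : cf s x = (cls x y s).2 := by rw [cf_symm, cls_eq]
  have hY : cf s y = (cls x y s).1 := by rw [cf_symm, cls_eq]
  rw [cf_mul h.large (Q.mul_mem hwQ hxQ') hyQ' hs, cf_mul h.large hwQ hxQ' hs, hws, zero_add,
    cls_mul h.large h.xQ h.yQ (Q.mul_mem hwQ hxQ') hyQ', cls_mul h.large h.xQ h.yQ hwQ hxQ',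
    (h.mem_Z0_iff hwQ (mem_Z0.1 hw).2.1).1 hw, zero_add]
  rcases hx' with rfl | rfl <;> rcases hy' with rfl | rfl
  · rw [h1, h1']; simp
  · rw [h1, h1', hY, h.cls_y]; simp
  · rw [h1, h1', hX, h.cls_x]; simp
  · rw [hX, hY, h.cls_x, h.cls_y]; simp

/-- representatives -/
theorem exists_rep (h : Hyp2 Q L z x y) (p : ZMod 2 × ZMod 2) : ∃ r ∈ Q, r ∈ L ∧ cls x y r = p := by
  rcases v_rep p with e | e | e | e
  · exact ⟨1, Q.one_mem, L.one_mem, by
      rw [e]
      apply Prod.ext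
      · exact (cls_fst (1 : G)).2 (by group)
      · exact (cls_snd (1 : G)).2 (by group)⟩
  · exact ⟨x, h.xQ, h.xL, by rw [e, h.cls_x]⟩
  · exact ⟨y, h.yQ, h.yL, by rw [e, h.cls_y]⟩
  · exact ⟨x * y, Q.mul_mem h.xQ h.yQ, L.mul_mem h.xL h.yL, by
      rw [e, cls_mul h.large h.xQ h.yQ h.xQ h.yQ, h.cls_x, h.cls_y]⟩

/-- invertibility of `M c` -/
theorem M_inv (h : Hyp2 Q L z x y) {c : G} (hc : c * z = z * c) : mm (h.M c) (h.M c⁻¹) = I2 := by
  rw [← h.M_mul hc (comm_inv_left hc), mul_inv_cancel, h.M_one]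

/-- squares are constant on classes -/
theorem sq_eq (h : Hyp2 Q L z x y) (hZ : ∀ w ∈ Z0 Q L, w * w = 1) {r s : G} (hr : r ∈ Q) (hrL : r ∈ L)
    (hs : s ∈ Q) (hsL : s ∈ L) (hrs : cls x y r = cls x y s) : r * r = s * s := by
  have hw : r * s⁻¹ ∈ Z0 Q L := by
    rw [h.mem_Z0_iff (Q.mul_mem hr (Q.inv_mem hs)) (L.mul_mem hrL (L.inv_mem hsL)),
      cls_mul h.large h.xQ h.yQ hr (Q.inv_mem hs), cls_inv h.large h.xQ h.yQ hs, hrs, add_self_cls]
  have h1 := hZ _ hw
  have h2 := (mem_Z0.1 hw).2.2 s hs hsL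
  calc r * r = (r * s⁻¹) * (s * (r * s⁻¹)) * s := by group
    _ = (r * s⁻¹) * ((r * s⁻¹) * s) * s := by rw [h2]
    _ = ((r * s⁻¹) * (r * s⁻¹)) * (s * s) := by group
    _ = s * s := by rw [h1, one_mul]

/-- if `R ∖ Z(R)` contains an involution then `C_L(z) = R` -/
theorem cent_le_of_plus [Finite G] (h : Hyp2 Q L z x y) (hZ : ∀ w ∈ Z0 Q L, w * w = 1)
    (hp : ∃ m ∈ Q, m ∈ L ∧ m ∉ Z0 Q L ∧ m * m = 1) {c : G} (hcL : c ∈ L) (hcz : c * z = z * c) : c ∈ Q := by
  obtain ⟨m, hm, hmL, hmZ, hmm⟩ := hp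
  -- `s` with `s m = m s z`
  have hs : ∃ s ∈ Q, s ∈ L ∧ s * m = m * s * z := by
    by_contra hno
    push Not at hno
    apply hmZ
    have key : ∀ s ∈ Q, s ∈ L → s * m = m * s := by
      intro s hs hsL
      rcases h.large.comm s hs m hm with e | e
      · exact e
      · exact absurd e (hno s hs hsL)
    exact mem_Z0.2 ⟨hm, hmL, fun r hr hrL => (key r hr hrL).symm⟩
  obtain ⟨s, hs, hsL, hsm⟩ := hs
  have hsz := h.large.comm_z s hs
  have hmz := h.large.comm_z m hm
  have hsmsm : (s * m) * (s * m) = s * s * z := by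
    calc (s * m) * (s * m) = s * (m * s) * m := by group
      _ = s * (m * s * z) * z * m := by
          have : s * (m * s * z) * z * m = s * (m * s) * (z * z) * m := by group
          rw [this, h.large.z_sq, mul_one]
      _ = s * (s * m) * (z * m) := by rw [← hsm]; group
      _ = s * s * (m * m) * z := by rw [← hmz]; group
      _ = s * s * z := by rw [hmm, mul_one]
  -- `n` with `n n = z`
  have hclsm : cls x y m ≠ 0 := fun e => hmZ ((h.mem_Z0_iff hm hmL).2 e)
  have hclss : cls x y s ≠ 0 := by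
    intro e
    have h1 := (h.mem_Z0_iff hs hsL).2 e
    exact not_ac_of_comm h.large ((mem_Z0.1 h1).2.2 m hm hmL) hsm
  have hclssm : cls x y (s * m) = cls x y s + cls x y m := cls_mul h.large h.xQ h.yQ hs hm
  have hne : cls x y s ≠ cls x y m := by
    intro e
    have h1 : cls x y (s * m) = 0 := by rw [hclssm, e, add_self_cls]
    have h2 := (h.mem_Z0_iff (Q.mul_mem hs hm) (L.mul_mem hsL hmL)).2 h1
    have h3 := (mem_Z0.1 h2).2.2 m hm hmL
    refine not_ac_of_comm h.large ?_ hsm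
    calc s * m = (s * m) * m * m⁻¹ := by group
      _ = m * s := by rw [h3]; group
  have hn : ∃ n ∈ Q, n ∈ L ∧ cls x y n ≠ 0 ∧ n * n = z ∧ ∀ r ∈ Q, r ∈ L → cls x y r ≠ 0 → r * r = z →
      cls x y r = cls x y n := by
    have hz1 : ∀ {r : G}, r * r = z → r * r = 1 → False := fun h1 h2 => h.large.z_ne (h1.symm.trans h2)
    rcases h.large.sq s hs with e | e
    · refine ⟨s * m, Q.mul_mem hs hm, L.mul_mem hsL hmL, ?_, by rw [hsmsm, e, one_mul], ?_⟩
      · rw [hclssm]
        intro e'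
        apply hne
        have : cls x y s + (cls x y m + cls x y m) = 0 + cls x y m := by rw [← add_assoc, e']
        rwa [add_self_cls, add_zero, zero_add] at this
      · intro r hr hrL hr0 hrr
        rcases v_three _ _ (cls x y r) hclss hclsm hne hr0 with e1 | e1 | e1
        · exfalso
          exact hz1 hrr ((h.sq_eq hZ hr hrL hs hsL e1).trans e)
        · exfalso
          exact hz1 hrr ((h.sq_eq hZ hr hrL hm hmL e1).trans hmm)
        · rw [e1, hclssm]
    · refine ⟨s, hs, hsL, hclss, e, ?_⟩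
      intro r hr hrL hr0 hrr
      rcases v_three _ _ (cls x y r) hclss hclsm hne hr0 with e1 | e1 | e1
      · exact e1
      · exfalso
        exact hz1 hrr ((h.sq_eq hZ hr hrL hm hmL e1).trans hmm)
      · exfalso
        rw [← hclssm] at e1
        refine hz1 hrr ((h.sq_eq hZ hr hrL (Q.mul_mem hs hm) (L.mul_mem hsL hmL) e1).trans ?_)
        rw [hsmsm, e, h.large.z_sq]
  obtain ⟨n, hn, hnL, hn0, hnn, hnu⟩ := hn
  -- every element of `C_L(z)` has its square in `Q`
  have hsq : ∀ c ∈ L, c * z = z * c → c * c ∈ Q := by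
    intro c hcL hcz
    have hcn := h.large.conj_mem c hcz n hn
    have hcnL := h.toHyp.conj_mem_L c hnL
    have hsq : (c * n * c⁻¹) * (c * n * c⁻¹) = z := by
      calc (c * n * c⁻¹) * (c * n * c⁻¹) = c * (n * n) * c⁻¹ := by group
        _ = z := by rw [hnn, hcz]; group
    have hne0 : cls x y (c * n * c⁻¹) ≠ 0 := by
      intro e
      have h1 := (h.mem_Z0_iff hcn hcnL).2 e
      exact h.large.z_ne (hsq.symm.trans (hZ _ h1))
    have h1 := hnu _ hcn hcnL hne0 hsq
    rw [h.cls_conj hcz hn hnL] at h1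
    have h2 := m_fix _ _ _ (h.M_inv hcz) hn0 h1
    rw [← h.M_mul hcz hcz] at h2
    exact h.mem_of_M (L.mul_mem hcL hcL) (comm_mul_comm hcz hcz) h2
  have hle : L ⊓ Subgroup.centralizer {z} ≤ Q := by
    apply h.core_le
    · intro n hn
      exact Subgroup.mem_centralizer_singleton_iff.1 hn.2
    · intro c hc n hn
      refine ⟨h.toHyp.conj_mem_L c hn.1, ?_⟩
      have hnz := Subgroup.mem_centralizer_singleton_iff.1 hn.2
      apply Subgroup.mem_centralizer_singleton_iff.2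
      exact comm_mul_comm (comm_mul_comm hc hnz) (comm_inv_left hc)
    · intro n hn ho
      have hnz := Subgroup.mem_centralizer_singleton_iff.1 hn.2
      have h1 := hsq n hn.1 hnz
      have ho2 : Odd (orderOf (n * n)) := by
        have : orderOf (n * n) ∣ orderOf n := by
          rw [← pow_two]; exact orderOf_pow_dvd 2
        exact ho.of_dvd_nat this
      have h2 := eq_one_of_odd h.large h1 ho2
      have h3 : orderOf n ∣ 2 := orderOf_dvd_of_pow_eq_one (by rw [pow_two, h2])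
      rw [← orderOf_eq_one_iff]
      rcases (Nat.dvd_prime Nat.prime_two).1 h3 with e | e
      · exact e
      · rw [e] at ho
        exact absurd ho (by decide)
  exact hle ⟨hcL, Subgroup.mem_centralizer_singleton_iff.2 hcz⟩

end Hyp2

end Cfsg.Agent.LargeExtra.W2.NonSimple
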