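import Cfsg.Agent.LargeExtra.W2.NSMain

/-!
# S1759 [G]: the cases `R` of plus and of minus type, `Z(R)` elementary abelian
-/

set_option autoImplicit false

namespace Cfsg.Agent.LargeExtra.W2.NonSimple

open Cfsg.Agent.Co2Type.Quad

universe u

variable {G : Type u} [Group G] {Q L : Subgroup G} {z x y : G}

theorem conj_sq {g : G} (hzz : z * z = 1) : g * z * g⁻¹ * (g * z * g⁻¹) = 1 := by
  calc g * z * g⁻¹ * (g * z * g⁻¹) = g * (z * z) * g⁻¹ := by group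
    _ = 1 := by rw [hzz]; group

theorem conj_ne_one {g : G} (hz : z ≠ 1) : g * z * g⁻¹ ≠ 1 := by
  intro e
  apply hz
  calc z = g⁻¹ * (g * z * g⁻¹) * g := by group
    _ = 1 := by rw [e]; group

theorem conj_ne {g : G} (hne : g * z * g⁻¹ ≠ z) : g⁻¹ * z * g ≠ z := by
  intro e
  apply hne
  calc g * z * g⁻¹ = g * (g⁻¹ * z * g) * g⁻¹ := by rw [e]
    _ = z := by group

namespace Hyp2

/-- a noncommuting pair for an element of `R ∖ Z(R)` -/
theorem exists_ac (h : Hyp2 Q L z x y) {t : G} (ht : t ∈ Q) (htL : t ∈ L) (htZ : t ∉ Z0 Q L) :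
    ∃ s ∈ Q, s ∈ L ∧ s * t = t * s * z := by
  by_contra hno
  push Not at hno
  apply htZ
  have key : ∀ s ∈ Q, s ∈ L → s * t = t * s := by
    intro s hs hsL
    rcases h.large.comm s hs t ht with e | e
    · exact e
    · exact absurd e (hno s hs hsL)
  exact mem_Z0.2 ⟨ht, htL, fun r hr hrL => (key r hr hrL).symm⟩

/-- plus type -/
theorem plus_false [Finite G] (h : Hyp2 Q L z x y) (hZ : ∀ w ∈ Z0 Q L, w * w = 1)
    (hp : ∃ m ∈ Q, m ∈ L ∧ m ∉ Z0 Q L ∧ m * m = 1) : False := by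
  have hCL : ∀ c ∈ L, c * z = z * c → c ∈ Q := fun c hc hcz => h.cent_le_of_plus hZ hp hc hcz
  have hzz := h.large.z_sq
  have hzL := h.toHyp.z_mem
  have hzQ := h.large.z_mem
  -- conjugates of `z` are not in `Z(R)`
  have hnZ : ∀ g ∈ L, g * z * g⁻¹ ≠ z → g * z * g⁻¹ * z = z * (g * z * g⁻¹) →
      g * z * g⁻¹ ∈ Q ∧ g * z * g⁻¹ ∈ L ∧ g * z * g⁻¹ ∉ Z0 Q L := by
    intro g hg hne hc
    have hL : g * z * g⁻¹ ∈ L := L.mul_mem (L.mul_mem hg hzL) (L.inv_mem hg)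
    refine ⟨hCL _ hL hc, hL, fun hm => ?_⟩
    have hm' := (mem_Z0.1 hm).2.2
    have key : ∀ r ∈ Q, r ∈ L → g⁻¹ * r * g ∈ Q := by
      intro r hr hrL
      apply hCL
      · have := h.toHyp.conj_mem_L g⁻¹ hrL
        rwa [inv_inv] at this
      · have h1 := hm' r hr hrL
        calc g⁻¹ * r * g * z = g⁻¹ * (r * (g * z * g⁻¹)) * g := by group
          _ = g⁻¹ * ((g * z * g⁻¹) * r) * g := by rw [h1]
          _ = z * (g⁻¹ * r * g) := by group
    have hx1 := key x h.xQ h.xL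
    have hy1 := key y h.yQ h.yL
    have e1 : (g⁻¹ * y * g) * (g⁻¹ * x * g) = (g⁻¹ * x * g) * (g⁻¹ * y * g) * (g⁻¹ * z * g) := by
      calc (g⁻¹ * y * g) * (g⁻¹ * x * g) = g⁻¹ * (y * x) * g := by group
        _ = _ := by rw [h.yx]; group
    rcases h.large.comm _ hy1 _ hx1 with e | e
    · rw [e] at e1
      have h2 := mul_eq_left.1 e1.symm
      apply h.large.z_ne
      calc z = g * (g⁻¹ * z * g) * g⁻¹ := by group
        _ = 1 := by rw [h2]; group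
    · rw [e] at e1
      exact conj_ne hne (mul_left_cancel e1).symm
  have hSW : ∀ g ∈ L, g * z * g⁻¹ ≠ z → g * z * g⁻¹ * z = z * (g * z * g⁻¹) →
      ∃ a ∈ L, a * z = z * a ∧ a * (g * z * g⁻¹) * a⁻¹ = g * z * g⁻¹ * z := by
    intro g hg hne hc
    obtain ⟨h1, h2, h3⟩ := hnZ g hg hne hc
    obtain ⟨s, hs, hsL, hst⟩ := h.exists_ac h1 h2 h3
    exact ⟨s, hsL, h.large.comm_z s hs, conj_eq_of_ac h.large hs hst⟩
  obtain ⟨g, hg, hne, hc⟩ := h.toHyp.exists_t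
  obtain ⟨y', hy', hyz, hyt⟩ := exists_cycle hzz hSW hg hne hc
  obtain ⟨htQ, htL, htZ⟩ := hnZ g hg hne hc
  have htt : g * z * g⁻¹ * (g * z * g⁻¹) = 1 := conj_sq hzz
  have ht1 : g * z * g⁻¹ ≠ 1 := conj_ne_one h.large.z_ne
  generalize g * z * g⁻¹ = t at *
  obtain ⟨a, ha, haL, hat⟩ := h.exists_ac htQ htL htZ
  -- the elements of `C_L(⟨z, t⟩)`
  have hA : ∀ c ∈ L, c * z = z * c → c * t = t * c → c ∈ Z0 Q L ∨ c * t ∈ Z0 Q L := by
    intro c hcL hcz hct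
    have hcQ := hCL c hcL hcz
    have h1 := h.det hcQ hcL htQ htL
    rw [(cf_eq_zero t c).2 hct] at h1
    have h2 : cls x y t ≠ 0 := fun e => htZ ((h.mem_Z0_iff htQ htL).2 e)
    rcases v_det _ _ h2 h1.symm with e | e
    · exact Or.inl ((h.mem_Z0_iff hcQ hcL).2 e)
    · right
      rw [h.mem_Z0_iff (Q.mul_mem hcQ htQ) (L.mul_mem hcL htL), cls_mul h.large h.xQ h.yQ hcQ htQ, e,
        add_self_cls]
  have hct' : ∀ {c w : G}, c * t = w → c = w * t := by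
    intro c w e
    rw [← e, mul_assoc, htt, mul_one]
  by_cases hex : ∃ e ∈ Z0 Q L, e ≠ 1 ∧ e ≠ z
  · obtain ⟨e, heZ, he1, hez⟩ := hex
    obtain ⟨heQ, heL, hec⟩ := mem_Z0.1 heZ
    have he2 : e ≠ t := fun h' => htZ (h' ▸ heZ)
    have he3 : e ≠ t * z := by
      intro h'
      apply htZ
      have : t = e * z := by rw [h', mul_assoc, hzz, mul_one]
      rw [this]
      exact Subgroup.mul_mem _ heZ h.z_mem_Z0
    obtain ⟨v, hv, hvt, hve⟩ := exists_comm_ac h.large htQ heQ he1 hez he2 he3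
    refine end_eight h.toHyp (t := t) (y := y') (e := e) (v := v) hne htt hc hy' hyz hyt heL
      (h.large.comm_z e heQ) (hec t htQ htL) ?_ (h.large.comm_z v hv) hvt (conj_eq_of_ac h.large hv hve)
    intro c hcL hcz hct
    have hets : e * t = t * e := hec t htQ htL
    have hez' : e * z = z * e := h.large.comm_z e heQ
    rcases hA c hcL hcz hct with e1 | e1
    · rcases h.Z0_small heZ he1 hez e1 with e2 | e2 | e2 | e2
      · exact ⟨1, Or.inl rfl, Or.inl e2⟩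
      · exact ⟨z, Or.inr (Or.inl rfl), Or.inl e2⟩
      · exact ⟨1, Or.inl rfl, Or.inr (by rw [e2, mul_one])⟩
      · exact ⟨z, Or.inr (Or.inl rfl), Or.inr e2⟩
    · rcases h.Z0_small heZ he1 hez e1 with e2 | e2 | e2 | e2
      · exact ⟨t, Or.inr (Or.inr (Or.inl rfl)), Or.inl (by rw [hct' e2, one_mul])⟩
      · exact ⟨t * z, Or.inr (Or.inr (Or.inr rfl)), Or.inl (by rw [hct' e2, hc])⟩
      · exact ⟨t, Or.inr (Or.inr (Or.inl rfl)), Or.inr (hct' e2)⟩
      · exact ⟨t * z, Or.inr (Or.inr (Or.inr rfl)), Or.inr (by rw [hct' e2, mul_assoc, hc])⟩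
  · push Not at hex
    have hZs : ∀ w ∈ Z0 Q L, w = 1 ∨ w = z := by
      intro w hw
      by_cases h1 : w = 1
      · exact Or.inl h1
      · exact Or.inr (hex w hw h1)
    obtain ⟨k, hk, k', hk', hkk, hkt, -, hkt', -⟩ := exists_second h.large h.card htQ ha hat
    refine end_four h.toHyp (t := t) (y := y') (k := k) (k' := k') hne htt hy' hyz hyt ?_
      (h.large.comm_z k hk) (h.large.comm_z k' hk') hkt hkt' hkk
    intro c hcL hcz hct
    rcases hA c hcL hcz hct with e1 | e1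
    · rcases hZs _ e1 with e2 | e2
      · exact Or.inl e2
      · exact Or.inr (Or.inl e2)
    · rcases hZs _ e1 with e2 | e2
      · exact Or.inr (Or.inr (Or.inl (by rw [hct' e2, one_mul])))
      · exact Or.inr (Or.inr (Or.inr (by rw [hct' e2, hc])))

/-- if a conjugate of `z` is in `Z(R)` then `R ∖ Z(R)` contains an involution -/
theorem plus_of_central [Finite G] (h : Hyp2 Q L z x y) {g : G} (hne : g * z * g⁻¹ ≠ z)
    (hm : g * z * g⁻¹ ∈ Z0 Q L) : ∃ m ∈ Q, m ∈ L ∧ m ∉ Z0 Q L ∧ m * m = 1 := by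
  have hzz := h.large.z_sq
  obtain ⟨-, -, hm'⟩ := mem_Z0.1 hm
  have hzL := h.toHyp.z_mem
  have key : ∀ r ∈ Q, r ∈ L → g⁻¹ * r * g * z = z * (g⁻¹ * r * g) := by
    intro r hr hrL
    have h1 := hm' r hr hrL
    calc g⁻¹ * r * g * z = g⁻¹ * (r * (g * z * g⁻¹)) * g := by group
      _ = g⁻¹ * ((g * z * g⁻¹) * r) * g := by rw [h1]
      _ = z * (g⁻¹ * r * g) := by group
  have hL : ∀ r ∈ L, g⁻¹ * r * g ∈ L := by
    intro r hrL
    have := h.toHyp.conj_mem_L g⁻¹ hrL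
    rwa [inv_inv] at this
  have hxz := key x h.xQ h.xL
  have hyz := key y h.yQ h.yL
  have hzz' := key z h.large.z_mem hzL
  have hsq : ∀ r ∈ Q, (g⁻¹ * r * g) * (g⁻¹ * r * g) = 1 ∨ (g⁻¹ * r * g) * (g⁻¹ * r * g) = g⁻¹ * z * g := by
    intro r hr
    rcases h.large.sq r hr with e | e
    · left
      calc (g⁻¹ * r * g) * (g⁻¹ * r * g) = g⁻¹ * (r * r) * g := by group
        _ = 1 := by rw [e]; group
    · right
      calc (g⁻¹ * r * g) * (g⁻¹ * r * g) = g⁻¹ * (r * r) * g := by group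
        _ = g⁻¹ * z * g := by rw [e]
  have hMsq : ∀ r ∈ Q, r ∈ L → mm (h.M (g⁻¹ * r * g)) (h.M (g⁻¹ * r * g)) = I2 ∨
      mm (h.M (g⁻¹ * r * g)) (h.M (g⁻¹ * r * g)) = h.M (g⁻¹ * z * g) := by
    intro r hr hrL
    rw [← h.M_mul (key r hr hrL) (key r hr hrL)]
    rcases hsq r hr with e | e
    · left; rw [e, h.M_one]
    · right; rw [e]
  have hzzz : (g⁻¹ * z * g) * (g⁻¹ * z * g) = 1 := by
    calc (g⁻¹ * z * g) * (g⁻¹ * z * g) = g⁻¹ * (z * z) * g := by group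
      _ = 1 := by rw [hzz]; group
  have hcomz : ∀ r ∈ Q, (g⁻¹ * z * g) * (g⁻¹ * r * g) = (g⁻¹ * r * g) * (g⁻¹ * z * g) := by
    intro r hr
    calc (g⁻¹ * z * g) * (g⁻¹ * r * g) = g⁻¹ * (z * r) * g := by group
      _ = g⁻¹ * (r * z) * g := by rw [h.large.comm_z r hr]
      _ = _ := by group
  have h1 := m_com3 (h.M (g⁻¹ * x * g)) (h.M (g⁻¹ * y * g)) (h.M (g⁻¹ * z * g))
    (by rw [← h.M_mul hzz' hzz', hzzz, h.M_one])
    (by rw [← h.M_mul hzz' hxz, ← h.M_mul hxz hzz', hcomz x h.xQ])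
    (by rw [← h.M_mul hzz' hyz, ← h.M_mul hyz hzz', hcomz y h.yQ])
    (by
      rw [← h.M_mul hyz hxz, ← h.M_mul hxz hyz, ← h.M_mul (comm_mul_comm hxz hyz) hzz']
      congr 1
      calc (g⁻¹ * y * g) * (g⁻¹ * x * g) = g⁻¹ * (y * x) * g := by group
        _ = _ := by rw [h.yx]; group)
    (hMsq x h.xQ h.xL) (hMsq y h.yQ h.yL)
  -- an element of `R ∖ Z(R)` conjugated into `Q`
  have h2 : ∃ m ∈ Q, m ∈ L ∧ m ∉ Z0 Q L ∧ g⁻¹ * m * g ∈ Q := by
    rcases h1 with e | e | e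
    · refine ⟨x, h.xQ, h.xL, fun h' => ?_, h.mem_of_M (hL x h.xL) hxz e⟩
      rw [h.mem_Z0_iff h.xQ h.xL, h.cls_x] at h'
      exact absurd h' (by decide)
    · refine ⟨y, h.yQ, h.yL, fun h' => ?_, h.mem_of_M (hL y h.yL) hyz e⟩
      rw [h.mem_Z0_iff h.yQ h.yL, h.cls_y] at h'
      exact absurd h' (by decide)
    · rw [← h.M_mul hxz hyz] at e
      have e' : (g⁻¹ * x * g) * (g⁻¹ * y * g) = g⁻¹ * (x * y) * g := by group
      rw [e'] at e
      have hxyz : g⁻¹ * (x * y) * g * z = z * (g⁻¹ * (x * y) * g) := by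
        rw [← e']; exact comm_mul_comm hxz hyz
      refine ⟨x * y, Q.mul_mem h.xQ h.yQ, L.mul_mem h.xL h.yL, fun h' => ?_,
        h.mem_of_M (hL _ (L.mul_mem h.xL h.yL)) hxyz e⟩
      rw [h.mem_Z0_iff (Q.mul_mem h.xQ h.yQ) (L.mul_mem h.xL h.yL), cls_mul h.large h.xQ h.yQ h.xQ h.yQ,
        h.cls_x, h.cls_y] at h'
      exact absurd h' (by decide)
  obtain ⟨m, hm1, hm2, hm3, hm4⟩ := h2
  refine ⟨m, hm1, hm2, hm3, ?_⟩
  rcases h.large.sq m hm1 with e | e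
  · exact e
  · exfalso
    have e2 : (g⁻¹ * m * g) * (g⁻¹ * m * g) = g⁻¹ * z * g := by
      calc (g⁻¹ * m * g) * (g⁻¹ * m * g) = g⁻¹ * (m * m) * g := by group
        _ = g⁻¹ * z * g := by rw [e]
    rcases h.large.sq _ hm4 with e3 | e3
    · apply h.large.z_ne
      calc z = g * (g⁻¹ * z * g) * g⁻¹ := by group
        _ = 1 := by rw [← e2, e3]; group
    · exact conj_ne hne (e2.symm.trans e3)

end Hyp2

end Cfsg.Agent.LargeExtra.W2.NonSimple
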