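import Cfsg.Agent.LargeExtra.W2.NSPlusMinus

/-!
# S1759, part [G]: the case that `G` is not simple (helper860, after helper49 and helper995)

`z` an involution of the finite group `G`, `Q = F*(C_G(z))` extraspecial of order 32, `L` a normal non-abelian
simple subgroup of `G`.  Then `z ∈ L` and either `Q ≤ L` or `Q ∩ L = ⟨e⟩ ∘ Q₈`, `e² = z`, is of order 16.
-/

set_option autoImplicit false

namespace Cfsg.Agent.LargeExtra.W2.NonSimple

open Cfsg.Agent.Co2Type.Quad

universe u

variable {G : Type u} [Group G] {Q L : Subgroup G} {z x y : G}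

namespace Hyp2

/-- `y` anticommuting with `x`, `e` central: `y e` anticommutes with `x` -/
theorem _root_.Cfsg.Agent.LargeExtra.W2.NonSimple.ac_mul_comm_right {x y e : G} (hyx : y * x = x * y * z)
    (hex : e * x = x * e) (hez : e * z = z * e) : (y * e) * x = x * (y * e) * z := by
  calc (y * e) * x = y * (e * x) := by group
    _ = (y * x) * e := by rw [hex]; group
    _ = x * y * (z * e) := by rw [hyx]; group
    _ = x * (y * e) * z := by rw [← hez]; group

/-- `t u t⁻¹ = r u`, `r ∈ Z(R)`, `u` anticommuting with `e ∈ Z(R)`: then there is `v` commuting with `t` and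
anticommuting with `e` -/
theorem exists_v (h : Hyp2 Q L z x y) (hZ : ∀ w ∈ Z0 Q L, w * w = 1) {t n e k r : G}
    (htz : t * z = z * t) (hn : n ∈ Q) (htn : t * n * t⁻¹ = z * n)
    (hne : n * e = e * n) (heZ : e ∈ Z0 Q L) (he1 : e ≠ 1) (hez : e ≠ z)
    (hk : k ∈ Q) (hke : k * e = e * k * z) (hrZ : r ∈ Z0 Q L) (htk : t * k * t⁻¹ = r * k) :
    ∃ v ∈ Q, v * t = t * v ∧ v * e = e * v * z := by
  have hzz := h.large.z_sq
  -- compare squares
  have hsq : (r * k) * (r * k) = k * k := by
    have h1 : t * (k * k) * t⁻¹ = k * k := by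
      rcases h.large.sq k hk with e1 | e1
      · rw [e1]; group
      · rw [e1, htz]; group
    calc (r * k) * (r * k) = t * (k * k) * t⁻¹ := by rw [← htk]; group
      _ = k * k := h1
  have hrQ := (mem_Z0.1 hrZ).1
  have hr : r = 1 ∨ r = z := by
    have hbad : k * r = r * k * z → False := by
      intro e1
      have h2 : (r * k) * (r * k) = k * k * z := by
        have hkz := h.large.comm_z k hk
        calc (r * k) * (r * k) = r * (k * r) * k := by group
          _ = r * (r * k * z) * k := by rw [e1]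
          _ = (r * r) * k * (z * k) := by group
          _ = k * k * z := by rw [hZ r hrZ, one_mul, ← hkz]; group
      rw [h2] at hsq
      exact h.large.z_ne (mul_eq_left.1 hsq)
    rcases h.Z0_small heZ he1 hez hrZ with e1 | e1 | e1 | e1
    · exact Or.inl e1
    · exact Or.inr e1
    · exact (hbad (by rw [e1]; exact hke)).elim
    · refine (hbad ?_).elim
      rw [e1]
      have hkz := h.large.comm_z k hk
      calc k * (e * z) = (k * e) * z := by group
        _ = e * (k * z) * z := by rw [hke]; group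
        _ = e * z * k * z := by rw [hkz]; group
  rcases hr with e1 | e1
  · refine ⟨k, hk, ?_, hke⟩
    rw [e1, one_mul, mul_inv_eq_iff_eq_mul] at htk
    exact htk.symm
  · refine ⟨n * k, Q.mul_mem hn hk, ?_, comm_mul_ac hne hke⟩
    have hnz := h.large.comm_z n hn
    have h3 : t * (n * k) * t⁻¹ = n * k := by
      calc t * (n * k) * t⁻¹ = (t * n * t⁻¹) * (t * k * t⁻¹) := by group
        _ = z * (n * z) * k := by rw [htn, htk, e1]; group
        _ = (z * z) * (n * k) := by rw [hnz]; group
        _ = n * k := by rw [hzz, one_mul]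
    rw [mul_inv_eq_iff_eq_mul] at h3
    exact h3.symm

/-- the action of a conjugate `t` of `z` outside `Q` on `R` -/
structure TAct (Q L : Subgroup G) (z x y t n s c : G) (p : ZMod 2 × ZMod 2) : Prop where
  nQ : n ∈ Q
  nL : n ∈ L
  sQ : s ∈ Q
  sL : s ∈ L
  cZ : c ∈ Z0 Q L
  nn : n * n = z
  n_cls : cls x y n = p
  p0 : p ≠ 0
  ns : ¬ n * s = s * n
  tn : t * n * t⁻¹ = c * n
  tc : t * c * t⁻¹ = c
  /-- if `t` centralises `Z(R)` then `c = z` -/
  cz : (∀ w ∈ Z0 Q L, t * w = w * t) → c = z
  fix : ∀ r ∈ Q, r ∈ L → t * r * t⁻¹ = r → cls x y r = 0 ∨ cls x y r = p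
  fix' : ∀ r ∈ Q, r ∈ L → cls x y (t * r * t⁻¹) = cls x y r → cls x y r = 0 ∨ cls x y r = p
  /-- `[t, s]` -/
  ts : ∃ c' ∈ Z0 Q L, t * s * t⁻¹ = c' * n * s

theorem exists_TAct [Finite G] (h : Hyp2 Q L z x y) (hZ : ∀ w ∈ Z0 Q L, w * w = 1)
    (hm : ∀ m ∈ Q, m ∈ L → m ∉ Z0 Q L → m * m = z) {t : G} (htL : t ∈ L) (htz : t * z = z * t)
    (htt : t * t = 1) (htQ : t ∉ Q) : ∃ n s c p, TAct Q L z x y t n s c p := by
  have hzz := h.large.z_sq
  have hT2 : mm (h.M t) (h.M t) = I2 := by rw [← h.M_mul htz htz, htt, h.M_one]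
  have hT : h.M t ≠ I2 := fun e => htQ (h.mem_of_M htL htz e)
  obtain ⟨p, q, hp, hq, hpq, hfix⟩ := m_vec _ hT2 hT
  obtain ⟨n, hnQ, hnL, hnp⟩ := h.exists_rep p
  obtain ⟨s, hsQ, hsL, hsq⟩ := h.exists_rep q
  have hp0 : p ≠ 0 := by
    rintro rfl
    revert hpq
    simp
  have hnZ : n ∉ Z0 Q L := fun e => hp0 (by rw [← hnp]; exact (h.mem_Z0_iff hnQ hnL).1 e)
  have hnn : n * n = z := hm n hnQ hnL hnZ
  have hns : ¬ n * s = s * n := by
    intro e
    have h1 := h.det hnQ hnL hsQ hsL
    rw [(cf_eq_zero s n).2 e, hnp, hsq, hpq] at h1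
    exact absurd h1 (by decide)
  have htiz := comm_inv_left htz
  have htnQ := h.large.conj_mem t htz n hnQ
  have htnL := h.toHyp.conj_mem_L t hnL
  have htsQ := h.large.conj_mem t htz s hsQ
  have htsL := h.toHyp.conj_mem_L t hsL
  -- `c = t n t⁻¹ n⁻¹`
  have hc : t * n * t⁻¹ * n⁻¹ ∈ Z0 Q L := by
    rw [h.mem_Z0_iff (Q.mul_mem htnQ (Q.inv_mem hnQ)) (L.mul_mem htnL (L.inv_mem hnL)),
      cls_mul h.large h.xQ h.yQ htnQ (Q.inv_mem hnQ), cls_inv h.large h.xQ h.yQ hnQ,
      h.cls_conj htz hnQ hnL, hnp, hp, add_self_cls]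
  have hc' : t * s * t⁻¹ * (n * s)⁻¹ ∈ Z0 Q L := by
    rw [h.mem_Z0_iff (Q.mul_mem htsQ (Q.inv_mem (Q.mul_mem hnQ hsQ)))
      (L.mul_mem htsL (L.inv_mem (L.mul_mem hnL hsL))),
      cls_mul h.large h.xQ h.yQ htsQ (Q.inv_mem (Q.mul_mem hnQ hsQ)),
      cls_inv h.large h.xQ h.yQ (Q.mul_mem hnQ hsQ),
      h.cls_conj htz hsQ hsL, hsq, hq, cls_mul h.large h.xQ h.yQ hnQ hsQ, hnp, hsq, add_self_cls]
  have htn : t * n * t⁻¹ = (t * n * t⁻¹ * n⁻¹) * n := by group
  have hts : t * s * t⁻¹ = (t * s * t⁻¹ * (n * s)⁻¹) * n * s := by group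
  generalize t * n * t⁻¹ * n⁻¹ = c at hc htn
  generalize t * s * t⁻¹ * (n * s)⁻¹ = c' at hc' hts
  have htti : ∀ w : G, t * (t * w * t⁻¹) * t⁻¹ = w := by
    intro w
    calc t * (t * w * t⁻¹) * t⁻¹ = (t * t) * w * (t * t)⁻¹ := by group
      _ = w := by rw [htt]; group
  have hcc : ∀ w ∈ Z0 Q L, ∀ r ∈ Q, r ∈ L → w * r = r * w := fun w hw => (mem_Z0.1 hw).2.2
  have htcc : t * c * t⁻¹ = c := by
    have h1 := htti n
    rw [htn] at h1
    have h2 : (t * c * t⁻¹) * (c * n) = n := by
      calc (t * c * t⁻¹) * (c * n) = (t * c * t⁻¹) * (t * n * t⁻¹) := by rw [htn]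
        _ = t * (c * n) * t⁻¹ := by group
        _ = n := h1
    have h3 : (t * c * t⁻¹) * c = 1 := by
      have : (t * c * t⁻¹) * c * n = n := by rw [mul_assoc, h2]
      exact mul_eq_right.1 this
    calc t * c * t⁻¹ = (t * c * t⁻¹) * (c * c) := by rw [hZ c hc, mul_one]
      _ = (t * c * t⁻¹) * c * c := by group
      _ = c := by rw [h3, one_mul]
  have hfix' : ∀ r ∈ Q, r ∈ L → cls x y (t * r * t⁻¹) = cls x y r → cls x y r = 0 ∨ cls x y r = p := by
    intro r hr hrL e
    apply hfix
    rw [← h.cls_conj htz hr hrL, e]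
  refine ⟨n, s, c, p, ⟨hnQ, hnL, hsQ, hsL, hc, hnn, hnp, hp0, hns, htn, htcc, ?_, ?_, hfix', c', hc', hts⟩⟩
  · intro hcen
    -- `c' ^ t c n c' n = 1`
    have h1 := htti s
    rw [hts] at h1
    have h2 : (t * c' * t⁻¹) * (c * n) * (c' * n * s) = s := by
      calc (t * c' * t⁻¹) * (c * n) * (c' * n * s) = (t * c' * t⁻¹) * (t * n * t⁻¹) * (t * s * t⁻¹) := by
            rw [htn, hts]
        _ = t * (c' * n * s) * t⁻¹ := by group
        _ = s := h1
    have h3 : t * c' * t⁻¹ = c' := by rw [hcen c' hc']; group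
    rw [h3] at h2
    have h4 : c' * (c * n) * (c' * n) = 1 := by
      have : c' * (c * n) * (c' * n) * s = s := by
        calc c' * (c * n) * (c' * n) * s = c' * (c * n) * (c' * n * s) := by group
          _ = s := h2
      exact mul_eq_right.1 this
    have hcQ := (mem_Z0.1 hc).1
    have hcL := (mem_Z0.1 hc).2.1
    have h5 : c' * (c * n) * (c' * n) = c * z := by
      calc c' * (c * n) * (c' * n) = c' * ((c * n) * c') * n := by group
        _ = c' * (c' * (c * n)) * n := by rw [hcc c' hc' _ (Q.mul_mem hcQ hnQ) (L.mul_mem hcL hnL)]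
        _ = (c' * c') * c * (n * n) := by group
        _ = c * z := by rw [hZ c' hc', one_mul, hnn]
    rw [h5] at h4
    calc c = c * (z * z) := by rw [hzz, mul_one]
      _ = (c * z) * z := by group
      _ = z := by rw [h4, one_mul]
  · intro r hr hrL e
    exact hfix' r hr hrL (by rw [e])

/-- minus type -/
theorem minus_false [Finite G] (h : Hyp2 Q L z x y) (hZ : ∀ w ∈ Z0 Q L, w * w = 1)
    (hm : ∀ m ∈ Q, m ∈ L → m ∉ Z0 Q L → m * m = z) : False := by
  have hzz := h.large.z_sq
  have hzL := h.toHyp.z_mem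
  have hzQ := h.large.z_mem
  have hz1 := h.large.z_ne
  -- conjugates of `z` are outside `Q`
  have hnQ : ∀ g ∈ L, g * z * g⁻¹ ≠ z → g * z * g⁻¹ ∉ Q := by
    intro g hg hne hQ
    have hL : g * z * g⁻¹ ∈ L := L.mul_mem (L.mul_mem hg hzL) (L.inv_mem hg)
    have htt : g * z * g⁻¹ * (g * z * g⁻¹) = 1 := conj_sq hzz
    have hZ' : g * z * g⁻¹ ∈ Z0 Q L := by
      by_contra hno
      have := hm _ hQ hL hno
      rw [htt] at this
      exact hz1 this.symm
    obtain ⟨m, hm1, hm2, hm3, hm4⟩ := h.plus_of_central hne hZ'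
    exact hz1 ((hm m hm1 hm2 hm3).symm.trans hm4)
  have hZconj : ∀ {t w : G}, t * z = z * t → w ∈ Z0 Q L → ¬ t * w = w * t →
      t * w * t⁻¹ = w * z := by
    intro t w htz hw hno
    have hw1 : w ≠ 1 := by rintro rfl; exact hno (by group)
    have hwz : w ≠ z := by rintro rfl; exact hno htz
    rcases h.Z0_small hw hw1 hwz (h.conj_Z0 htz hw) with e | e | e | e
    · exfalso; apply hw1
      calc w = t⁻¹ * (t * w * t⁻¹) * t := by group
        _ = 1 := by rw [e]; group
    · exfalso; apply hwz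
      calc w = t⁻¹ * (t * w * t⁻¹) * t := by group
        _ = t⁻¹ * (z * t) := by rw [e]; group
        _ = z := by rw [← htz]; group
    · exfalso; apply hno
      calc t * w = (t * w * t⁻¹) * t := by group
        _ = w * t := by rw [e]
    · exact e
  have hswap : ∀ {t w : G}, w ∈ Q → t * z = z * t → t * w * t⁻¹ = w * z → w * t * w⁻¹ = t * z := by
    intro t w hw htz e
    have hwz := h.large.comm_z w hw
    have e1 : t * w = w * z * t := by rw [← e]; group
    have e2 : w * t = t * w * z := by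
      calc w * t = w * t * (z * z) := by rw [hzz, mul_one]
        _ = w * (t * z) * z := by group
        _ = (w * z * t) * z := by rw [htz]; group
        _ = t * w * z := by rw [e1]
    calc w * t * w⁻¹ = t * (w * z) * w⁻¹ := by rw [e2]; group
      _ = t * z := by rw [hwz]; group
  have hSW : ∀ g ∈ L, g * z * g⁻¹ ≠ z → g * z * g⁻¹ * z = z * (g * z * g⁻¹) →
      ∃ a ∈ L, a * z = z * a ∧ a * (g * z * g⁻¹) * a⁻¹ = g * z * g⁻¹ * z := by
    intro g hg hne hc
    have hL : g * z * g⁻¹ ∈ L := L.mul_mem (L.mul_mem hg hzL) (L.inv_mem hg)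
    obtain ⟨n, s, c, p, T⟩ := h.exists_TAct hZ hm hL hc (conj_sq hzz) (hnQ g hg hne)
    by_cases hcen : ∀ w ∈ Z0 Q L, g * z * g⁻¹ * w = w * (g * z * g⁻¹)
    · have hcz := T.cz hcen
      have htn := T.tn
      rw [hcz, ← h.large.comm_z n T.nQ] at htn
      exact ⟨n, T.nL, h.large.comm_z n T.nQ, hswap T.nQ hc htn⟩
    · push Not at hcen
      obtain ⟨w, hw, hwt⟩ := hcen
      have hw' := mem_Z0.1 hw
      exact ⟨w, hw'.2.1, h.large.comm_z w hw'.1, hswap hw'.1 hc (hZconj hc hw hwt)⟩
  obtain ⟨g, hg, hne, hc⟩ := h.toHyp.exists_t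
  obtain ⟨y', hy', hyz, hyt⟩ := exists_cycle hzz hSW hg hne hc
  have htL : g * z * g⁻¹ ∈ L := L.mul_mem (L.mul_mem hg hzL) (L.inv_mem hg)
  have htt : g * z * g⁻¹ * (g * z * g⁻¹) = 1 := conj_sq hzz
  have ht1 : g * z * g⁻¹ ≠ 1 := conj_ne_one h.large.z_ne
  have htQ := hnQ g hg hne
  generalize g * z * g⁻¹ = t at *
  obtain ⟨n, s, c, p, T⟩ := h.exists_TAct hZ hm htL hc htt htQ
  have hti : t⁻¹ = t := inv_eq_of_mul_eq_one_left htt
  have hT2 : mm (h.M t) (h.M t) = I2 := by rw [← h.M_mul hc hc, htt, h.M_one]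
  have hT : h.M t ≠ I2 := fun e => htQ (h.mem_of_M htL hc e)
  -- the elements of `C_L(⟨z, t⟩)`
  have hA0 : ∀ c' ∈ L, c' * z = z * c' → c' * t = t * c' → c' ∈ Q ∨ c' * t ∈ Q := by
    intro c' hcL hcz hct
    have h1 := m_comm (h.M t) (h.M c') (h.M c'⁻¹) (h.M_inv hcz) hT2 hT
      (by rw [← h.M_mul hcz hc, ← h.M_mul hc hcz, hct])
    rcases h1 with e | e
    · exact Or.inl (h.mem_of_M hcL hcz e)
    · rw [← h.M_mul hcz hc] at e
      exact Or.inr (h.mem_of_M (L.mul_mem hcL htL) (comm_mul_comm hcz hc) e)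
  have hfixQ : ∀ r ∈ Q, r ∈ L → r * t = t * r → cls x y r = 0 ∨ cls x y r = p := by
    intro r hr hrL e
    exact T.fix r hr hrL (by rw [← e]; group)
  by_cases hcen : ∀ w ∈ Z0 Q L, t * w = w * t
  · -- `t` centralises `Z(R)`
    have hcz := T.cz hcen
    have htn : t * n * t⁻¹ = z * n := by rw [T.tn, hcz]
    have hfixZ : ∀ r ∈ Q, r ∈ L → r * t = t * r → r ∈ Z0 Q L := by
      intro r hr hrL e
      rcases hfixQ r hr hrL e with e1 | e1
      · exact (h.mem_Z0_iff hr hrL).2 e1
      · exfalso
        -- `r = w n`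
        have hw : r * n⁻¹ ∈ Z0 Q L := by
          rw [h.mem_Z0_iff (Q.mul_mem hr (Q.inv_mem T.nQ)) (L.mul_mem hrL (L.inv_mem T.nL)),
            cls_mul h.large h.xQ h.yQ hr (Q.inv_mem T.nQ), cls_inv h.large h.xQ h.yQ T.nQ, e1, T.n_cls,
            add_self_cls]
        have h2 := hcen _ hw
        have h3 : t * r * t⁻¹ = r := by rw [← e]; group
        have h4 : t * r * t⁻¹ = r * n⁻¹ * (z * n) := by
          calc t * r * t⁻¹ = (t * (r * n⁻¹)) * t⁻¹ * (t * n * t⁻¹) := by group
            _ = r * n⁻¹ * (z * n) := by rw [h2, htn]; group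
        rw [h3] at h4
        have h5 : r * n⁻¹ * (z * n) = r * z := by
          rw [← h.large.comm_z n T.nQ]; group
        rw [h5] at h4
        exact hz1 (mul_eq_left.1 h4.symm)
    have hA : ∀ c' ∈ L, c' * z = z * c' → c' * t = t * c' → c' ∈ Z0 Q L ∨ c' * t ∈ Z0 Q L := by
      intro c' hcL hcz hct
      rcases hA0 c' hcL hcz hct with e | e
      · exact Or.inl (hfixZ c' e hcL hct)
      · exact Or.inr (hfixZ _ e (L.mul_mem hcL htL) (comm_mul_comm hct rfl))
    have hct' : ∀ {c w : G}, c * t = w → c = w * t := by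
      intro c w e
      rw [← e, mul_assoc, htt, mul_one]
    by_cases hex : ∃ e ∈ Z0 Q L, e ≠ 1 ∧ e ≠ z
    · obtain ⟨e, heZ, he1, hez⟩ := hex
      obtain ⟨heQ, heL, hec⟩ := mem_Z0.1 heZ
      have hne' : n * e = e * n := (hec n T.nQ T.nL).symm
      have het : e * t = t * e := (hcen e heZ).symm
      -- `k₀`
      have hk0 : ∃ k ∈ Q, k * e = e * k * z := by
        by_contra hno
        push Not at hno
        rcases h.large.cent e heQ (fun y hy => by
          rcases h.large.comm y hy e heQ with e1 | e1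
          · exact e1.symm
          · exact absurd e1 (hno y hy)) with e1 | e1
        · exact he1 e1
        · exact hez e1
      obtain ⟨k, hk, hke⟩ := hk0
      have hv : ∃ v ∈ Q, v * t = t * v ∧ v * e = e * v * z := by
        have htkQ := h.large.conj_mem t hc k hk
        have hrQ : t * k * t⁻¹ * k⁻¹ ∈ Q := Q.mul_mem htkQ (Q.inv_mem hk)
        have hrL : t * k * t⁻¹ * k⁻¹ ∈ L := h.toHyp.comm_mem_L htL k
        have htk : t * k * t⁻¹ = (t * k * t⁻¹ * k⁻¹) * k := by group
        generalize hre : t * k * t⁻¹ * k⁻¹ = r at hrQ hrL htk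
        -- `t r t⁻¹ = r⁻¹`
        have htr : t * r * t⁻¹ = r⁻¹ := by
          rw [← hre, hti]
          have : t * (t * k * t * k⁻¹) * t = (t * t) * k * t * k⁻¹ * t := by group
          rw [this, htt]
          calc 1 * k * t * k⁻¹ * t = k * t * k⁻¹ * t := by group
            _ = k * t⁻¹ * k⁻¹ * t⁻¹ := by rw [hti]
            _ = (t * k * t * k⁻¹)⁻¹ := by group
        have hcl : cls x y r = 0 ∨ cls x y r = p := by
          apply T.fix' r hrQ hrL
          rw [htr, cls_inv h.large h.xQ h.yQ hrQ]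
        rcases hcl with e1 | e1
        · exact h.exists_v hZ hc T.nQ htn hne' heZ he1 hez hk hke ((h.mem_Z0_iff hrQ hrL).2 e1) htk
        · -- replace `k` by `s k`
          obtain ⟨c', hc', hts⟩ := T.ts
          have hse : s * e = e * s := (hec s T.sQ T.sL).symm
          have hske : (s * k) * e = e * (s * k) * z := comm_mul_ac hse hke
          have hc'Q := (mem_Z0.1 hc').1
          have hc'L := (mem_Z0.1 hc').2.1
          have hr1 : c' * n * s * r * s⁻¹ ∈ Z0 Q L := by
            rw [h.mem_Z0_iff (Q.mul_mem (Q.mul_mem (Q.mul_mem (Q.mul_mem hc'Q T.nQ) T.sQ) hrQ) (Q.inv_mem T.sQ))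
              (L.mul_mem (L.mul_mem (L.mul_mem (L.mul_mem hc'L T.nL) T.sL) hrL) (L.inv_mem T.sL)),
              cls_mul h.large h.xQ h.yQ (Q.mul_mem (Q.mul_mem (Q.mul_mem hc'Q T.nQ) T.sQ) hrQ) (Q.inv_mem T.sQ),
              cls_mul h.large h.xQ h.yQ (Q.mul_mem (Q.mul_mem hc'Q T.nQ) T.sQ) hrQ,
              cls_mul h.large h.xQ h.yQ (Q.mul_mem hc'Q T.nQ) T.sQ,
              cls_mul h.large h.xQ h.yQ hc'Q T.nQ, cls_inv h.large h.xQ h.yQ T.sQ,
              (h.mem_Z0_iff hc'Q hc'L).1 hc', T.n_cls, e1]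
            have hh : ∀ p q' : ZMod 2 × ZMod 2, 0 + p + q' + p + q' = 0 := by decide
            exact hh _ _
          refine h.exists_v hZ hc T.nQ htn hne' heZ he1 hez (Q.mul_mem T.sQ hk) hske hr1 ?_
          calc t * (s * k) * t⁻¹ = (t * s * t⁻¹) * (t * k * t⁻¹) := by group
            _ = c' * n * s * r * s⁻¹ * (s * k) := by rw [hts, htk]; group
      obtain ⟨v, hv, hvt, hve⟩ := hv
      refine end_eight h.toHyp (t := t) (y := y') (e := e) (v := v) hne htt hc hy' hyz hyt heL
        (h.large.comm_z e heQ) het ?_ (h.large.comm_z v hv) hvt (conj_eq_of_ac h.large hv hve)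
      intro c hcL hcz hct
      rcases hA c hcL hcz hct with e1 | e1
      · rcases h.Z0_small heZ he1 hez e1 with e2 | e2 | e2 | e2
        · exact ⟨1, Or.inl rfl, Or.inl e2⟩
        · exact ⟨z, Or.inr (Or.inl rfl), Or.inl e2⟩
        · exact ⟨1, Or.inl rfl, Or.inr (by rw [e2, mul_one])⟩
        · exact ⟨z, Or.inr (Or.inl rfl), Or.inr e2⟩
      · rcases h.Z0_small heZ he1 hez e1 with e2 | e2 | e2 | e2
        · exact ⟨t, Or.inr (Or.inr (Or.inl rfl)), Or.inl (by rw [hct' e2, one_mul])⟩
        · exact ⟨t * z, Or.inr (Or.inr (Or.inr rfl)), Or.inl (by rw [hct' e2, ‹t * z = z * t›])⟩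
        · exact ⟨t, Or.inr (Or.inr (Or.inl rfl)), Or.inr (hct' e2)⟩
        · exact ⟨t * z, Or.inr (Or.inr (Or.inr rfl)), Or.inr (by rw [hct' e2, mul_assoc, ‹t * z = z * t›])⟩
    · push Not at hex
      have hZs : ∀ w ∈ Z0 Q L, w = 1 ∨ w = z := by
        intro w hw
        by_cases h1 : w = 1
        · exact Or.inl h1
        · exact Or.inr (hex w hw h1)
      obtain ⟨u, hu, v, hv, hvu, hux, huy, hvx, hvy⟩ := exists_second h.large h.card h.xQ h.yQ h.yx
      -- `u, v` centralise `R`
      have hcR : ∀ {u : G}, u ∈ Q → u * x = x * u → u * y = y * u → ∀ r ∈ Q, r ∈ L → u * r = r * u := by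
        intro u hu hux huy r hr hrL
        obtain ⟨w, hw, x', hx', y', hy', rfl⟩ := h.exists_dec hr hrL
        have h1 : w * u = u * w := by
          rcases hZs w hw with rfl | rfl
          · group
          · exact (h.large.comm_z u hu).symm
        have h2 : x' * u = u * x' := by
          rcases hx' with rfl | rfl
          · group
          · exact hux.symm
        have h3 : y' * u = u * y' := by
          rcases hy' with rfl | rfl
          · group
          · exact huy.symm
        exact (comm_mul_comm (comm_mul_comm h1 h2) h3).symm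
      have hnz := h.large.comm_z n T.nQ
      have hfixu : ∀ {u : G}, u ∈ Q → u * x = x * u → u * y = y * u →
          ∃ n', (n' = 1 ∨ n' = n) ∧ (n' * u) * t = t * (n' * u) := by
        intro u hu hux huy
        have hcu := hcR hu hux huy
        have hr : t * u * t⁻¹ * u⁻¹ ∈ Z0 Q L := by
          rw [mem_Z0]
          refine ⟨h.toHyp.comm_mem_Q hc hu, h.toHyp.comm_mem_L htL u, fun r hr hrL => ?_⟩
          have h1 : u⁻¹ * r = r * u⁻¹ := comm_inv_left (hcu r hr hrL)
          have htiz := comm_inv_left hc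
          have h2 := hcu _ (h.large.conj_mem t⁻¹ htiz r hr) (h.toHyp.conj_mem_L t⁻¹ hrL)
          rw [inv_inv] at h2
          have h3 : (t * u * t⁻¹) * r = r * (t * u * t⁻¹) := by
            calc (t * u * t⁻¹) * r = t * (u * (t⁻¹ * r * t)) * t⁻¹ := by group
              _ = r * (t * u * t⁻¹) := by rw [h2]; group
          exact comm_mul_comm h3 h1
        have htu : t * u * t⁻¹ = (t * u * t⁻¹ * u⁻¹) * u := by group
        rcases hZs _ hr with e1 | e1
        · refine ⟨1, Or.inl rfl, ?_⟩
          rw [e1, one_mul, mul_inv_eq_iff_eq_mul] at htu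
          rw [one_mul, htu]
        · refine ⟨n, Or.inr rfl, ?_⟩
          rw [e1] at htu
          have h3 : t * (n * u) * t⁻¹ = n * u := by
            calc t * (n * u) * t⁻¹ = (t * n * t⁻¹) * (t * u * t⁻¹) := by group
              _ = z * (n * z) * u := by rw [htn, htu]; group
              _ = (z * z) * (n * u) := by rw [hnz]; group
              _ = n * u := by rw [hzz, one_mul]
          rw [mul_inv_eq_iff_eq_mul] at h3
          exact h3.symm
      obtain ⟨n1, hn1, hk1⟩ := hfixu hu hux huy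
      obtain ⟨n2, hn2, hk2⟩ := hfixu hv hvx hvy
      have hn1Q : n1 ∈ Q := by
        rcases hn1 with rfl | rfl
        · exact Q.one_mem
        · exact T.nQ
      have hn2Q : n2 ∈ Q := by
        rcases hn2 with rfl | rfl
        · exact Q.one_mem
        · exact T.nQ
      have hn12 : n1 * n2 = n2 * n1 := by
        rcases hn1 with rfl | rfl <;> rcases hn2 with rfl | rfl <;> group
      have hun : ∀ {n' : G}, (n' = 1 ∨ n' = n) → n' * u = u * n' := by
        rintro n' (rfl | rfl)
        · group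
        · exact (hcR hu hux huy _ T.nQ T.nL).symm
      have hvn : ∀ {n' : G}, (n' = 1 ∨ n' = n) → n' * v = v * n' := by
        rintro n' (rfl | rfl)
        · group
        · exact (hcR hv hvx hvy _ T.nQ T.nL).symm
      have hkk : (n2 * v) * (n1 * u) = (n1 * u) * (n2 * v) * z := by
        calc (n2 * v) * (n1 * u) = n2 * (v * n1) * u := by group
          _ = (n2 * n1) * (v * u) := by rw [← hvn hn1]; group
          _ = n1 * (n2 * u) * v * z := by rw [← hn12, hvu]; group
          _ = (n1 * u) * (n2 * v) * z := by rw [hun hn2]; group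
      refine end_four h.toHyp (t := t) (y := y') (k := n1 * u) (k' := n2 * v) hne htt hy' hyz hyt ?_
        (h.large.comm_z _ (Q.mul_mem hn1Q hu)) (h.large.comm_z _ (Q.mul_mem hn2Q hv)) hk1 hk2 hkk
      intro c hcL hcz hct
      rcases hA c hcL hcz hct with e1 | e1
      · rcases hZs _ e1 with e2 | e2
        · exact Or.inl e2
        · exact Or.inr (Or.inl e2)
      · rcases hZs _ e1 with e2 | e2
        · exact Or.inr (Or.inr (Or.inl (by rw [hct' e2, one_mul])))
        · exact Or.inr (Or.inr (Or.inr (by rw [hct' e2, ‹t * z = z * t›])))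
  · -- `t` does not centralise `Z(R)`
    push Not at hcen
    obtain ⟨e, heZ, het⟩ := hcen
    obtain ⟨heQ, heL, hec⟩ := mem_Z0.1 heZ
    have he1 : e ≠ 1 := by rintro rfl; exact het (by group)
    have hez : e ≠ z := by rintro rfl; exact het hc
    have hte := hZconj hc heZ het
    -- squares
    have hsqQ : ∀ r ∈ Q, r * r = 1 ∨ r * r = z := h.large.sq
    have hA : ∀ c' ∈ L, c' * z = z * c' → c' * t = t * c' → c' * c' = 1 ∨ c' * c' = z := by
      intro c' hcL hcz hct
      rcases hA0 c' hcL hcz hct with e1 | e1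
      · exact hsqQ _ e1
      · have h1 : (c' * t) * (c' * t) = c' * c' := by
          calc (c' * t) * (c' * t) = c' * (t * c') * t := by group
            _ = c' * c' * (t * t) := by rw [← hct]; group
            _ = c' * c' := by rw [htt, mul_one]
        rw [← h1]
        exact hsqQ _ e1
    -- an element of order four
    have hr : ∃ r ∈ L, r ∈ Q ∧ r * t = t * r ∧ r * r = z := by
      have hc1 : c = 1 ∨ c = z := by
        have hct : t * c = c * t := by
          calc t * c = (t * c * t⁻¹) * t := by group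
            _ = c * t := by rw [T.tc]
        rcases h.Z0_small heZ he1 hez T.cZ with e1 | e1 | e1 | e1
        · exact Or.inl e1
        · exact Or.inr e1
        · exact absurd (e1 ▸ hct) het
        · exfalso
          apply het
          have he' : e = c * z := by rw [e1, mul_assoc, hzz, mul_one]
          rw [he']
          exact (comm_mul_comm hct.symm hc.symm).symm
      rcases hc1 with e1 | e1
      · refine ⟨n, T.nL, T.nQ, ?_, T.nn⟩
        have := T.tn
        rw [e1, one_mul, mul_inv_eq_iff_eq_mul] at this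
        exact this.symm
      · refine ⟨n * e, L.mul_mem T.nL heL, Q.mul_mem T.nQ heQ, ?_, ?_⟩
        · have hez' := h.large.comm_z e heQ
          have h3 : t * (n * e) * t⁻¹ = n * e := by
            calc t * (n * e) * t⁻¹ = (t * n * t⁻¹) * (t * e * t⁻¹) := by group
              _ = z * n * (e * z) := by rw [T.tn, e1, hte]
              _ = z * ((n * e) * z) := by group
              _ = z * (z * (n * e)) := by rw [h.large.comm_z _ (Q.mul_mem T.nQ heQ)]
              _ = (z * z) * (n * e) := by group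
              _ = n * e := by rw [hzz, one_mul]
          rw [mul_inv_eq_iff_eq_mul] at h3
          exact h3.symm
        · calc (n * e) * (n * e) = n * (e * n) * e := by group
            _ = n * (n * e) * e := by rw [hec n T.nQ T.nL]
            _ = (n * n) * (e * e) := by group
            _ = z := by rw [T.nn, hZ e heZ, mul_one]
    obtain ⟨r, hrL, hrQ, hrt, hrr⟩ := hr
    exact end_sq h.toHyp (t := t) (y := y') (r := r) hne ht1 htt hy' hyz hyt hrL (h.large.comm_z r hrQ) hrt
      hrr hA

end Hyp2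

/-- The exceptional case: `R = Q ∩ L = ⟨e⟩ ∘ ⟨i, j⟩ ≅ 4 ∘ Q₈` of order 16 (`L = PSU₃(3)`). -/
structure Four (Q L : Subgroup G) (z e i j : G) : Prop where
  eQ : e ∈ Q
  eL : e ∈ L
  iQ : i ∈ Q
  iL : i ∈ L
  jQ : j ∈ Q
  jL : j ∈ L
  ee : e * e = z
  ii : i * i = z
  jj : j * j = z
  ji : j * i = i * j * z
  /-- `e` is central in `R` -/
  e_cent : ∀ r ∈ Q, r ∈ L → e * r = r * e
  /-- normal form -/
  form : ∀ r ∈ Q, r ∈ L → ∃ w, (w = 1 ∨ w = z ∨ w = e ∨ w = e * z) ∧ ∃ i', (i' = 1 ∨ i' = i) ∧
    ∃ j', (j' = 1 ∨ j' = j) ∧ r = w * i' * j'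
  /-- `R = ⟨e, i, j⟩` -/
  gen : Q ⊓ L = Subgroup.closure {e, i, j}
  card : Nat.card ↥(Q ⊓ L : Subgroup G) = 16
  /-- the centre of `R` is `⟨e⟩` -/
  cent : ∀ w ∈ Q, w ∈ L → w * i = i * w → w * j = j * w → w = 1 ∨ w = z ∨ w = e ∨ w = e * z

/-- the case distinction -/
theorem Hyp2.exists_four [Finite G] (h : Hyp2 Q L z x y) : ∃ e i j, Four Q L z e i j := by
  have hzz := h.large.z_sq
  have hzL := h.toHyp.z_mem
  have hzQ := h.large.z_mem
  by_cases hZ : ∀ w ∈ Z0 Q L, w * w = 1
  · exfalso
    by_cases hp : ∃ m ∈ Q, m ∈ L ∧ m ∉ Z0 Q L ∧ m * m = 1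
    · exact h.plus_false hZ hp
    · push Not at hp
      apply h.minus_false hZ
      intro m hm hmL hmZ
      rcases h.large.sq m hm with e | e
      · exact absurd e (hp m hm hmL hmZ)
      · exact e
  · push Not at hZ
    obtain ⟨e, heZ, hee⟩ := hZ
    obtain ⟨heQ, heL, hec⟩ := mem_Z0.1 heZ
    have hee' : e * e = z := by
      rcases h.large.sq e heQ with h1 | h1
      · exact absurd h1 hee
      · exact h1
    have he1 : e ≠ 1 := by rintro rfl; exact hee (by group)
    have hez : e ≠ z := by rintro rfl; exact hee hzz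
    have hfix : ∀ w ∈ Q, w ∈ L → ∃ w' ∈ Q, w' ∈ L ∧ w' * w' = z ∧ (w' = w ∨ w' = w * e) := by
      intro w hw hwL
      rcases h.large.sq w hw with h1 | h1
      · refine ⟨w * e, Q.mul_mem hw heQ, L.mul_mem hwL heL, ?_, Or.inr rfl⟩
        calc (w * e) * (w * e) = w * (e * w) * e := by group
          _ = (w * w) * (e * e) := by rw [hec w hw hwL]; group
          _ = z := by rw [h1, hee', one_mul]
      · exact ⟨w, hw, hwL, h1, Or.inl rfl⟩
    obtain ⟨i, hiQ, hiL, hii, hix⟩ := hfix x h.xQ h.xL
    obtain ⟨j, hjQ, hjL, hjj, hjy⟩ := hfix y h.yQ h.yL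
    have hez' := h.large.comm_z e heQ
    have hji : j * i = i * j * z := by
      have hey : y * e = e * y := (hec y h.yQ h.yL).symm
      have hex : e * x = x * e := hec x h.xQ h.xL
      rcases hix with hi | hi <;> rcases hjy with hj | hj <;> rw [hi, hj]
      · exact h.yx
      · exact ac_mul_comm_right h.yx hex hez'
      · calc y * (x * e) = (y * x) * e := by group
          _ = x * y * (z * e) := by rw [h.yx]; group
          _ = x * (y * e) * z := by rw [← hez']; group
          _ = x * e * y * z := by rw [hey]; group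
      · calc y * e * (x * e) = y * (e * x) * e := by group
          _ = (y * x) * (e * e) := by rw [hex]; group
          _ = x * y * z * z := by rw [h.yx, hee']
          _ = x * y * (e * e) * z := by rw [hee']
          _ = x * (y * e) * e * z := by group
          _ = x * (e * y) * e * z := by rw [hey]
          _ = x * e * (y * e) * z := by group
    have h2 : Hyp2 Q L z i j := ⟨h.toHyp, hiQ, hiL, hjQ, hjL, hji, h.nle⟩
    have hform : ∀ r ∈ Q, r ∈ L → ∃ w, (w = 1 ∨ w = z ∨ w = e ∨ w = e * z) ∧ ∃ i', (i' = 1 ∨ i' = i) ∧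
        ∃ j', (j' = 1 ∨ j' = j) ∧ r = w * i' * j' := by
      intro r hr hrL
      obtain ⟨w, hw, i', hi', j', hj', e1⟩ := h2.exists_dec hr hrL
      exact ⟨w, h2.Z0_small heZ he1 hez hw, i', hi', j', hj', e1⟩
    have hcent : ∀ w ∈ Q, w ∈ L → w * i = i * w → w * j = j * w →
        w = 1 ∨ w = z ∨ w = e ∨ w = e * z := fun w hw hwL h1 h3 =>
      h2.Z0_small heZ he1 hez (h2.mem_Z0_of_comm hw hwL h1 h3)
    refine ⟨e, i, j, ⟨heQ, heL, hiQ, hiL, hjQ, hjL, hee', hii, hjj, hji, hec, hform, ?_, ?_, hcent⟩⟩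
    · apply le_antisymm
      · rintro r ⟨hr, hrL⟩
        obtain ⟨w, hw, i', hi', j', hj', rfl⟩ := hform r hr hrL
        have me : e ∈ Subgroup.closure ({e, i, j} : Set G) := Subgroup.subset_closure (by simp)
        have mi : i ∈ Subgroup.closure ({e, i, j} : Set G) := Subgroup.subset_closure (by simp)
        have mj : j ∈ Subgroup.closure ({e, i, j} : Set G) := Subgroup.subset_closure (by simp)
        have mz : z ∈ Subgroup.closure ({e, i, j} : Set G) := by
          rw [← hee']; exact Subgroup.mul_mem _ me me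
        refine Subgroup.mul_mem _ (Subgroup.mul_mem _ ?_ ?_) ?_
        · rcases hw with rfl | rfl | rfl | rfl
          · exact Subgroup.one_mem _
          · exact mz
          · exact me
          · exact Subgroup.mul_mem _ me mz
        · rcases hi' with rfl | rfl
          · exact Subgroup.one_mem _
          · exact mi
        · rcases hj' with rfl | rfl
          · exact Subgroup.one_mem _
          · exact mj
      · rw [Subgroup.closure_le]
        rintro w hw
        simp only [Set.mem_insert_iff, Set.mem_singleton_iff] at hw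
        rcases hw with rfl | rfl | rfl
        · exact ⟨heQ, heL⟩
        · exact ⟨hiQ, hiL⟩
        · exact ⟨hjQ, hjL⟩
    · -- the cardinality
      have hne : (Q ⊓ L : Subgroup G) ≠ Q := fun e => h.nle (inf_eq_left.1 e)
      have hdvd : Nat.card ↥(Q ⊓ L : Subgroup G) ∣ 32 := by
        rw [← h.card]
        exact Subgroup.card_dvd_of_le inf_le_left
      have hlt : Nat.card ↥(Q ⊓ L : Subgroup G) < 32 := by
        rcases (Nat.le_of_dvd (by norm_num) hdvd).lt_or_eq with e1 | e1
        · exact e1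
        · exact absurd (Subgroup.eq_of_le_of_card_ge inf_le_left (by rw [e1, h.card])) hne
      have hge : 16 ≤ Nat.card ↥(Q ⊓ L : Subgroup G) := by
        choose rep hrQ hrL hrc using h2.exists_rep
        have hW : ∀ a : Fin 4, (![1, z, e, e * z] : Fin 4 → G) a ∈ Z0 Q L := by
          intro a
          have hzZ := h2.z_mem_Z0
          fin_cases a
          · exact Subgroup.one_mem _
          · exact hzZ
          · exact heZ
          · exact Subgroup.mul_mem _ heZ hzZ
        have hWi : Function.Injective (![1, z, e, e * z] : Fin 4 → G) := by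
          have hz1 := h.large.z_ne
          have hez1 : e * z ≠ 1 := by
            intro e1
            apply hez
            calc e = e * (z * z) := by rw [hzz, mul_one]
              _ = e * z * z := by group
              _ = z := by rw [e1, one_mul]
          have hez2 : e * z ≠ z := fun e1 => he1 (mul_eq_right.1 e1)
          have hez3 : e * z ≠ e := fun e1 => hz1 (mul_eq_left.1 e1)
          intro a b hab
          fin_cases a <;> fin_cases b <;> simp at hab ⊢
          all_goals first
            | exact absurd hab.symm hz1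
            | exact absurd hab hz1
            | exact absurd hab he1
            | exact absurd hab.symm he1
            | exact absurd hab hez
            | exact absurd hab.symm hez
            | exact absurd hab hez1
            | exact absurd hab.symm hez1
            | exact absurd hab hez2
            | exact absurd hab.symm hez2
            | exact absurd hab hez3
            | exact absurd hab.symm hez3
        let f : Fin 4 × (ZMod 2 × ZMod 2) → ↥(Q ⊓ L : Subgroup G) := fun a =>
          ⟨(![1, z, e, e * z] : Fin 4 → G) a.1 * rep a.2,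
            Q.mul_mem (mem_Z0.1 (hW a.1)).1 (hrQ a.2), L.mul_mem (mem_Z0.1 (hW a.1)).2.1 (hrL a.2)⟩
        have hcls : ∀ a, cls i j ((f a : G)) = a.2 := by
          intro a
          show cls i j ((![1, z, e, e * z] : Fin 4 → G) a.1 * rep a.2) = a.2
          rw [cls_mul h2.large h2.xQ h2.yQ (mem_Z0.1 (hW a.1)).1 (hrQ a.2), hrc,
            (h2.mem_Z0_iff (mem_Z0.1 (hW a.1)).1 (mem_Z0.1 (hW a.1)).2.1).1 (hW a.1), zero_add]
        have hf : Function.Injective f := by
          rintro ⟨a, p⟩ ⟨b, q⟩ hab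
          have h1 : p = q := by
            have := hcls (a, p)
            rw [hab, hcls (b, q)] at this
            exact this.symm
          subst h1
          have h3 : (![1, z, e, e * z] : Fin 4 → G) a * rep p = (![1, z, e, e * z] : Fin 4 → G) b * rep p :=
            congrArg Subtype.val hab
          rw [hWi (mul_right_cancel h3)]
        have := Nat.card_le_card_of_injective f hf
        simpa using this
      have h16 : Nat.card ↥(Q ⊓ L : Subgroup G) ∣ 16 := by
        have h3 : Nat.card ↥(Q ⊓ L : Subgroup G) ∣ 2 ^ 5 := by norm_num; exact hdvd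
        obtain ⟨k, hk, hk'⟩ := (Nat.dvd_prime_pow Nat.prime_two).1 h3
        rw [hk'] at hlt hge ⊢
        interval_cases k <;> omega
      exact le_antisymm (Nat.le_of_dvd (by norm_num) h16) hge

/-- **Part [G] of S1759**: `Q ≤ L` or `Q ∩ L ≅ 4 ∘ Q₈`. -/
theorem main [Finite G] (h : Hyp Q L z) : Q ≤ L ∨ ∃ e i j, Four Q L z e i j := by
  by_cases hle : Q ≤ L
  · exact Or.inl hle
  · obtain ⟨x, y, h2⟩ := h.exists_pair hle
    exact Or.inr h2.exists_four

end Cfsg.Agent.LargeExtra.W2.NonSimple
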