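import Cfsg.Agent.LargeExtra.W2.Main
import Cfsg.Agent.LargeExtra.W2.MTwelve
import Cfsg.Agent.AltType.Recognize
import Cfsg.Agent.SmallExtra438.NineAGeo

/-!
# S1759: the recognition theorems collected (helper995)
-/

set_option autoImplicit false

universe u

namespace Cfsg.Agent.LargeExtra.W2.RecogOf

open Cfsg.Agent.LargeExtra.W2.Simple

/-- `Recog` from the five recognition theorems still separate: `M₁₂` from its Sylow `2`-subgroup (S1741), `G₂(3)`,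
`PSL₄(3)`/`PSU₄(3)`, and the minus type. -/
theorem recog_of {G : Type u} [Group G] [Finite G] [IsSimpleGroup G] (hnc : ¬ IsMulCommutative G)
    (h1741 : ∀ (S : Sylow 2 G) (P : Sylow 2 ↥Cfsg.Spor.M12),
      Nonempty (↥(S : Subgroup G) ≃* ↥(P : Subgroup ↥Cfsg.Spor.M12)) →
      (∃ x y : G, orderOf x = 2 ∧ orderOf y = 2 ∧ ¬ IsConj x y) → Cfsg.Spor.IsoM12 G)
    (c9 : ∀ (Q : Subgroup G) (z i j k l x₁ x₂ y : G), Case9c Q z i j k l x₁ x₂ y →
      ∃ (F : Type) (_ : Field F) (_ : Fintype F), Fintype.card F = 3 ∧ Nonempty (G ≃* ↥(Cfsg.Lie.chevG2.group F)))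
    (aa : ∀ (Q : Subgroup G) (z i j k l x₁ x₂ y s : G), Case9aa Q z i j k l x₁ x₂ y s →
      (∀ g : G, g * z * g⁻¹ ∈ Q → g * z * g⁻¹ = z) →
      ∃ (F : Type) (_ : Field F) (_ : Fintype F), Fintype.card F = 3 ∧
        Nonempty (G ≃* Matrix.ProjectiveSpecialLinearGroup (Fin 4) F))
    (aa' : ∀ (Q : Subgroup G) (z i j k l x₁ x₂ y s g : G), Case9aa Q z i j k l x₁ x₂ y s →
      g * z * g⁻¹ ∈ Q → g * z * g⁻¹ ≠ z →
      ∃ (F : Type) (_ : Field F) (_ : Fintype F), Fintype.card F = 9 ∧ Nonempty (G ≃* Cfsg.PSU 4 F 3))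
    (minus : ∀ (Q : Subgroup G) (z i j k l : G), Minus Q z i j k l →
      (∀ N : Subgroup G, Q ≤ N → N ≤ Subgroup.centralizer ({z} : Set G) →
      (∀ c ∈ Subgroup.centralizer ({z} : Set G), ∀ n ∈ N, c * n * c⁻¹ ∈ N) → IsPGroup 2 N → N ≤ Q) → Concl G) :
    Recog G where
  F1 Q z i j k l w s h := by
    rcases AltType.recognize hnc h with h1 | h1
    · exact Or.inr (Or.inr (Or.inr (Or.inl h1)))
    · exact Or.inr (Or.inr (Or.inr (Or.inr (Or.inl h1))))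
  F2 Q z i j k l v y h := Or.inr (Or.inr (Or.inr (Or.inr (Or.inr (Or.inl (MTwelve.recognize_of h h1741))))))
  a9 Q z i j k l x₁ x₂ s h := Or.inr (Or.inl (SmallExtra438.NineAGeo.recognize hnc h))
  c9 Q z i j k l x₁ x₂ y h := by
    obtain ⟨F, i1, i2, hF, h1⟩ := c9 Q z i j k l x₁ x₂ y h
    exact Or.inr (Or.inr (Or.inl ⟨F, i1, i2, hF, Or.inr h1⟩))
  aa Q z i j k l x₁ x₂ y s h := by
    by_cases h1 : ∀ g : G, g * z * g⁻¹ ∈ Q → g * z * g⁻¹ = z
    · obtain ⟨F, i1, i2, hF, h1⟩ := aa Q z i j k l x₁ x₂ y s h h1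
      exact Or.inr (Or.inr (Or.inl ⟨F, i1, i2, hF, Or.inl h1⟩))
    · push Not at h1
      obtain ⟨g, hg, hne⟩ := h1
      obtain ⟨F, i1, i2, hF, h1⟩ := aa' Q z i j k l x₁ x₂ y s g h hg hne
      exact Or.inl ⟨F, i1, i2, hF, Or.inr h1⟩
  minus := minus

end Cfsg.Agent.LargeExtra.W2.RecogOf
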