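import Cfsg.Agent.LargeExtra.W2.ThreeA

/-!
# Generic lemmas for the 3-local analysis (S1759; helper865)

* `card_le_of_cube`: an automorphism of order `3` of an elementary abelian 3-group `W` has `≥ |W|^(1/3)` fixed points;
* `exists_compl`: isolated involution which is the only 2-element of its centralizer: normal 2-complement;
* `inv_of_self_cent`: a group in which a four-group `V = ⟨z, t⟩` is self-centralising, `N(V) ≤ C(V)`,
  has a normal 2-complement; if `C(z) ≤ V` it is inverted by `z`.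
-/

set_option autoImplicit false

namespace Cfsg.Agent.LargeExtra.W2.ThreeB

section jordan

variable {W : Type*} [Group W] [Finite W]

omit [Finite W] in
/-- `|N| = |N ∩ ker n| |n(N)|` -/
theorem card_eq_ker_mul (n : W →* W) (N : Subgroup W) :
    Nat.card N = Nat.card (N ⊓ n.ker : Subgroup W) * Nat.card (N.map n) := by
  have h1 := Subgroup.card_eq_card_quotient_mul_card_subgroup (n.domRestrict N).ker
  have h2 : Nat.card (n.domRestrict N).ker = Nat.card (N ⊓ n.ker : Subgroup W) := by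
    refine Nat.card_congr ⟨fun x => ⟨x.1.1, x.1.2, x.2⟩, fun x => ⟨⟨x.1, x.2.1⟩, x.2.2⟩, ?_, ?_⟩
    · intro x; rfl
    · intro x; rfl
  have h3 : Nat.card (N ⧸ (n.domRestrict N).ker) = Nat.card (N.map n) := by
    rw [Nat.card_congr (QuotientGroup.quotientKerEquivRange (n.domRestrict N)).toEquiv]
    congr 1
    have : (n.domRestrict N).range = N.map n := by
      ext w
      constructor
      · rintro ⟨x, rfl⟩
        exact ⟨x, x.2, rfl⟩
      · rintro ⟨x, hx, rfl⟩
        exact ⟨⟨x, hx⟩, rfl⟩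
    rw [this]
  rw [h1, h2, h3, mul_comm]

/-- Jordan blocks: an automorphism `φ` of order `3` of an elementary abelian 3-group. -/
theorem card_le_of_cube (hcomm : ∀ a b : W, a * b = b * a) (h3 : ∀ w : W, w ^ 3 = 1) (φ : W →* W)
    (hφ : ∀ w, φ (φ (φ w)) = w) : Nat.card W ≤ Nat.card {w : W // φ w = w} ^ 3 := by
  let n : W →* W :=
    { toFun := fun w => φ w * w⁻¹
      map_one' := by simp
      map_mul' := by
        intro a b
        rw [map_mul, mul_inv_rev]
        calc φ a * φ b * (b⁻¹ * a⁻¹) = φ a * (φ b * b⁻¹ * a⁻¹) := by group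
          _ = φ a * (a⁻¹ * (φ b * b⁻¹)) := by rw [hcomm a⁻¹]
          _ = φ a * a⁻¹ * (φ b * b⁻¹) := by group }
  have hn : ∀ w, n w = φ w * w⁻¹ := fun w => rfl
  have hker : Nat.card n.ker = Nat.card {w : W // φ w = w} := by
    refine Nat.card_congr (Equiv.subtypeEquivRight ?_)
    intro w
    rw [MonoidHom.mem_ker, hn, mul_inv_eq_one]
  have hn3 : ∀ w, n (n (n w)) = 1 := by
    intro w
    have hsq : ∀ w : W, w * w = w⁻¹ := by
      intro w
      have := h3 w
      rw [pow_succ, pow_two] at this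
      exact eq_inv_of_mul_eq_one_left this
    simp only [hn, map_mul, map_inv, hφ]
    have hc := hcomm
    -- `w (φ²w)⁻¹ ...`
    calc w * (φ (φ w))⁻¹ * (φ (φ w) * (φ w)⁻¹)⁻¹ * (φ (φ w) * (φ w)⁻¹ * (φ w * w⁻¹)⁻¹)⁻¹
        = w * (φ (φ w))⁻¹ * (φ w * (φ (φ w))⁻¹) * (φ w * (w⁻¹ * (φ w * (φ (φ w))⁻¹))) := by group
      _ = w * w⁻¹ * ((φ w) * (φ w) * (φ w)) * ((φ (φ w))⁻¹ * (φ (φ w))⁻¹ * (φ (φ w))⁻¹) := by
          generalize φ (φ w) = a
          generalize φ w = b
          have c1 : a⁻¹ * b = b * a⁻¹ := hc _ _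
          have c2 : a⁻¹ * w⁻¹ = w⁻¹ * a⁻¹ := hc _ _
          have c3 : b * w⁻¹ = w⁻¹ * b := hc _ _
          let _ : CommGroup W := { (inferInstance : Group W) with mul_comm := hc }
          simp only [mul_comm, mul_left_comm, mul_assoc]
      _ = 1 := by
          rw [hsq (φ w), hsq (φ (φ w))⁻¹]
          simp
  have e0 := card_eq_ker_mul n ⊤
  have e1 := card_eq_ker_mul n ((⊤ : Subgroup W).map n)
  rw [top_inf_eq, Subgroup.card_top] at e0
  have l1 : Nat.card ((⊤ : Subgroup W).map n ⊓ n.ker : Subgroup W) ≤ Nat.card n.ker :=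
    Subgroup.card_le_of_le inf_le_right
  have l2 : Nat.card (((⊤ : Subgroup W).map n).map n) ≤ Nat.card n.ker := by
    apply Subgroup.card_le_of_le
    rintro _ ⟨_, ⟨w, -, rfl⟩, rfl⟩
    exact hn3 w
  rw [← hker, e0, e1, pow_succ, pow_two, mul_assoc]
  exact Nat.mul_le_mul_left _ (Nat.mul_le_mul l1 l2)

end jordan

/-- `|R| ≤ |A| |B|` if `R ⊆ A B`. -/
theorem card_le_mul {G : Type*} [Group G] [Finite G] (R A B : Subgroup G)
    (h : ∀ r ∈ R, ∃ a ∈ A, ∃ b ∈ B, r = a * b) : Nat.card R ≤ Nat.card A * Nat.card B := by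
  classical
  rw [← Nat.card_prod]
  choose! f hf g hg hfg using h
  refine Nat.card_le_card_of_injective
    (fun r : R => ((⟨f r, hf r r.2⟩, ⟨g r, hg r r.2⟩) : A × B)) ?_
  intro r s hrs
  have h1 : f r = f s := congrArg (fun t : A × B => (t.1 : G)) hrs
  have h2 : g r = g s := congrArg (fun t : A × B => (t.2 : G)) hrs
  apply Subtype.ext
  rw [hfg r r.2, hfg s s.2, h1, h2]

/-- `|A| |B| ≤ |R|` if `A, B ≤ R`, `A ∩ B = 1`. -/
theorem mul_card_le {G : Type*} [Group G] [Finite G] (R A B : Subgroup G) (hA : A ≤ R) (hB : B ≤ R)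
    (hAB : ∀ a ∈ A, a ∈ B → a = 1) : Nat.card A * Nat.card B ≤ Nat.card R := by
  rw [← Nat.card_prod]
  refine Nat.card_le_card_of_injective
    (fun t : A × B => (⟨t.1 * t.2, R.mul_mem (hA t.1.2) (hB t.2.2)⟩ : R)) ?_
  rintro ⟨⟨a, ha⟩, ⟨b, hb⟩⟩ ⟨⟨c, hc⟩, ⟨d, hd⟩⟩ e
  have e1 : a * b = c * d := congrArg Subtype.val e
  have e2 : c⁻¹ * a = d * b⁻¹ := by
    calc c⁻¹ * a = c⁻¹ * (a * b) * b⁻¹ := by group
      _ = d * b⁻¹ := by rw [e1]; group
  have e3 : c⁻¹ * a = 1 := hAB _ (A.mul_mem (A.inv_mem hc) ha) (by rw [e2]; exact B.mul_mem hd (B.inv_mem hb))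
  have e4 : a = c := by rw [inv_mul_eq_one] at e3; exact e3.symm
  subst e4
  have e5 : b = d := mul_left_cancel e1
  subst e5
  rfl

/-- Jordan blocks for a section `K / N`. -/
theorem card_fix_mod {G : Type*} [Group G] [Finite G] (K N M : Subgroup G) (hNK : N ≤ K)
    (hnorm : ∀ k ∈ K, ∀ n ∈ N, k * n * k⁻¹ ∈ N) (hab : ∀ k ∈ K, ∀ l ∈ K, k * l * k⁻¹ * l⁻¹ ∈ N)
    (hexp : ∀ k ∈ K, k ^ 3 ∈ N) (x : G) (hx3 : x ^ 3 = 1) (hxK : ∀ k ∈ K, x * k * x⁻¹ ∈ K)
    (hxN : ∀ n ∈ N, x * n * x⁻¹ ∈ N) (hM : ∀ k ∈ K, x * k * x⁻¹ * k⁻¹ ∈ N → k ∈ M) :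
    Nat.card K * Nat.card N ^ 2 ≤ Nat.card M ^ 3 := by
  classical
  let N' : Subgroup K := N.subgroupOf K
  have hN' : N'.Normal := ⟨fun n hn g => hnorm g g.2 n hn⟩
  let φ₀ : K →* K :=
    { toFun := fun k => ⟨x * k * x⁻¹, hxK k k.2⟩
      map_one' := Subtype.ext (by simp)
      map_mul' := fun a b => Subtype.ext (by show x * ((a : G) * b) * x⁻¹ = x * a * x⁻¹ * (x * b * x⁻¹); group) }
  have hφ₀ : ∀ k : K, ((φ₀ k : K) : G) = x * k * x⁻¹ := fun k => rfl
  let φ : K ⧸ N' →* K ⧸ N' := QuotientGroup.map N' N' φ₀ (by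
    intro n hn
    exact hxN n hn)
  have hφ : ∀ k : K, φ (QuotientGroup.mk k) = QuotientGroup.mk (φ₀ k) := fun k => rfl
  have hcomm : ∀ a b : K ⧸ N', a * b = b * a := by
    intro a b
    induction a using QuotientGroup.induction_on with
    | H a =>
      induction b using QuotientGroup.induction_on with
      | H b =>
        rw [← QuotientGroup.mk_mul, ← QuotientGroup.mk_mul, QuotientGroup.eq]
        have h1 := hab b⁻¹ (K.inv_mem b.2) a⁻¹ (K.inv_mem a.2)
        show ((a * b)⁻¹ * (b * a) : K) ∈ N'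
        have e : (((a * b)⁻¹ * (b * a) : K) : G) = (b : G)⁻¹ * (a : G)⁻¹ * (b : G)⁻¹⁻¹ * (a : G)⁻¹⁻¹ := by
          show ((a : G) * b)⁻¹ * (b * a) = _
          group
        show (((a * b)⁻¹ * (b * a) : K) : G) ∈ N
        rw [e]
        exact h1
  have h3 : ∀ w : K ⧸ N', w ^ 3 = 1 := by
    intro w
    induction w using QuotientGroup.induction_on with
    | H w =>
      rw [← QuotientGroup.mk_pow, QuotientGroup.eq_one_iff]
      exact hexp w w.2
  have hφ3 : ∀ w : K ⧸ N', φ (φ (φ w)) = w := by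
    intro w
    induction w using QuotientGroup.induction_on with
    | H w =>
      rw [hφ, hφ, hφ]
      congr 1
      apply Subtype.ext
      show x * (x * (x * (w : G) * x⁻¹) * x⁻¹) * x⁻¹ = w
      have : x * (x * (x * (w : G) * x⁻¹) * x⁻¹) * x⁻¹ = (x * x * x) * w * (x * x * x)⁻¹ := by group
      rw [this, show x * x * x = 1 by rw [← hx3, pow_succ, pow_two]]; group
  have hmain := card_le_of_cube hcomm h3 φ hφ3
  -- the fixed subgroup
  let F : Subgroup (K ⧸ N') :=
    { carrier := {w | φ w = w}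
      one_mem' := map_one φ
      mul_mem' := by
        intro a b ha hb
        show φ (a * b) = a * b
        rw [map_mul, show φ a = a from ha, show φ b = b from hb]
      inv_mem' := by
        intro a ha
        show φ a⁻¹ = a⁻¹
        rw [map_inv, show φ a = a from ha] }
  have hF : Nat.card {w : K ⧸ N' // φ w = w} = Nat.card F := rfl
  have hcK : Nat.card K = Nat.card (K ⧸ N') * Nat.card N' := Subgroup.card_eq_card_quotient_mul_card_subgroup N'
  have hcN : Nat.card N' = Nat.card N := Nat.card_congr (Subgroup.subgroupOfEquivOfLe hNK).toEquiv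
  have hD : Nat.card F * Nat.card N ≤ Nat.card M := by
    have h1 : Nat.card (F.comap (QuotientGroup.mk' N')) = Nat.card F * Nat.card N' := by
      have h2 := Subgroup.card_eq_card_quotient_mul_card_subgroup
        (N'.subgroupOf (F.comap (QuotientGroup.mk' N')))
      have hle : N' ≤ F.comap (QuotientGroup.mk' N') := by
        intro n hn
        show φ (QuotientGroup.mk' N' n) = QuotientGroup.mk' N' n
        have : QuotientGroup.mk' N' n = 1 := (QuotientGroup.eq_one_iff n).2 hn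
        rw [this, map_one]
      have h3 := Subgroup.index_comap_of_surjective F (QuotientGroup.mk'_surjective N')
      have h4 := Subgroup.card_mul_index (F.comap (QuotientGroup.mk' N'))
      have h5 := Subgroup.card_mul_index F
      rw [h3, hcK, ← h5] at h4
      have hpos : 0 < F.index := Nat.pos_of_ne_zero Subgroup.index_ne_zero_of_finite
      apply Nat.eq_of_mul_eq_mul_right hpos
      rw [h4]; ring
    rw [← hcN, ← h1]
    refine Nat.card_le_card_of_injective
      (fun d : F.comap (QuotientGroup.mk' N') => (⟨((d : K) : G), ?_⟩ : M)) ?_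
    · apply hM _ (d : K).2
      have h1 : φ (QuotientGroup.mk (d : K)) = QuotientGroup.mk (d : K) := d.2
      rw [hφ] at h1
      have h2 := (QuotientGroup.eq (s := N')).1 h1.symm
      -- `d⁻¹ φ₀ d ∈ N`
      have h3 : ((d : K) : G)⁻¹ * (x * ((d : K) : G) * x⁻¹) ∈ N := h2
      have h4 := hnorm _ (d : K).2 _ h3
      have e : ((d : K) : G) * (((d : K) : G)⁻¹ * (x * ((d : K) : G) * x⁻¹)) * ((d : K) : G)⁻¹ =
          x * ((d : K) : G) * x⁻¹ * ((d : K) : G)⁻¹ := by group
      rwa [e] at h4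
    · intro a b hab
      have : ((a : K) : G) = ((b : K) : G) := congrArg (fun m : M => (m : G)) hab
      exact Subtype.ext (Subtype.ext this)
  rw [hF] at hmain
  rw [hcK, hcN]
  calc Nat.card (K ⧸ N') * Nat.card N * Nat.card N ^ 2 = Nat.card (K ⧸ N') * Nat.card N ^ 3 := by ring
    _ ≤ Nat.card F ^ 3 * Nat.card N ^ 3 := Nat.mul_le_mul_right _ hmain
    _ = (Nat.card F * Nat.card N) ^ 3 := by ring
    _ ≤ Nat.card M ^ 3 := Nat.pow_le_pow_left hD 3

/-- Burnside: normal 2-complement. -/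
theorem exists_compl_of_normalizer {B : Type*} [Group B] [Finite B] (S : Sylow 2 B)
    (hS : Subgroup.normalizer (S : Set B) ≤ Subgroup.centralizer (S : Set B)) :
    ∃ F : Subgroup B, F.Normal ∧ Odd (Nat.card F) ∧ (∀ x : B, x ∈ F ↔ Odd (orderOf x)) ∧
      F ⊔ (S : Subgroup B) = ⊤ := by
  have : Fact (Nat.Prime 2) := ⟨Nat.prime_two⟩
  have hc := MonoidHom.ker_transferSylow_isComplement' S hS
  have hnd := MonoidHom.not_dvd_card_ker_transferSylow S hS
  set f := MonoidHom.transferSylow S hS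
  refine ⟨f.ker, inferInstance, ?_, ?_, hc.sup_eq_top⟩
  · rw [← Nat.not_even_iff_odd, even_iff_two_dvd]
    exact hnd
  · intro x
    constructor
    · intro hx
      rw [← Nat.not_even_iff_odd, even_iff_two_dvd]
      intro h
      apply hnd
      have := orderOf_dvd_natCard (⟨x, hx⟩ : f.ker)
      rw [Subgroup.orderOf_mk] at this
      exact h.trans this
    · intro hx
      rw [MonoidHom.mem_ker]
      have h1 : orderOf (f x) ∣ orderOf x := orderOf_map_dvd f x
      obtain ⟨k, hk⟩ := S.2 (f x)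
      have h3 : orderOf (f x) ∣ 2 ^ k := orderOf_dvd_of_pow_eq_one hk
      rw [← orderOf_eq_one_iff]
      have hcop : Nat.Coprime (orderOf x) (2 ^ k) := (Nat.Coprime.pow_right k
        (Nat.coprime_two_right.mpr hx))
      exact Nat.eq_one_of_dvd_coprimes hcop h1 h3

/-- `z` isolated in `H` with centralizer containing no other 2-element: normal 2-complement. -/
theorem exists_compl {G : Type*} [Group G] [Finite G] (H : Subgroup G) {z : G} (hz : z ∈ H) (hz1 : z ≠ 1)
    (hzz : z * z = 1) (huniq : ∀ t ∈ H, t * z = z * t → (∃ k : ℕ, t ^ (2 ^ k) = 1) → t = 1 ∨ t = z) :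
    ∃ F : Subgroup G, Odd (Nat.card F) ∧ (∀ g, g ∈ F ↔ g ∈ H ∧ Odd (orderOf g)) ∧
      (∀ g ∈ H, g ∈ F ∨ g * z ∈ F) ∧ (∀ g ∈ H, ∀ f ∈ F, g * f * g⁻¹ ∈ F) := by
  have : Fact (Nat.Prime 2) := ⟨Nat.prime_two⟩
  set zK : H := ⟨z, hz⟩ with hzK
  have hzK2 : zK ^ 2 = 1 := Subtype.ext (by show z ^ 2 = 1; rw [pow_two, hzz])
  have hzKne : zK ≠ 1 := fun he => hz1 (congrArg Subtype.val he)
  have hpz : IsPGroup 2 (Subgroup.zpowers zK) := by
    apply IsPGroup.of_card (n := 1)
    rw [Nat.card_zpowers, pow_one, orderOf_eq_prime hzK2 hzKne]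
  obtain ⟨T, hT⟩ := hpz.exists_le_sylow
  have hzT : zK ∈ T := hT (Subgroup.mem_zpowers zK)
  have hpow : ∀ t ∈ T, ∃ k : ℕ, (t : G) ^ (2 ^ k) = 1 := by
    intro t ht
    obtain ⟨k, hk⟩ := T.isPGroup' ⟨t, ht⟩
    exact ⟨k, congrArg Subtype.val (congrArg Subtype.val hk)⟩
  have hTz : (T : Subgroup H) = Subgroup.zpowers zK := by
    by_contra hne
    obtain ⟨r, hr1, hr2, hr3⟩ := ThreeA.exists_normalizing T.isPGroup' hT (fun h => hne h.symm)
    have h1 : r * zK * r⁻¹ ∈ Subgroup.zpowers zK := hr3 _ (Subgroup.mem_zpowers zK)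
    have h2 : r * zK * r⁻¹ = zK := by
      obtain ⟨n, hn⟩ := h1
      have hn' : zK ^ n = r * zK * r⁻¹ := hn
      rcases Int.even_or_odd' n with ⟨m, rfl | rfl⟩
      · exfalso
        rw [zpow_mul, show zK ^ (2 : ℤ) = 1 by exact_mod_cast hzK2, one_zpow] at hn'
        apply hzKne
        calc zK = r⁻¹ * (r * zK * r⁻¹) * r := by group
          _ = 1 := by rw [← hn']; group
      · rw [zpow_add, zpow_mul, show zK ^ (2 : ℤ) = 1 by exact_mod_cast hzK2, one_zpow, one_mul, zpow_one] at hn'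
        exact hn'.symm
    have h3 : (r : G) * z = z * r := by
      have := congrArg Subtype.val (mul_inv_eq_iff_eq_mul.1 h2)
      exact this
    rcases huniq r r.2 h3 (hpow r hr1) with h4 | h4
    · apply hr2
      have : r = 1 := Subtype.ext h4
      rw [this]; exact Subgroup.one_mem _
    · apply hr2
      have : r = zK := Subtype.ext h4
      rw [this]; exact Subgroup.mem_zpowers zK
  have hmemT : ∀ t ∈ (T : Subgroup H), t = 1 ∨ t = zK := by
    intro t ht
    rw [hTz] at ht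
    obtain ⟨n, hn⟩ := ht
    have hn' : zK ^ n = t := hn
    rcases Int.even_or_odd' n with ⟨m, rfl | rfl⟩
    · left
      rw [← hn', zpow_mul, show zK ^ (2 : ℤ) = 1 by exact_mod_cast hzK2, one_zpow]
    · right
      rw [← hn', zpow_add, zpow_mul, show zK ^ (2 : ℤ) = 1 by exact_mod_cast hzK2, one_zpow, one_mul, zpow_one]
  have hN : Subgroup.normalizer (T : Set H) ≤ Subgroup.centralizer (T : Set H) := by
    intro r hr
    rw [Subgroup.mem_centralizer_iff]
    intro t ht
    have hr' : r * zK * r⁻¹ ∈ (T : Subgroup H) := (Subgroup.mem_normalizer_iff.1 hr zK).1 hzT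
    have h2 : r * zK * r⁻¹ = zK := by
      rcases hmemT _ hr' with h4 | h4
      · exfalso
        apply hzKne
        calc zK = r⁻¹ * (r * zK * r⁻¹) * r := by group
          _ = 1 := by rw [h4]; group
      · exact h4
    rcases hmemT t ht with rfl | rfl
    · group
    · exact (mul_inv_eq_iff_eq_mul.1 h2).symm
  obtain ⟨F₀, hnor, hodd, hmem, hsup⟩ := exists_compl_of_normalizer T hN
  refine ⟨F₀.map H.subtype, ?_, ?_, ?_, ?_⟩
  · rwa [Subgroup.card_map_of_injective (Subgroup.subtype_injective _)]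
  · intro g
    constructor
    · rintro ⟨x, hx, rfl⟩
      refine ⟨x.2, ?_⟩
      have := (hmem x).1 hx
      rwa [← Subgroup.orderOf_coe] at this
    · rintro ⟨hg, ho⟩
      refine ⟨⟨g, hg⟩, (hmem _).2 ?_, rfl⟩
      rwa [Subgroup.orderOf_mk]
  · intro g hg
    have h1 : (⟨g, hg⟩ : H) ∈ F₀ ⊔ (T : Subgroup H) := by rw [hsup]; exact Subgroup.mem_top _
    rw [Subgroup.mem_sup_of_normal_left] at h1
    obtain ⟨f, hf, t, ht, hft⟩ := h1
    have hft' : (f : G) * t = g := congrArg Subtype.val hft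
    rcases hmemT t ht with rfl | rfl
    · left
      refine ⟨f, hf, ?_⟩
      show (f : G) = g
      rw [← hft']; simp
    · right
      refine ⟨f, hf, ?_⟩
      show (f : G) = g * z
      rw [← hft', hzK, mul_assoc, hzz, mul_one]
  · rintro g hg _ ⟨f, hf, rfl⟩
    exact ⟨⟨g, hg⟩ * f * ⟨g, hg⟩⁻¹, hnor.conj_mem f hf _, rfl⟩

/-- `t` a central involution of `B`, `z` an involution of `B` not conjugate to `z t`, `C_B(z) = ⟨z, t⟩`: the
elements of odd order of `B` are inverted by `z` and commute. -/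
theorem inverted {G : Type*} [Group G] [Finite G] (B : Subgroup G) {z t : G} (hz : z ∈ B) (ht : t ∈ B)
    (hz1 : z ≠ 1) (hzt1 : z ≠ t) (hzz : z * z = 1) (htt : t * t = 1) (htB : ∀ b ∈ B, b * t = t * b)
    (hcent : ∀ b ∈ B, b * z = z * b → b = 1 ∨ b = z ∨ b = t ∨ b = z * t)
    (hfus : ∀ b ∈ B, b * z * b⁻¹ ≠ z * t) {b c : G} (hb : b ∈ B) (hc : c ∈ B) (hbo : Odd (orderOf b))
    (hco : Odd (orderOf c)) : z * b * z⁻¹ = b⁻¹ ∧ b * c = c * b := by
  have : Fact (Nat.Prime 2) := ⟨Nat.prime_two⟩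
  have hzt : z * t = t * z := htB z hz
  have hztt : z * t * (z * t) = 1 := by
    calc z * t * (z * t) = z * (t * z) * t := by group
      _ = (z * z) * (t * t) := by rw [← hzt]; group
      _ = 1 := by rw [hzz, htt, mul_one]
  -- the four-group
  let V : Subgroup B :=
    { carrier := {v | (v : G) = 1 ∨ (v : G) = z ∨ (v : G) = t ∨ (v : G) = z * t}
      one_mem' := Or.inl rfl
      mul_mem' := by
        rintro a b ha hb
        have e1 : z * (z * t) = t := by rw [← mul_assoc, hzz, one_mul]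
        have e2 : t * (z * t) = z := by rw [← mul_assoc, ← hzt, mul_assoc, htt, mul_one]
        have e3 : z * t * z = t := by rw [hzt, mul_assoc, hzz, mul_one]
        have e4 : z * t * t = z := by rw [mul_assoc, htt, mul_one]
        rcases ha with ha | ha | ha | ha <;> rcases hb with hb | hb | hb | hb <;>
          simp only [Set.mem_ofPred_eq, Subgroup.coe_mul, ha, hb, one_mul, mul_one, hzz, htt, e1, e2, e3, e4,
            hztt, ← hzt] <;> simp
      inv_mem' := by
        rintro a ha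
        have i1 : z⁻¹ = z := inv_eq_of_mul_eq_one_right hzz
        have i2 : t⁻¹ = t := inv_eq_of_mul_eq_one_right htt
        rcases ha with ha | ha | ha | ha <;>
          simp only [Set.mem_ofPred_eq, Subgroup.coe_inv, ha, inv_one, i1, i2, mul_inv_rev, ← hzt] <;> simp }
  have hVmem : ∀ v : B, v ∈ V ↔ ((v : G) = 1 ∨ (v : G) = z ∨ (v : G) = t ∨ (v : G) = z * t) := fun v => Iff.rfl
  have hV2 : IsPGroup 2 V := by
    rintro ⟨v, hv⟩
    refine ⟨1, Subtype.ext (Subtype.ext ?_)⟩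
    show (v : G) ^ (2 ^ 1) = 1
    rw [pow_one, pow_two]
    rcases hv with hv | hv | hv | hv <;> rw [hv]
    · rw [one_mul]
    · exact hzz
    · exact htt
    · exact hztt
  have hzV : (⟨z, hz⟩ : B) ∈ V := Or.inr (Or.inl rfl)
  have htV : (⟨t, ht⟩ : B) ∈ V := Or.inr (Or.inr (Or.inl rfl))
  -- elements normalising `V` centralise it
  have hnorm : ∀ r : B, r * ⟨z, hz⟩ * r⁻¹ ∈ V → (r : G) * z = z * r := by
    intro r hr
    have hr' : (r : G) * z * (r : G)⁻¹ = 1 ∨ (r : G) * z * (r : G)⁻¹ = z ∨ (r : G) * z * (r : G)⁻¹ = t ∨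
        (r : G) * z * (r : G)⁻¹ = z * t := hr
    rcases hr' with h1 | h1 | h1 | h1
    · exfalso
      apply hz1
      calc z = (r : G)⁻¹ * ((r : G) * z * (r : G)⁻¹) * r := by group
        _ = 1 := by rw [h1]; group
    · exact mul_inv_eq_iff_eq_mul.1 h1
    · exfalso
      apply hzt1
      calc z = (r : G)⁻¹ * ((r : G) * z * (r : G)⁻¹) * r := by group
        _ = (r : G)⁻¹ * (t * r) := by rw [h1]; group
        _ = t := by rw [← htB r r.2]; group
    · exact absurd h1 (hfus r r.2)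
  obtain ⟨S, hS⟩ := hV2.exists_le_sylow
  have hSV : V = (S : Subgroup B) := by
    by_contra hne
    obtain ⟨r, hr1, hr2, hr3⟩ := ThreeA.exists_normalizing S.isPGroup' hS hne
    apply hr2
    exact hcent r r.2 (hnorm r (hr3 _ hzV))
  have hN : Subgroup.normalizer (S : Set B) ≤ Subgroup.centralizer (S : Set B) := by
    intro r hr
    rw [Subgroup.mem_centralizer_iff]
    intro s hs
    have hr' : r * ⟨z, hz⟩ * r⁻¹ ∈ (S : Subgroup B) := (Subgroup.mem_normalizer_iff.1 hr _).1 (hS hzV)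
    rw [← hSV] at hr'
    have h1 := hnorm r hr'
    have h2 := htB r r.2
    have hs' : s ∈ V := by rw [hSV]; exact hs
    apply Subtype.ext
    show (s : G) * r = r * s
    rcases hs' with h3 | h3 | h3 | h3 <;> rw [h3]
    · group
    · exact h1.symm
    · exact h2.symm
    · exact ((show Commute (r : G) z from h1).mul_right (show Commute (r : G) t from h2)).symm.eq
  obtain ⟨F₀, hnor, hodd, hmem, -⟩ := exists_compl_of_normalizer S hN
  -- `z` inverts `F`
  have hinv : ∀ f : B, f ∈ F₀ → z * (f : G) * z⁻¹ = (f : G)⁻¹ := by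
    intro f hf
    have hFodd : Odd (Nat.card (F₀.map B.subtype)) := by
      rwa [Subgroup.card_map_of_injective (Subgroup.subtype_injective _)]
    obtain ⟨c, hc, m, hm, hzc, hzm, hkcm⟩ :=
      Cfsg.Agent.Lib.KleinGen.exists_centralizer_mul_inverted (F₀.map B.subtype) hFodd z hzz
        (by
          rintro _ ⟨f, hf, rfl⟩
          exact ⟨⟨z, hz⟩ * f * ⟨z, hz⟩⁻¹, hnor.conj_mem f hf _, rfl⟩) (h := (f : G)) ⟨f, hf, rfl⟩
    have hc1 : c = 1 := by
      obtain ⟨c', hc', rfl⟩ := hc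
      have h1 := hcent c' c'.2 hzc.symm
      have h2 : c' ∈ V := h1
      have h3 : c' = 1 := by
        apply ThreeA.eq_one_of_two_odd hV2 h2
        exact (hmem c').1 hc'
      rw [h3]; rfl
    rw [hkcm, hc1, one_mul]
    exact hzm
  have hbF : (⟨b, hb⟩ : B) ∈ F₀ := (hmem _).2 (by rwa [Subgroup.orderOf_mk])
  have hcF : (⟨c, hc⟩ : B) ∈ F₀ := (hmem _).2 (by rwa [Subgroup.orderOf_mk])
  have e1 := hinv _ hbF
  have e2 := hinv _ hcF
  have e3 := hinv _ (F₀.mul_mem hbF hcF)
  refine ⟨e1, ?_⟩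
  have e1' : z * b * z⁻¹ = b⁻¹ := e1
  have e2' : z * c * z⁻¹ = c⁻¹ := e2
  have e3' : z * (b * c) * z⁻¹ = (b * c)⁻¹ := e3
  have e4 : b⁻¹ * c⁻¹ = (b * c)⁻¹ := by
    rw [← e3', ← e1', ← e2']; group
  have e5 := congrArg (fun t => t⁻¹) e4
  simp only [mul_inv_rev, inv_inv] at e5
  exact e5.symm

end Cfsg.Agent.LargeExtra.W2.ThreeB
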