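import Cfsg.Agent.Lib.KleinGen
import Cfsg.Agent.CharactersDeep.QuatSylow
import Cfsg.Agent.Involutions.KleinFourSylow

/-!
# A 3-local lemma for `U₄(3)` (S1759; helper865)

`z` an involution of `G`, `P = ⟨ρ, c⟩` elementary of order `9` in `C_G(z)`, `C_G(z) ∩ C_G(ρ) = P⟨z, v⟩` of order
`36`, `v` an involution inverting `c`, `y ∈ C_G(ρ)` permuting `z → v → zv`. Then (under small fusion hypotheses)
`c` and `y c y⁻¹` commute.
-/

set_option autoImplicit false

namespace Cfsg.Agent.LargeExtra.W2.ThreeLocal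

variable {G : Type*} [Group G]

/-- The data in `C_G(z)`. -/
structure Loc (z v ρ c : G) : Prop where
  z1 : z ≠ 1
  zz : z * z = 1
  vv : v * v = 1
  zv : z * v = v * z
  ρ1 : ρ ≠ 1
  ρ3 : ρ ^ 3 = 1
  c3 : c ^ 3 = 1
  cρ : c ∉ Subgroup.zpowers ρ
  ρc : ρ * c = c * ρ
  zρ : z * ρ = ρ * z
  zc : z * c = c * z
  vρ : v * ρ = ρ * v
  vc : v * c * v⁻¹ = c⁻¹

/-- `⟨ρ, c⟩`, elements in normal form -/
def pGrp (ρ c : G) (h : ρ * c = c * ρ) : Subgroup G where
  carrier := {x | ∃ a b : ℤ, x = ρ ^ a * c ^ b}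
  one_mem' := ⟨0, 0, by simp⟩
  mul_mem' := by
    rintro x y ⟨a, b, rfl⟩ ⟨a', b', rfl⟩
    have hc : Commute (c ^ b) (ρ ^ a') := Commute.zpow_zpow (show Commute c ρ from h.symm) b a'
    refine ⟨a + a', b + b', ?_⟩
    calc ρ ^ a * c ^ b * (ρ ^ a' * c ^ b') = ρ ^ a * (c ^ b * ρ ^ a') * c ^ b' := by group
      _ = ρ ^ a * (ρ ^ a' * c ^ b) * c ^ b' := by rw [hc.eq]
      _ = ρ ^ (a + a') * c ^ (b + b') := by rw [zpow_add, zpow_add]; group
  inv_mem' := by
    rintro x ⟨a, b, rfl⟩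
    have hc : Commute (c ^ (-b)) (ρ ^ (-a)) := Commute.zpow_zpow (show Commute c ρ from h.symm) _ _
    refine ⟨-a, -b, ?_⟩
    rw [← hc.eq]; group

theorem mem_pGrp {ρ c : G} {h : ρ * c = c * ρ} {x : G} :
    x ∈ pGrp ρ c h ↔ ∃ a b : ℤ, x = ρ ^ a * c ^ b := Iff.rfl

theorem pGrp_eq {ρ c : G} (h : ρ * c = c * ρ) : pGrp ρ c h = Subgroup.closure {ρ, c} := by
  apply le_antisymm
  · rintro x ⟨a, b, rfl⟩
    exact Subgroup.mul_mem _ (Subgroup.zpow_mem _ (Subgroup.subset_closure (by simp)) _)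
      (Subgroup.zpow_mem _ (Subgroup.subset_closure (by simp)) _)
  · rw [Subgroup.closure_le]
    rintro x (rfl | rfl)
    · exact ⟨1, 0, by simp⟩
    · exact ⟨0, 1, by simp⟩

theorem pGrp_comm {ρ c : G} {h : ρ * c = c * ρ} {x y : G} (hx : x ∈ pGrp ρ c h) (hy : y ∈ pGrp ρ c h) :
    x * y = y * x := by
  obtain ⟨a, b, rfl⟩ := hx
  obtain ⟨a', b', rfl⟩ := hy
  have h0 : Commute ρ c := h
  have h1 : Commute (ρ ^ a) (ρ ^ a') := (Commute.refl ρ).zpow_zpow a a'
  have h2 : Commute (c ^ b) (c ^ b') := (Commute.refl c).zpow_zpow b b'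
  have h3 : Commute (ρ ^ a) (c ^ b') := h0.zpow_zpow a b'
  have h4 : Commute (c ^ b) (ρ ^ a') := h0.symm.zpow_zpow b a'
  exact ((h1.mul_right h3).mul_left (h4.mul_right h2)).eq

/-- `{g ∈ C_G(ρ) : [g, c] ∈ ⟨ρ⟩}` -/
def kGrp (ρ c : G) : Subgroup G where
  carrier := {g | g * ρ = ρ * g ∧ ∃ a : ℤ, g * c * g⁻¹ = c * ρ ^ a}
  one_mem' := ⟨by group, 0, by group⟩
  mul_mem' := by
    rintro g h ⟨hg, a, ha⟩ ⟨hh, b, hb⟩
    refine ⟨by rw [mul_assoc, hh, ← mul_assoc, hg, mul_assoc], a + b, ?_⟩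
    have hgb : Commute g (ρ ^ b) := Commute.zpow_right (show Commute g ρ from hg) b
    calc g * h * c * (g * h)⁻¹ = g * (h * c * h⁻¹) * g⁻¹ := by group
      _ = g * c * (ρ ^ b * g⁻¹) := by rw [hb]; group
      _ = g * c * (g⁻¹ * ρ ^ b) := by rw [hgb.symm.inv_right.eq]
      _ = (g * c * g⁻¹) * ρ ^ b := by group
      _ = c * ρ ^ (a + b) := by rw [ha, zpow_add]; group
  inv_mem' := by
    rintro g ⟨hg, a, ha⟩
    have hg' : Commute g ρ := hg
    refine ⟨hg'.inv_left.eq, -a, ?_⟩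
    have hga : Commute g⁻¹ (ρ ^ a) := hg'.inv_left.zpow_right a
    have h1 : c = g⁻¹ * (c * ρ ^ a) * g := by rw [← ha]; group
    have h2 : g⁻¹ * c * g * ρ ^ a = c := by
      calc g⁻¹ * c * g * ρ ^ a = g⁻¹ * c * (g * ρ ^ a) := by group
        _ = g⁻¹ * c * (ρ ^ a * g) := by rw [(hg'.zpow_right a).eq]
        _ = g⁻¹ * (c * ρ ^ a) * g := by group
        _ = c := h1.symm
    calc g⁻¹ * c * g⁻¹⁻¹ = (g⁻¹ * c * g * ρ ^ a) * ρ ^ (-a) := by group
      _ = c * ρ ^ (-a) := by rw [h2]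

theorem mem_kGrp {ρ c g : G} :
    g ∈ kGrp ρ c ↔ g * ρ = ρ * g ∧ ∃ a : ℤ, g * c * g⁻¹ = c * ρ ^ a := Iff.rfl

namespace Loc

variable {z v ρ c : G} (h : Loc z v ρ c)

include h

theorem z_inv : z⁻¹ = z := inv_eq_of_mul_eq_one_right h.zz

theorem v_inv : v⁻¹ = v := inv_eq_of_mul_eq_one_right h.vv

/-- `v` and `z v` invert `c`. -/
theorem zvc : (z * v) * c * (z * v)⁻¹ = c⁻¹ := by
  have hc : Commute z c⁻¹ := Commute.inv_right h.zc
  calc (z * v) * c * (z * v)⁻¹ = z * (v * c * v⁻¹) * z⁻¹ := by group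
    _ = c⁻¹ := by rw [h.vc, hc.eq]; group

/-- normal form for `⟨ρ, c, z, v⟩` -/
theorem normal_form {g : G} (hg : g ∈ Subgroup.closure ({ρ, c, z, v} : Set G)) :
    ∃ p ∈ pGrp ρ c h.ρc, g = p ∨ g = p * z ∨ g = p * v ∨ g = p * (z * v) := by
  -- the four-group normalises `P`
  have hzP : ∀ p ∈ pGrp ρ c h.ρc, z * p = p * z := by
    rintro p ⟨a, b, rfl⟩
    exact (Commute.mul_right ((show Commute z ρ from h.zρ).zpow_right a)
      ((show Commute z c from h.zc).zpow_right b)).eq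
  have hvP : ∀ p ∈ pGrp ρ c h.ρc, ∃ p' ∈ pGrp ρ c h.ρc, v * p = p' * v := by
    rintro p ⟨a, b, rfl⟩
    refine ⟨ρ ^ a * c ^ (-b), ⟨a, -b, rfl⟩, ?_⟩
    have h1 : v * c ^ b * v⁻¹ = c ^ (-b) := by
      rw [← conj_zpow, h.vc]; group
    have h2 : v * c ^ b = c ^ (-b) * v := by rw [← h1]; group
    calc v * (ρ ^ a * c ^ b) = v * ρ ^ a * c ^ b := by group
      _ = ρ ^ a * (v * c ^ b) := by rw [((show Commute v ρ from h.vρ).zpow_right a).eq]; group
      _ = ρ ^ a * c ^ (-b) * v := by rw [h2]; group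
  induction hg using Subgroup.closure_induction with
  | mem x hx =>
    rcases hx with rfl | rfl | rfl | rfl
    · exact ⟨x, ⟨1, 0, by simp⟩, Or.inl rfl⟩
    · exact ⟨x, ⟨0, 1, by simp⟩, Or.inl rfl⟩
    · exact ⟨1, Subgroup.one_mem _, Or.inr (Or.inl (by group))⟩
    · exact ⟨1, Subgroup.one_mem _, Or.inr (Or.inr (Or.inl (by group)))⟩
  | one => exact ⟨1, Subgroup.one_mem _, Or.inl rfl⟩
  | mul x y _ _ hx hy =>
    obtain ⟨p, hp, hx⟩ := hx
    obtain ⟨q, hq, hy⟩ := hy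
    obtain ⟨q', hq', hvq⟩ := hvP q hq
    have hzq := hzP q hq
    have hzq' := hzP q' hq'
    have hpq := Subgroup.mul_mem _ hp hq
    have hpq' := Subgroup.mul_mem _ hp hq'
    -- `x = p w`, `y = q w'`: `x y = p (w q w⁻¹) w w'`
    have hz1 : ∀ s t : G, p * z * (q * t) = p * q * (z * t) := by
      intro s t
      calc p * z * (q * t) = p * (z * q) * t := by group
        _ = p * q * (z * t) := by rw [hzq]; group
    have hv1 : ∀ t : G, p * v * (q * t) = p * q' * (v * t) := by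
      intro t
      calc p * v * (q * t) = p * (v * q) * t := by group
        _ = p * q' * (v * t) := by rw [hvq]; group
    have hzv1 : ∀ t : G, p * (z * v) * (q * t) = p * q' * (z * v * t) := by
      intro t
      calc p * (z * v) * (q * t) = p * (z * (v * q)) * t := by group
        _ = p * (z * q') * v * t := by rw [hvq]; group
        _ = p * q' * (z * v * t) := by rw [hzq']; group
    have hzz := h.zz
    have hvv := h.vv
    have hzv := h.zv
    have e1 : z * (z * v) = v := by rw [← mul_assoc, hzz, one_mul]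
    have e2 : v * z = z * v := hzv.symm
    have e3 : v * (z * v) = z := by rw [← mul_assoc, e2, mul_assoc, hvv, mul_one]
    have e4 : z * v * z = v := by rw [mul_assoc, e2, e1]
    have e5 : z * v * v = z := by rw [mul_assoc, hvv, mul_one]
    have e6 : z * v * (z * v) = 1 := by rw [mul_assoc, e3, hzz]
    rcases hx with rfl | rfl | rfl | rfl
    · rcases hy with rfl | rfl | rfl | rfl
      · exact ⟨_, hpq, Or.inl rfl⟩
      · exact ⟨_, hpq, Or.inr (Or.inl (by group))⟩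
      · exact ⟨_, hpq, Or.inr (Or.inr (Or.inl (by group)))⟩
      · exact ⟨_, hpq, Or.inr (Or.inr (Or.inr (by group)))⟩
    · rcases hy with rfl | rfl | rfl | rfl
      · exact ⟨_, hpq, Or.inr (Or.inl (by have := hz1 1 1; simpa using this))⟩
      · exact ⟨_, hpq, Or.inl (by rw [hz1 1, hzz, mul_one])⟩
      · exact ⟨_, hpq, Or.inr (Or.inr (Or.inr (by rw [hz1 1])))⟩
      · exact ⟨_, hpq, Or.inr (Or.inr (Or.inl (by rw [hz1 1, e1])))⟩
    · rcases hy with rfl | rfl | rfl | rfl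
      · exact ⟨_, hpq', Or.inr (Or.inr (Or.inl (by have := hv1 1; simpa using this)))⟩
      · exact ⟨_, hpq', Or.inr (Or.inr (Or.inr (by rw [hv1, e2])))⟩
      · exact ⟨_, hpq', Or.inl (by rw [hv1, hvv, mul_one])⟩
      · exact ⟨_, hpq', Or.inr (Or.inl (by rw [hv1, e3]))⟩
    · rcases hy with rfl | rfl | rfl | rfl
      · exact ⟨_, hpq', Or.inr (Or.inr (Or.inr (by have := hzv1 1; simpa using this)))⟩
      · exact ⟨_, hpq', Or.inr (Or.inr (Or.inl (by rw [hzv1, e4])))⟩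
      · exact ⟨_, hpq', Or.inr (Or.inl (by rw [hzv1, e5]))⟩
      · exact ⟨_, hpq', Or.inl (by rw [hzv1, e6, mul_one])⟩
  | inv x _ hx =>
    obtain ⟨p, hp, hx⟩ := hx
    have hp' := Subgroup.inv_mem _ hp
    obtain ⟨q', hq', hvq⟩ := hvP p⁻¹ hp'
    have hzq := hzP _ hp'
    have hzq' := hzP _ hq'
    rcases hx with rfl | rfl | rfl | rfl
    · exact ⟨_, hp', Or.inl rfl⟩
    · exact ⟨_, hp', Or.inr (Or.inl (by rw [mul_inv_rev, h.z_inv, hzq]))⟩
    · exact ⟨_, hq', Or.inr (Or.inr (Or.inl (by rw [mul_inv_rev, h.v_inv, hvq])))⟩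
    · refine ⟨_, hq', Or.inr (Or.inr (Or.inr ?_))⟩
      rw [mul_inv_rev, mul_inv_rev, h.z_inv, h.v_inv, ← h.zv]
      calc z * v * p⁻¹ = z * (v * p⁻¹) := by group
        _ = (z * q') * v := by rw [hvq]; group
        _ = q' * (z * v) := by rw [hzq']; group

/-- `z` centralises `P`. -/
theorem z_comm {p : G} (hp : p ∈ pGrp ρ c h.ρc) : z * p = p * z := by
  obtain ⟨a, b, rfl⟩ := hp
  exact (Commute.mul_right ((show Commute z ρ from h.zρ).zpow_right a)
    ((show Commute z c from h.zc).zpow_right b)).eq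

theorem v_conj {p : G} (hp : p ∈ pGrp ρ c h.ρc) : v * p * v⁻¹ ∈ pGrp ρ c h.ρc := by
  obtain ⟨a, b, rfl⟩ := hp
  refine ⟨a, -b, ?_⟩
  have h1 : v * c ^ b * v⁻¹ = c ^ (-b) := by rw [← conj_zpow, h.vc]; group
  calc v * (ρ ^ a * c ^ b) * v⁻¹ = v * ρ ^ a * c ^ b * v⁻¹ := by group
    _ = ρ ^ a * (v * c ^ b * v⁻¹) := by rw [((show Commute v ρ from h.vρ).zpow_right a).eq]; group
    _ = ρ ^ a * c ^ (-b) := by rw [h1]

theorem p_cube {p : G} (hp : p ∈ pGrp ρ c h.ρc) : p ^ 3 = 1 := by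
  obtain ⟨a, b, rfl⟩ := hp
  have h0 : Commute (ρ ^ a) (c ^ b) := (show Commute ρ c from h.ρc).zpow_zpow a b
  rw [h0.mul_pow, ← zpow_natCast (ρ ^ a), ← zpow_natCast (c ^ b), ← zpow_mul, ← zpow_mul, mul_comm a, mul_comm b,
    zpow_mul, zpow_mul]
  simp only [zpow_natCast, h.ρ3, h.c3, one_zpow, mul_one]

theorem p_le_k {p : G} (hp : p ∈ pGrp ρ c h.ρc) : p ∈ kGrp ρ c := by
  have hρ : ρ ∈ pGrp ρ c h.ρc := ⟨1, 0, by simp⟩
  have hc : c ∈ pGrp ρ c h.ρc := ⟨0, 1, by simp⟩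
  refine ⟨pGrp_comm hp hρ, 0, ?_⟩
  rw [pGrp_comm hp hc]; group

theorem z_mem_k : z ∈ kGrp ρ c := ⟨h.zρ, 0, by rw [h.zc]; group⟩

/-- `c² = c⁻¹ ∉ ⟨ρ⟩` -/
theorem cinv_cinv (hk : ∃ a : ℤ, c⁻¹ = c * ρ ^ a) : False := by
  obtain ⟨a, ha⟩ := hk
  refine h.cρ ⟨a, ?_⟩
  have h3 : c * c * c = 1 := by rw [← h.c3, pow_succ, pow_two]
  show ρ ^ a = c
  calc ρ ^ a = c⁻¹ * (c * ρ ^ a) := by group
    _ = c⁻¹ * c⁻¹ := by rw [← ha]
    _ = (c * c * c) * c⁻¹ * c⁻¹ := by rw [h3, one_mul]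
    _ = c := by group

theorem v_not_mem {p : G} (hp : p ∈ pGrp ρ c h.ρc) (hk : p * v ∈ kGrp ρ c) : False := by
  have hv : v ∈ kGrp ρ c := by
    have := Subgroup.mul_mem _ (Subgroup.inv_mem _ (h.p_le_k hp)) hk
    rwa [inv_mul_cancel_left] at this
  obtain ⟨-, a, ha⟩ := hv
  exact h.cinv_cinv ⟨a, by rw [← h.vc, ha]⟩

theorem zv_not_mem {p : G} (hp : p ∈ pGrp ρ c h.ρc) (hk : p * (z * v) ∈ kGrp ρ c) : False := by
  have hv : z * v ∈ kGrp ρ c := by
    have := Subgroup.mul_mem _ (Subgroup.inv_mem _ (h.p_le_k hp)) hk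
    rwa [inv_mul_cancel_left] at this
  obtain ⟨-, a, ha⟩ := hv
  exact h.cinv_cinv ⟨a, by rw [← h.zvc, ha]⟩

/-- odd order elements of `⟨ρ, c, z, v⟩` -/
theorem odd_mem {g : G} (hg : g ∈ Subgroup.closure ({ρ, c, z, v} : Set G)) (ho : Odd (orderOf g)) :
    g ∈ pGrp ρ c h.ρc := by
  have hsq : g * g ∈ pGrp ρ c h.ρc := by
    obtain ⟨p, hp, hx⟩ := h.normal_form hg
    have hv := h.v_conj hp
    have hz := h.z_comm hp
    rcases hx with rfl | rfl | rfl | rfl
    · exact Subgroup.mul_mem _ hp hp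
    · have : p * z * (p * z) = p * p * (z * z) := by
        calc p * z * (p * z) = p * (z * p) * z := by group
          _ = p * p * (z * z) := by rw [hz]; group
      rw [this, h.zz, mul_one]
      exact Subgroup.mul_mem _ hp hp
    · have : p * v * (p * v) = p * (v * p * v⁻¹) * (v * v) := by group
      rw [this, h.vv, mul_one]
      exact Subgroup.mul_mem _ hp hv
    · have h1 : z * (v * p * v⁻¹) = v * p * v⁻¹ * z := h.z_comm hv
      have : p * (z * v) * (p * (z * v)) = p * (v * p * v⁻¹) * (z * v * z * v) := by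
        calc p * (z * v) * (p * (z * v)) = p * (z * (v * p * v⁻¹)) * (v * z * v) := by group
          _ = p * (v * p * v⁻¹) * (z * v * z * v) := by rw [h1]; group
      rw [this, show z * v * z * v = 1 by
        calc z * v * z * v = z * (v * z) * v := by group
          _ = (z * z) * (v * v) := by rw [← h.zv]; group
          _ = 1 := by rw [h.zz, h.vv, mul_one], mul_one]
      exact Subgroup.mul_mem _ hp hv
  obtain ⟨m, hm⟩ := ho
  have : g = (g * g) ^ (m + 1) := by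
    rw [← pow_two, ← pow_mul, show 2 * (m + 1) = orderOf g + 1 by rw [hm]; ring, pow_add, pow_orderOf_eq_one,
      one_mul, pow_one]
  rw [this]
  exact Subgroup.pow_mem _ hsq _

end Loc

/-- Commutator trick: `c' c c'⁻¹ = c ρ^a`, `z` centralises `c`, `ρ` and inverts `c'`, then `[c, c'] = 1`. -/
theorem comm_of_mem_k {z ρ c c' : G} (hρ3 : ρ ^ 3 = 1) (hzρ : z * ρ = ρ * z) (hzc : z * c = c * z)
    (hzc' : z * c' * z⁻¹ = c'⁻¹) (hρc' : c' * ρ = ρ * c') (a : ℤ) (ha : c' * c * c'⁻¹ = c * ρ ^ a) : Commute c c' := by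
  have hzρa : Commute z (ρ ^ a) := Commute.zpow_right hzρ a
  have h1 : c'⁻¹ * c * c' = c * ρ ^ a := by
    have e : z * (c' * c * c'⁻¹) * z⁻¹ = z * (c * ρ ^ a) * z⁻¹ := by rw [ha]
    have e1 : z * (c' * c * c'⁻¹) * z⁻¹ = (z * c' * z⁻¹) * (z * c * z⁻¹) * (z * c' * z⁻¹)⁻¹ := by group
    have e2 : z * c * z⁻¹ = c := by rw [hzc]; group
    have e3 : z * (c * ρ ^ a) * z⁻¹ = c * ρ ^ a := by
      have : Commute z (c * ρ ^ a) := Commute.mul_right hzc hzρa
      rw [this.eq]; group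
    rw [e1, e2, e3, hzc', inv_inv] at e
    exact e
  have hρa : Commute c' (ρ ^ a) := Commute.zpow_right hρc' a
  have h2 : c = c * (ρ ^ a * ρ ^ a) := by
    calc c = c' * (c'⁻¹ * c * c') * c'⁻¹ := by group
      _ = c' * c * (ρ ^ a * c'⁻¹) := by rw [h1]; group
      _ = c' * c * (c'⁻¹ * ρ ^ a) := by rw [hρa.symm.inv_right.eq]
      _ = (c' * c * c'⁻¹) * ρ ^ a := by group
      _ = c * (ρ ^ a * ρ ^ a) := by rw [ha]; group
  have h3 : ρ ^ a * ρ ^ a = 1 := by
    have := h2.symm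
    rwa [mul_eq_left] at this
  have h4 : (ρ ^ a) ^ 3 = 1 := by
    rw [← zpow_natCast (ρ ^ a), ← zpow_mul, mul_comm a, zpow_mul, zpow_natCast, hρ3, one_zpow]
  have h5 : ρ ^ a = 1 := by
    calc ρ ^ a = (ρ ^ a) ^ 3 * ((ρ ^ a * ρ ^ a))⁻¹ := by group
      _ = 1 := by rw [h3, h4]; simp
  rw [h5, mul_one] at ha
  exact (mul_inv_eq_iff_eq_mul.1 ha).symm

section main

variable [Finite G] {z v ρ c : G} (h : Loc z v ρ c)
  (hcent : ∀ g, g * z = z * g → g * ρ = ρ * g → g ∈ Subgroup.closure ({ρ, c, z, v} : Set G))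

include h hcent

/-- a Sylow 2-subgroup of `K` is `⟨z⟩` -/
theorem exists_sylow_k : ∃ T : Sylow 2 (kGrp ρ c), ∀ t : kGrp ρ c, t ∈ T → (t = 1 ∨ (t : G) = z) := by
  classical
  have : Fact (Nat.Prime 2) := ⟨Nat.prime_two⟩
  set zK : kGrp ρ c := ⟨z, h.z_mem_k⟩ with hzK
  have hzK2 : zK ^ (2 ^ 1) = 1 := by
    apply Subtype.ext
    show z ^ (2 ^ 1) = 1
    rw [pow_one, pow_two, h.zz]
  have hpz : IsPGroup 2 (Subgroup.zpowers zK) := by
    rintro ⟨x, n, rfl⟩
    refine ⟨1, Subtype.ext ?_⟩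
    show (zK ^ n) ^ (2 ^ 1) = 1
    rw [← zpow_natCast, ← zpow_mul, mul_comm, zpow_mul, zpow_natCast, hzK2, one_zpow]
  obtain ⟨T, hT⟩ := hpz.exists_le_sylow
  refine ⟨T, ?_⟩
  have hzT : zK ∈ T := hT (Subgroup.mem_zpowers zK)
  -- elements of `T` commuting with `z`
  have key : ∀ t : kGrp ρ c, t ∈ T → t * zK = zK * t → t = 1 ∨ t = zK := by
    intro t ht htz
    have htz' : (t : G) * z = z * t := congrArg Subtype.val htz
    have hcl := hcent t htz' t.2.1
    obtain ⟨p, hp, hx⟩ := h.normal_form hcl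
    have ho : ∃ k, t ^ (2 ^ k) = 1 := by
      obtain ⟨k, hk⟩ := T.isPGroup' ⟨t, ht⟩
      exact ⟨k, congrArg Subtype.val hk⟩
    have ho' : ∃ k, (t : G) ^ (2 ^ k) = 1 := by
      obtain ⟨k, hk⟩ := ho
      exact ⟨k, congrArg Subtype.val hk⟩
    -- `t` is a power of its cube
    have hcube : ∃ m : ℕ, (t : G) = ((t : G) ^ 3) ^ m := by
      obtain ⟨k, hk⟩ := ho'
      have hcop : Nat.Coprime 3 (2 ^ k) := Nat.Coprime.pow_right k (by decide)
      obtain ⟨m, hm⟩ := Nat.exists_mul_mod_eq_one_of_coprime (k := 2 ^ (k + 1)) (n := 3)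
        (Nat.Coprime.pow_right _ (by decide)) (by
          exact Nat.one_lt_two_pow (by omega))
      refine ⟨m, ?_⟩
      have hk1 : (t : G) ^ (2 ^ (k + 1)) = 1 := by rw [pow_succ, pow_mul, hk, one_pow]
      rw [← pow_mul, ← Nat.mod_add_div (3 * m) (2 ^ (k + 1)), hm.2, pow_add, pow_mul, hk1, one_pow, pow_one, mul_one]
    obtain ⟨m, hm⟩ := hcube
    rcases hx with hx | hx | hx | hx
    · left
      apply Subtype.ext
      show (t : G) = 1
      rw [hm, hx, h.p_cube hp, one_pow]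
    · have hpz : Commute p z := (h.z_comm hp).symm
      have h3 : (t : G) ^ 3 = z := by
        rw [hx, hpz.mul_pow, h.p_cube hp, one_mul, pow_succ, pow_two, h.zz, one_mul]
      rw [h3] at hm
      rcases Nat.even_or_odd' m with ⟨n, rfl | rfl⟩
      · left
        apply Subtype.ext
        show (t : G) = 1
        rw [hm, pow_mul, pow_two, h.zz, one_pow]
      · right
        apply Subtype.ext
        show (t : G) = z
        rw [hm, pow_succ, pow_mul, pow_two, h.zz, one_pow, one_mul]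
    · exact (h.v_not_mem hp (hx ▸ t.2)).elim
    · exact (h.zv_not_mem hp (hx ▸ t.2)).elim
  -- the centre of `T`
  have hne : zK ≠ 1 := by
    intro he
    exact h.z1 (congrArg Subtype.val he)
  have : Nontrivial T := ⟨⟨⟨zK, hzT⟩, 1, fun he => hne (congrArg Subtype.val he)⟩⟩
  have hcen := T.isPGroup'.center_nontrivial
  obtain ⟨⟨t, ht⟩, htne⟩ := exists_ne (1 : Subgroup.center T)
  have ht1 : t ≠ 1 := fun he => htne (Subtype.ext he)
  rw [Subgroup.mem_center_iff] at ht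
  have htz : (t : kGrp ρ c) * zK = zK * t := by
    have := ht ⟨zK, hzT⟩
    exact (congrArg Subtype.val this).symm
  have htK : (t : kGrp ρ c) = zK := by
    rcases key t t.2 htz with h1 | h1
    · exact absurd (Subtype.ext h1) ht1
    · exact h1
  intro s hs
  have hs' : s * zK = zK * s := by
    have := ht ⟨s, hs⟩
    have h2 := congrArg Subtype.val this
    rw [← htK]
    exact h2
  rcases key s hs hs' with h1 | h1
  · exact Or.inl h1
  · right
    rw [h1]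

/-- the normal `2`-complement `F` of `K`. -/
theorem exists_compl : ∃ F : Subgroup G, Odd (Nat.card F) ∧ (∀ g, g ∈ F ↔ g ∈ kGrp ρ c ∧ Odd (orderOf g)) ∧
    ∀ g ∈ kGrp ρ c, g ∈ F ∨ g * z ∈ F := by
  classical
  obtain ⟨T, hT⟩ := exists_sylow_k h hcent
  have hcyc : IsCyclic (T : Subgroup (kGrp ρ c)) := by
    by_cases hz : (⟨z, h.z_mem_k⟩ : kGrp ρ c) ∈ T
    · refine ⟨⟨⟨z, h.z_mem_k⟩, hz⟩, ?_⟩
      rintro ⟨t, ht⟩
      rcases hT t ht with h1 | h1
      · refine ⟨0, Subtype.ext ?_⟩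
        show _ = t
        rw [h1]; simp
      · refine ⟨1, Subtype.ext (Subtype.ext ?_)⟩
        show _ = (t : G)
        rw [h1]; simp
    · refine ⟨1, ?_⟩
      rintro ⟨t, ht⟩
      rcases hT t ht with h1 | h1
      · refine ⟨0, Subtype.ext ?_⟩
        show _ = t
        rw [h1]; simp
      · exact absurd (by have : t = ⟨z, h.z_mem_k⟩ := Subtype.ext h1
                         rwa [this] at ht) hz
  obtain ⟨F₀, hodd, hsup, hmem⟩ := CharactersDeep.QuatSylow.exists_two_complement T hcyc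
  have hnor : F₀.Normal := by
    refine ⟨fun x hx g => ?_⟩
    rw [hmem] at hx ⊢
    have : orderOf (g * x * g⁻¹) = orderOf x := by
      have := (MulAut.conj g).orderOf_eq x
      simpa using this
    rwa [this]
  refine ⟨F₀.map (kGrp ρ c).subtype, ?_, ?_, ?_⟩
  · rwa [Subgroup.card_map_of_injective (Subgroup.subtype_injective _)]
  · intro g
    constructor
    · rintro ⟨x, hx, rfl⟩
      refine ⟨x.2, ?_⟩
      have := (hmem x).1 hx
      rwa [← Subgroup.orderOf_coe] at this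
    · rintro ⟨hg, ho⟩
      refine ⟨⟨g, hg⟩, (hmem _).2 ?_, rfl⟩
      rwa [Subgroup.orderOf_mk]
  · intro g hg
    have : (⟨g, hg⟩ : kGrp ρ c) ∈ F₀ ⊔ (T : Subgroup (kGrp ρ c)) := by rw [hsup]; exact Subgroup.mem_top _
    rw [Subgroup.mem_sup_of_normal_left] at this
    obtain ⟨f, hf, t, ht, hft⟩ := this
    have hft' : (f : G) * t = g := congrArg Subtype.val hft
    rcases hT t ht with h1 | h1
    · left
      refine ⟨f, hf, ?_⟩
      show (f : G) = g
      rw [← hft', h1]; simp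
    · right
      refine ⟨f, hf, ?_⟩
      show (f : G) = g * z
      rw [← hft', h1, mul_assoc, h.zz, mul_one]

end main

/-- `c'^b ∈ K` with `3 ∤ b` gives `c' ∈ K`. -/
theorem mem_of_zpow {K : Subgroup G} {c' : G} (h3 : c' ^ 3 = 1) {b : ℤ} (hb : c' ^ b ∈ K)
    (hne : c' ^ b ≠ 1) : c' ∈ K := by
  have hmod : c' ^ b = c' ^ (b % 3) := by
    conv_lhs => rw [← Int.emod_add_mul_ediv b 3]
    rw [zpow_add, zpow_mul]
    have : c' ^ (3 : ℤ) = 1 := by exact_mod_cast h3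
    rw [this, one_zpow, mul_one]
  have h0 := Int.emod_nonneg b (show (3 : ℤ) ≠ 0 by norm_num)
  have h1 := Int.emod_lt_of_pos b (show (0 : ℤ) < 3 by norm_num)
  have hcases : b % 3 = 0 ∨ b % 3 = 1 ∨ b % 3 = 2 := by omega
  rcases hcases with h2 | h2 | h2
  · rw [h2, zpow_zero] at hmod
    exact absurd hmod hne
  · rwa [hmod, h2, zpow_one] at hb
  · rw [hmod, h2] at hb
    have : (c' ^ (2 : ℤ)) * c' ^ (2 : ℤ) = c' := by
      have e : (c' ^ (2 : ℤ)) * c' ^ (2 : ℤ) = c' ^ 3 * c' := by group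
      rw [e, h3, one_mul]
    rw [← this]
    exact K.mul_mem hb hb

/-- `P` is a Sylow 3-subgroup of `G` when `N_G(P) ≤ C_G(z)` and `27 ∤ |C_G(z)|`. -/
theorem exists_sylow_three [Finite G] {z v ρ c : G} (h : Loc z v ρ c)
    (hNz : ∀ n ∈ Subgroup.normalizer (pGrp ρ c h.ρc : Set G), n * z = z * n)
    (h27 : ¬ 27 ∣ Nat.card (Subgroup.centralizer ({z} : Set G))) :
    ∃ T : Sylow 3 G, (T : Subgroup G) = pGrp ρ c h.ρc := by
  classical
  have : Fact (Nat.Prime 3) := ⟨Nat.prime_three⟩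
  set P := pGrp ρ c h.ρc with hP
  have hPp : IsPGroup 3 P := by
    rintro ⟨x, hx⟩
    exact ⟨1, Subtype.ext (by rw [pow_one]; exact h.p_cube hx)⟩
  obtain ⟨k, hk⟩ := IsPGroup.iff_card.1 hPp
  have hρc3 : Nat.card (Subgroup.zpowers ρ) = 3 := by
    rw [Nat.card_zpowers]
    exact orderOf_eq_prime h.ρ3 h.ρ1
  have hlt : Subgroup.zpowers ρ < P := by
    refine lt_of_le_of_ne ?_ ?_
    · rw [Subgroup.zpowers_le]
      exact ⟨1, 0, by simp⟩
    · intro he
      apply h.cρ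
      rw [he]
      exact ⟨0, 1, by simp⟩
  have hk2 : 2 ≤ k := by
    by_contra hk2
    have h1 : Nat.card P ≤ 3 := by
      rw [hk]
      calc 3 ^ k ≤ 3 ^ 1 := Nat.pow_le_pow_right (by norm_num) (by omega)
        _ = 3 := by norm_num
    have h2 : Subgroup.zpowers ρ = P :=
      Subgroup.eq_of_le_of_card_ge hlt.le (by rw [hρc3]; exact h1)
    exact absurd h2 hlt.ne
  obtain ⟨T, hT⟩ := hPp.exists_le_sylow
  refine ⟨T, ?_⟩
  obtain ⟨m, hm⟩ := IsPGroup.iff_card.1 T.isPGroup'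
  have hm' : Nat.card (T : Subgroup G) = 3 ^ m := hm
  have hkm : k ≤ m := by
    have := Subgroup.card_dvd_of_le hT
    rw [hk, hm'] at this
    exact (Nat.pow_dvd_pow_iff_le_right (by norm_num)).1 this
  by_cases hlt' : k < m
  · exfalso
    have hdvd : 3 ^ (k + 1) ∣ Nat.card G := by
      refine dvd_trans ?_ (Subgroup.card_subgroup_dvd_card (T : Subgroup G))
      rw [hm']
      exact pow_dvd_pow 3 hlt'
    obtain ⟨R, hR, hPR⟩ := Sylow.exists_subgroup_card_pow_succ hdvd hk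
    have hidx : (P.subgroupOf R).index = 3 := by
      have h1 := Subgroup.card_mul_index (P.subgroupOf R)
      rw [Nat.card_congr (Subgroup.subgroupOfEquivOfLe hPR).toEquiv, hR, hk, pow_succ] at h1
      exact Nat.eq_of_mul_eq_mul_left (by positivity) h1
    have hnor : (P.subgroupOf R).Normal := by
      apply Subgroup.normal_of_index_eq_minFac_card
      rw [hidx, hR, Nat.Prime.pow_minFac Nat.prime_three (by omega)]
    have hRz : R ≤ Subgroup.centralizer ({z} : Set G) := by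
      intro n hn
      rw [Subgroup.mem_centralizer_singleton_iff]
      refine hNz n ?_
      rw [Subgroup.mem_normalizer_iff]
      intro x
      constructor
      · intro hx
        have := hnor.conj_mem ⟨x, hPR hx⟩ hx ⟨n, hn⟩
        exact this
      · intro hx
        have := hnor.conj_mem ⟨n * x * n⁻¹, hPR hx⟩ hx ⟨n⁻¹, R.inv_mem hn⟩
        have e : n⁻¹ * (n * x * n⁻¹) * n⁻¹⁻¹ = x := by group
        have h2 : n⁻¹ * (n * x * n⁻¹) * n⁻¹⁻¹ ∈ P := this
        rwa [e] at h2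
    apply h27
    calc 27 = 3 ^ 3 := by norm_num
      _ ∣ 3 ^ (k + 1) := pow_dvd_pow 3 (by omega)
      _ = Nat.card R := hR.symm
      _ ∣ _ := Subgroup.card_dvd_of_le hRz
  · have hkm' : k = m := by omega
    exact (Subgroup.eq_of_le_of_card_ge hT (by rw [hm', hk, hkm'])).symm

/-- **The 3-local lemma.** -/
theorem three_local [Finite G] {z v ρ c y : G} (h : Loc z v ρ c)
    (hcent : ∀ g, g * z = z * g → g * ρ = ρ * g → g ∈ Subgroup.closure ({ρ, c, z, v} : Set G))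
    (hyρ : y * ρ = ρ * y) (hyz : y * z * y⁻¹ = v) (hyv : y * v * y⁻¹ = z * v) (hy3 : y ^ 3 = 1)
    (hvz : v ≠ z)
    (h27 : ¬ 27 ∣ Nat.card (Subgroup.centralizer ({z} : Set G)))
    (hN : ∀ n, n * z = z * n → n * ρ * n⁻¹ ∈ Subgroup.closure ({ρ, c} : Set G) →
      n * c * n⁻¹ ∈ Subgroup.closure ({ρ, c} : Set G) → n * ρ * n⁻¹ ∈ Subgroup.zpowers ρ)
    (hconj : IsConj y ρ) : Commute c (y * c * y⁻¹) := by
  classical
  have : Fact (Nat.Prime 3) := ⟨Nat.prime_three⟩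
  set c' := y * c * y⁻¹ with hc'
  have hyzv : y * (z * v) * y⁻¹ = z := by
    have e : y * (z * v) * y⁻¹ = (y * z * y⁻¹) * (y * v * y⁻¹) := by group
    rw [e, hyz, hyv, ← mul_assoc, ← h.zv, mul_assoc, h.vv, mul_one]
  have hzc' : z * c' * z⁻¹ = c'⁻¹ := by
    calc z * c' * z⁻¹ = (y * (z * v) * y⁻¹) * c' * (y * (z * v) * y⁻¹)⁻¹ := by rw [hyzv]
      _ = y * ((z * v) * c * (z * v)⁻¹) * y⁻¹ := by rw [hc']; group
      _ = c'⁻¹ := by rw [h.zvc, hc']; group
  have hyρ' : Commute y ρ := hyρ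
  have hρy : ∀ a : ℤ, y * ρ ^ a * y⁻¹ = ρ ^ a := by
    intro a
    rw [(hyρ'.zpow_right a).eq]; group
  have hρc' : c' * ρ = ρ * c' := by
    have h1 : y * (c * ρ) * y⁻¹ = y * (ρ * c) * y⁻¹ := by rw [h.ρc]
    have e1 : y * (c * ρ) * y⁻¹ = c' * (y * ρ ^ (1 : ℤ) * y⁻¹) := by rw [hc']; group
    have e2 : y * (ρ * c) * y⁻¹ = (y * ρ ^ (1 : ℤ) * y⁻¹) * c' := by rw [hc']; group
    rw [e1, e2, hρy, zpow_one] at h1
    exact h1
  have hc'3 : c' ^ 3 = 1 := by
    rw [hc', conj_pow, h.c3]; group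
  -- the end of cases A and B
  have hend : c' ∈ kGrp ρ c → Commute c c' := by
    rintro ⟨-, a, ha⟩
    exact comm_of_mem_k h.ρ3 h.zρ h.zc hzc' hρc' a ha
  obtain ⟨F, hFodd, hFmem, hFz⟩ := exists_compl h hcent
  have hρK : ∀ a : ℤ, ρ ^ a ∈ kGrp ρ c := fun a => h.p_le_k ⟨a, 0, by simp⟩
  by_cases hA : ∃ g ∈ F, g * v = v * g ∧ g ∉ Subgroup.zpowers ρ
  · obtain ⟨g, hg, hgv, hgρ⟩ := hA
    obtain ⟨hgK, hgo⟩ := (hFmem g).1 hg
    have hgρc : g * ρ = ρ * g := hgK.1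
    have hP : y⁻¹ * g * y ∈ pGrp ρ c h.ρc := by
      apply h.odd_mem
      · apply hcent
        · have h1 : y⁻¹ * (g * v) * y = y⁻¹ * (v * g) * y := by rw [hgv]
          have e1 : y⁻¹ * (g * v) * y = (y⁻¹ * g * y) * (y⁻¹ * v * y) := by group
          have e2 : y⁻¹ * (v * g) * y = (y⁻¹ * v * y) * (y⁻¹ * g * y) := by group
          have e3 : y⁻¹ * v * y = z := by rw [← hyz]; group
          rw [e1, e2, e3] at h1
          exact h1
        · have e3 : y⁻¹ * ρ * y = ρ := by rw [mul_assoc, ← hyρ]; group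
          have h1 : y⁻¹ * (g * ρ) * y = y⁻¹ * (ρ * g) * y := by rw [hgρc]
          have e1 : y⁻¹ * (g * ρ) * y = (y⁻¹ * g * y) * (y⁻¹ * ρ * y) := by group
          have e2 : y⁻¹ * (ρ * g) * y = (y⁻¹ * ρ * y) * (y⁻¹ * g * y) := by group
          rw [e1, e2, e3] at h1
          exact h1
      · have := (MulAut.conj y⁻¹).orderOf_eq g
        simp only [MulAut.conj_apply, inv_inv] at this
        rwa [this]
    obtain ⟨a, b, hab⟩ := hP
    have hg' : g = ρ ^ a * c' ^ b := by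
      have h1 : g = y * (ρ ^ a * c ^ b) * y⁻¹ := by rw [← hab]; group
      rw [h1]
      calc y * (ρ ^ a * c ^ b) * y⁻¹ = (y * ρ ^ a * y⁻¹) * (y * c ^ b * y⁻¹) := by group
        _ = ρ ^ a * c' ^ b := by rw [hρy, hc', conj_zpow]
    apply hend
    refine mem_of_zpow hc'3 (b := b) ?_ ?_
    · have := Subgroup.mul_mem _ (Subgroup.inv_mem _ (hρK a)) hgK
      rwa [hg', inv_mul_cancel_left] at this
    · intro he
      apply hgρ
      rw [hg', he, mul_one]
      exact Subgroup.zpow_mem_zpowers ρ a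
  by_cases hB : ∃ g ∈ F, g * (z * v) = (z * v) * g ∧ g ∉ Subgroup.zpowers ρ
  · obtain ⟨g, hg, hgv, hgρ⟩ := hB
    obtain ⟨hgK, hgo⟩ := (hFmem g).1 hg
    have hgρc : g * ρ = ρ * g := hgK.1
    have hP : y * g * y⁻¹ ∈ pGrp ρ c h.ρc := by
      apply h.odd_mem
      · apply hcent
        · have h1 : y * (g * (z * v)) * y⁻¹ = y * ((z * v) * g) * y⁻¹ := by rw [hgv]
          have e1 : y * (g * (z * v)) * y⁻¹ = (y * g * y⁻¹) * (y * (z * v) * y⁻¹) := by group
          have e2 : y * ((z * v) * g) * y⁻¹ = (y * (z * v) * y⁻¹) * (y * g * y⁻¹) := by group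
          rw [e1, e2, hyzv] at h1
          exact h1
        · have e3 : y * ρ * y⁻¹ = ρ := by rw [hyρ]; group
          have h1 : y * (g * ρ) * y⁻¹ = y * (ρ * g) * y⁻¹ := by rw [hgρc]
          have e1 : y * (g * ρ) * y⁻¹ = (y * g * y⁻¹) * (y * ρ * y⁻¹) := by group
          have e2 : y * (ρ * g) * y⁻¹ = (y * ρ * y⁻¹) * (y * g * y⁻¹) := by group
          rw [e1, e2, e3] at h1
          exact h1
      · have := (MulAut.conj y).orderOf_eq g
        simp only [MulAut.conj_apply] at this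
        rwa [this]
    obtain ⟨a, b, hab⟩ := hP
    -- `g = ρ^a c''^b`, `c'' = y⁻¹ c y`
    have hρy' : ∀ a : ℤ, y⁻¹ * ρ ^ a * y = ρ ^ a := by
      intro a
      rw [mul_assoc, ← (hyρ'.zpow_right a).eq]; group
    set c'' := y⁻¹ * c * y with hc''
    have hc''b : y⁻¹ * c ^ b * y = c'' ^ b := by
      have := conj_zpow (i := b) (a := y⁻¹) (b := c)
      rw [inv_inv] at this
      rw [hc'', this]
    have hg' : g = ρ ^ a * c'' ^ b := by
      have h1 : g = y⁻¹ * (ρ ^ a * c ^ b) * y := by rw [← hab]; group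
      rw [h1]
      calc y⁻¹ * (ρ ^ a * c ^ b) * y = (y⁻¹ * ρ ^ a * y) * (y⁻¹ * c ^ b * y) := by group
        _ = ρ ^ a * c'' ^ b := by rw [hρy', hc''b]
    have hc''3 : c'' ^ 3 = 1 := by
      have := conj_pow (i := 3) (a := y⁻¹) (b := c)
      rw [inv_inv, h.c3] at this
      rw [hc'', this]; group
    have hc''K : c'' ∈ kGrp ρ c := by
      refine mem_of_zpow hc''3 (b := b) ?_ ?_
      · have := Subgroup.mul_mem _ (Subgroup.inv_mem _ (hρK a)) hgK
        rwa [hg', inv_mul_cancel_left] at this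
      · intro he
        apply hgρ
        rw [hg', he, mul_one]
        exact Subgroup.zpow_mem_zpowers ρ a
    obtain ⟨-, e, he⟩ := hc''K
    apply hend
    refine ⟨hρc', -e, ?_⟩
    -- conjugate by `y`
    have h1 : c * c' * c⁻¹ = c' * ρ ^ e := by
      have h2 : y * (c'' * c * c''⁻¹) * y⁻¹ = y * (c * ρ ^ e) * y⁻¹ := by rw [he]
      have e1 : y * (c'' * c * c''⁻¹) * y⁻¹ = c * c' * c⁻¹ := by rw [hc'', hc']; group
      have e2 : y * (c * ρ ^ e) * y⁻¹ = c' * (y * ρ ^ e * y⁻¹) := by rw [hc']; group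
      rw [e1, e2, hρy] at h2
      exact h2
    have hcρ : Commute c⁻¹ (ρ ^ e) := (Commute.inv_left (show Commute c ρ from h.ρc.symm)).zpow_right e
    have h3 : c'⁻¹ * c * c' = ρ ^ e * c := by
      calc c'⁻¹ * c * c' = c'⁻¹ * (c * c' * c⁻¹) * c := by group
        _ = ρ ^ e * c := by rw [h1]; group
    have hρe : Commute c' (ρ ^ e) := Commute.zpow_right hρc' e
    have hcρe : Commute c (ρ ^ e) := Commute.zpow_right (show Commute c ρ from h.ρc.symm) e
    -- `c = c' (ρ^e c) c'⁻¹ = ρ^e (c' c c'⁻¹)`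
    have h4 : c = ρ ^ e * (c' * c * c'⁻¹) := by
      calc c = c' * (c'⁻¹ * c * c') * c'⁻¹ := by group
        _ = (c' * ρ ^ e) * c * c'⁻¹ := by rw [h3]; group
        _ = ρ ^ e * (c' * c * c'⁻¹) := by rw [hρe.eq]; group
    calc c' * c * c'⁻¹ = (ρ ^ e)⁻¹ * (ρ ^ e * (c' * c * c'⁻¹)) := by group
      _ = (ρ ^ e)⁻¹ * c := by rw [← h4]
      _ = c * (ρ ^ e)⁻¹ := by rw [hcρe.inv_right.eq]
      _ = c * ρ ^ (-e) := by rw [zpow_neg]
  -- case C
  exfalso
  push Not at hA hB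
  set P := pGrp ρ c h.ρc with hPdef
  have hFconj : ∀ w : G, (∀ x ∈ kGrp ρ c, w * x * w⁻¹ ∈ kGrp ρ c) → ∀ x ∈ F, w * x * w⁻¹ ∈ F := by
    intro w hw x hx
    obtain ⟨h1, h2⟩ := (hFmem x).1 hx
    refine (hFmem _).2 ⟨hw x h1, ?_⟩
    have := (MulAut.conj w).orderOf_eq x
    simp only [MulAut.conj_apply] at this
    rwa [this]
  have hzρa : ∀ a : ℤ, Commute z (ρ ^ a) := fun a => Commute.zpow_right h.zρ a
  have hvρa : ∀ a : ℤ, Commute v (ρ ^ a) := fun a => Commute.zpow_right h.vρ a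
  have hFz' : ∀ x ∈ F, z * x * z⁻¹ ∈ F := hFconj z (fun x hx =>
    Subgroup.mul_mem _ (Subgroup.mul_mem _ h.z_mem_k hx) (Subgroup.inv_mem _ h.z_mem_k))
  have hFv : ∀ x ∈ F, v * x * v⁻¹ ∈ F := by
    refine hFconj v ?_
    rintro x ⟨hx1, a, ha⟩
    constructor
    · have e1 : v * x * v⁻¹ * ρ = v * x * (v⁻¹ * ρ) := by group
      have hvi : v⁻¹ * ρ = ρ * v⁻¹ := (Commute.inv_left (show Commute v ρ from h.vρ)).eq
      rw [e1, hvi]
      calc v * x * (ρ * v⁻¹) = v * (x * ρ) * v⁻¹ := by group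
        _ = (v * ρ) * x * v⁻¹ := by rw [hx1]; group
        _ = ρ * (v * x * v⁻¹) := by rw [h.vρ]; group
    · -- `x c⁻¹ x⁻¹ = (c ρ^a)⁻¹ = ρ^{-a} c⁻¹ = c⁻¹ ρ^{-a}`
      refine ⟨-a, ?_⟩
      have hcρ : Commute c⁻¹ (ρ ^ (-a)) :=
        (Commute.inv_left (show Commute c ρ from h.ρc.symm)).zpow_right (-a)
      have h1 : x * c⁻¹ * x⁻¹ = c⁻¹ * ρ ^ (-a) := by
        calc x * c⁻¹ * x⁻¹ = (x * c * x⁻¹)⁻¹ := by group
          _ = ρ ^ (-a) * c⁻¹ := by rw [ha]; group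
          _ = c⁻¹ * ρ ^ (-a) := hcρ.eq.symm
      have hvc' : v⁻¹ * c * v = c⁻¹ := by rw [h.v_inv, ← h.vc, h.v_inv]
      have hvc2 : v * c⁻¹ * v⁻¹ = c := by
        calc v * c⁻¹ * v⁻¹ = (v * c * v⁻¹)⁻¹ := by group
          _ = c := by rw [h.vc, inv_inv]
      calc v * x * v⁻¹ * c * (v * x * v⁻¹)⁻¹ = v * (x * (v⁻¹ * c * v) * x⁻¹) * v⁻¹ := by group
        _ = (v * c⁻¹ * v⁻¹) * (v * ρ ^ (-a) * v⁻¹) := by rw [hvc', h1]; group
        _ = c * ρ ^ (-a) := by rw [hvc2, (hvρa (-a)).eq]; group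
  have hρP : ∀ x ∈ Subgroup.zpowers ρ, x ∈ P := by
    rintro x ⟨a, rfl⟩
    exact ⟨a, 0, by simp⟩
  have hFP : F ≤ P := by
    refine Cfsg.Agent.Lib.KleinGen.le_of_klein F P hFodd z v h.zz h.vv h.zv hFz' hFv ?_ ?_ ?_
    · rintro x ⟨hx, hxz⟩
      obtain ⟨h1, h2⟩ := (hFmem x).1 hx
      replace hxz := Subgroup.mem_centralizer_singleton_iff.1 hxz
      exact h.odd_mem (hcent x hxz h1.1) h2
    · rintro x ⟨hx, hxv⟩
      replace hxv := Subgroup.mem_centralizer_singleton_iff.1 hxv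
      exact hρP x (hA x hx hxv)
    · rintro x ⟨hx, hxv⟩
      replace hxv := Subgroup.mem_centralizer_singleton_iff.1 hxv
      exact hρP x (hB x hx hxv)
  have hρmem : ρ ∈ P := ⟨1, 0, by simp⟩
  have hcmem : c ∈ P := ⟨0, 1, by simp⟩
  -- the normaliser of `P` centralises `z`
  have hNz : ∀ n ∈ Subgroup.normalizer (P : Set G), n * z = z * n := by
    intro n hn
    have hn' : ∀ x ∈ P, n⁻¹ * x * n ∈ P := by
      intro x hx
      exact (Subgroup.mem_normalizer_iff''.1 hn x).1 hx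
    set w := n * z * n⁻¹ with hw
    have hwP : ∀ x ∈ P, w * x = x * w := by
      intro x hx
      have h1 := h.z_comm (hn' x hx)
      calc w * x = n * (z * (n⁻¹ * x * n)) * n⁻¹ := by rw [hw]; group
        _ = x * w := by rw [h1, hw]; group
    have hwK : w ∈ kGrp ρ c := ⟨hwP ρ hρmem, 0, by rw [hwP c hcmem]; group⟩
    have hww : w * w = 1 := by
      calc w * w = n * (z * z) * n⁻¹ := by rw [hw]; group
        _ = 1 := by rw [h.zz]; group
    have hw1 : w ≠ 1 := by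
      intro he
      apply h.z1
      calc z = n⁻¹ * w * n := by rw [hw]; group
        _ = 1 := by rw [he]; group
    rcases hFz w hwK with hF | hF
    · exfalso
      have ho := ((hFmem w).1 hF).2
      rw [orderOf_eq_prime (p := 2) (by rw [pow_two, hww]) hw1] at ho
      exact absurd ho (by decide)
    · have hpP := hFP hF
      have hcube := h.p_cube hpP
      have hwz : w * z = z * w := by
        have h1 := h.z_comm hpP
        have h2 : z * (w * z) = w := by rw [h1, mul_assoc, h.zz, mul_one]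
        calc w * z = z * (w * z) * z := by rw [h2]
          _ = z * w := by rw [mul_assoc, mul_assoc, h.zz, mul_one]
      have hsq : (w * z) * (w * z) = 1 := by
        calc (w * z) * (w * z) = w * (z * w) * z := by group
          _ = (w * w) * (z * z) := by rw [← hwz]; group
          _ = 1 := by rw [hww, h.zz, mul_one]
      have hwz1 : w * z = 1 := by
        have h3 : (w * z) ^ 3 = (w * z) * ((w * z) * (w * z)) := by rw [pow_succ, pow_two, mul_assoc]
        rw [hcube, hsq, mul_one] at h3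
        exact h3.symm
      have hwz2 : w = z := by
        rw [← h.z_inv]
        exact eq_inv_of_mul_eq_one_left hwz1
      calc n * z = w * n := by rw [hw]; group
        _ = z * n := by rw [hwz2]
  obtain ⟨T, hT⟩ := exists_sylow_three h hNz h27
  have hPcl : P = Subgroup.closure ({ρ, c} : Set G) := pGrp_eq h.ρc
  -- fusion in `P`: conjugates of `ρ` in `P` lie in `⟨ρ⟩`
  have hfus : ∀ x ∈ P, IsConj x ρ → x ∈ Subgroup.zpowers ρ := by
    intro x hx hxρ
    have hTx : x ∈ T := by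
      show x ∈ (T : Subgroup G)
      rw [hT]; exact hx
    have hTρ : ρ ∈ T := by
      show ρ ∈ (T : Subgroup G)
      rw [hT]; exact hρmem
    obtain ⟨n, hn, hnx⟩ := Cfsg.Agent.Involutions.KleinFourSylow.exists_normalizer_conj 3 T
      (by
        intro a ha b hb
        have ha' : a ∈ (T : Subgroup G) := ha
        have hb' : b ∈ (T : Subgroup G) := hb
        rw [hT] at ha' hb'
        exact pGrp_comm ha' hb') hTρ hTx hxρ.symm
    have hn' : n ∈ Subgroup.normalizer (P : Set G) := by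
      have h0 : (T : Subgroup G) = P := hT
      have h1 : n ∈ Subgroup.normalizer ((T : Subgroup G) : Set G) := hn
      rwa [h0] at h1
    have hnz := hNz n hn'
    have h1 : ∀ x ∈ P, n * x * n⁻¹ ∈ P := fun x hx => (Subgroup.mem_normalizer_iff.1 hn' x).1 hx
    rw [← hnx]
    refine hN n hnz ?_ ?_
    · rw [← hPcl]; exact h1 ρ hρmem
    · rw [← hPcl]; exact h1 c hcmem
  -- `⟨y, ρ⟩` is a 3-group
  have hyρ3 : IsPGroup 3 (pGrp y ρ hyρ) := by
    rintro ⟨x, a, b, rfl⟩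
    refine ⟨1, Subtype.ext ?_⟩
    show (y ^ a * ρ ^ b) ^ (3 ^ 1) = 1
    have h0 : Commute (y ^ a) (ρ ^ b) := hyρ'.zpow_zpow a b
    rw [pow_one, h0.mul_pow, ← zpow_natCast (y ^ a), ← zpow_natCast (ρ ^ b), ← zpow_mul, ← zpow_mul, mul_comm a,
      mul_comm b, zpow_mul, zpow_mul]
    simp only [zpow_natCast, h.ρ3, hy3, one_zpow, mul_one]
  obtain ⟨T', hT'⟩ := hyρ3.exists_le_sylow
  obtain ⟨g, hg⟩ := MulAction.exists_smul_eq G T' T
  have hconjP : ∀ x ∈ pGrp y ρ hyρ, g * x * g⁻¹ ∈ P := by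
    intro x hx
    have h1 : g * x * g⁻¹ ∈ (g • T' : Sylow 3 G) := by
      have h2 : x ∈ T' := hT' hx
      exact Subgroup.smul_mem_pointwise_smul x (MulAut.conj g) (T' : Subgroup G) h2
    rw [hg] at h1
    have h3 : g * x * g⁻¹ ∈ (T : Subgroup G) := h1
    rwa [hT] at h3
  have hy1 := hfus _ (hconjP y ⟨1, 0, by simp⟩) ((isConj_iff.2 ⟨g⁻¹, by group⟩).trans hconj)
  have hρ1 := hfus _ (hconjP ρ ⟨0, 1, by simp⟩) (isConj_iff.2 ⟨g⁻¹, by group⟩)
  -- both in `⟨ρ⟩` of order 3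
  have hcyc : y ∈ Subgroup.zpowers ρ := by
    have hcard : Nat.card (Subgroup.zpowers ρ) = 3 := by
      rw [Nat.card_zpowers]; exact orderOf_eq_prime h.ρ3 h.ρ1
    have hne : g * ρ * g⁻¹ ≠ 1 := by
      intro he
      apply h.ρ1
      calc ρ = g⁻¹ * (g * ρ * g⁻¹) * g := by group
        _ = 1 := by rw [he]; group
    have h3' : (g * ρ * g⁻¹) ^ 3 = 1 := by rw [conj_pow, h.ρ3]; group
    have hle : Subgroup.zpowers (g * ρ * g⁻¹) = Subgroup.zpowers ρ := by
      apply Subgroup.eq_of_le_of_card_ge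
      · rw [Subgroup.zpowers_le]; exact hρ1
      · rw [hcard, Nat.card_zpowers, orderOf_eq_prime h3' hne]
    rw [← hle] at hy1
    obtain ⟨m, hm⟩ := hy1
    refine ⟨m, ?_⟩
    have hm' : (g * ρ * g⁻¹) ^ m = g * y * g⁻¹ := hm
    show ρ ^ m = y
    rw [conj_zpow] at hm'
    calc ρ ^ m = g⁻¹ * (g * ρ ^ m * g⁻¹) * g := by group
      _ = y := by rw [hm']; group
  obtain ⟨m, hm⟩ := hcyc
  have hm' : ρ ^ m = y := hm
  apply hvz
  rw [← hyz, ← hm', ← (hzρa m).eq]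
  group

end Cfsg.Agent.LargeExtra.W2.ThreeLocal
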