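import Cfsg.Agent.LargeExtra.W2.ThreeB
import Cfsg.Agent.LargeExtra.W2.ThreeLocal

/-!
# 3-local analysis for `G₂(3)`: `|C_K(τ)| = 3` is impossible (S1759; helper865, after helper860)
-/

set_option autoImplicit false

namespace Cfsg.Agent.LargeExtra.W2.ThreeC

open Cfsg Cfsg.Agent.StandardComponent.CentCore ThreeA ThreeB

/-- The data for both factors of `C_G(z)`. -/
structure Two {G : Type*} [Group G] (z τ x₁ x₂ : G) (Q₁ Q₂ : Subgroup G) : Prop where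
  h₁ : Half z τ x₁ x₂ Q₂
  h₂ : Half z τ x₂ x₁ Q₁
  nine : ∀ A : Subgroup G, (∀ a ∈ A, a * z = z * a) → Odd (Nat.card A) → Nat.card A ∣ 9
  fuse : ∃ g, g * z * g⁻¹ = τ ∧ g * τ * g⁻¹ = z * τ
  syl : ∀ k, k * z = z * k → Odd (orderOf k) → ∃ c, c * z = z * c ∧ ∃ a b : ℤ, c * k * c⁻¹ = x₁ ^ a * x₂ ^ b
  vw : ∀ a b : ℤ, x₁ ^ a ≠ 1 → x₂ ^ b ≠ 1 → ∀ g, g * z = z * g → g * (x₁ ^ a * x₂ ^ b) = x₁ ^ a * x₂ ^ b * g →
    ∃ c d : ℤ, g = x₁ ^ c * x₂ ^ d ∨ g = x₁ ^ c * x₂ ^ d * z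
  nor : ∀ n, n * z = z * n → (∃ a b : ℤ, n * x₁ * n⁻¹ = x₁ ^ a * x₂ ^ b) →
    (∃ a b : ℤ, n * x₂ * n⁻¹ = x₁ ^ a * x₂ ^ b) → ∃ a b : ℤ, n = x₁ ^ a * x₂ ^ b ∨ n = x₁ ^ a * x₂ ^ b * z ∨
      n = x₁ ^ a * x₂ ^ b * τ ∨ n = x₁ ^ a * x₂ ^ b * (z * τ)
  vcent : ∀ g, g * z = z * g → g * τ = τ * g → Odd (orderOf g) → g = 1

section basic

variable {G : Type*} [Group G]

theorem card_zpowers_three {x : G} (h3 : x ^ 3 = 1) (h1 : x ≠ 1) : Nat.card (Subgroup.zpowers x) = 3 := by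
  rw [Nat.card_zpowers]
  exact orderOf_eq_prime h3 h1

/-- `x^a` is `1`, `x` or `x⁻¹` -/
theorem zpow_three_cases {x : G} (h3 : x ^ 3 = 1) (a : ℤ) : x ^ a = 1 ∨ x ^ a = x ∨ x ^ a = x⁻¹ := by
  have hmod : x ^ a = x ^ (a % 3) := by
    conv_lhs => rw [← Int.emod_add_mul_ediv a 3]
    rw [zpow_add, zpow_mul]
    have : x ^ (3 : ℤ) = 1 := by exact_mod_cast h3
    rw [this, one_zpow, mul_one]
  have h0 := Int.emod_nonneg a (show (3 : ℤ) ≠ 0 by norm_num)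
  have h1 := Int.emod_lt_of_pos a (show (0 : ℤ) < 3 by norm_num)
  have hcases : a % 3 = 0 ∨ a % 3 = 1 ∨ a % 3 = 2 := by omega
  rcases hcases with h2 | h2 | h2
  · left; rw [hmod, h2, zpow_zero]
  · right; left; rw [hmod, h2, zpow_one]
  · right; right
    rw [hmod, h2]
    have : x ^ (2 : ℤ) = x * x := by rw [show (2 : ℤ) = 1 + 1 by norm_num, zpow_add, zpow_one]
    rw [this]
    rw [pow_succ, pow_two] at h3
    exact eq_inv_of_mul_eq_one_left h3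

theorem eq_one_of_sq_cube {x : G} (h2 : x * x = 1) (h3 : x ^ 3 = 1) : x = 1 := by
  rw [pow_succ, pow_two, h2, one_mul] at h3
  exact h3

theorem zpow_cube {x : G} (h3 : x ^ 3 = 1) (a : ℤ) : (x ^ a) ^ 3 = 1 := by
  rw [← zpow_natCast (x ^ a), ← zpow_mul, mul_comm, zpow_mul, zpow_natCast, h3, one_zpow]

/-- the abelian group `{x^a y^b k^c}` -/
def rGrp (x y k : G) (hxy : x * y = y * x) (hxk : x * k = k * x) (hyk : y * k = k * y) : Subgroup G where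
  carrier := {g | ∃ a b c : ℤ, g = x ^ a * y ^ b * k ^ c}
  one_mem' := ⟨0, 0, 0, by simp⟩
  mul_mem' := by
    rintro _ _ ⟨a, b, c, rfl⟩ ⟨a', b', c', rfl⟩
    refine ⟨a + a', b + b', c + c', ?_⟩
    have h1 : Commute (k ^ c) (x ^ a') := (show Commute k x from hxk.symm).zpow_zpow c a'
    have h2 : Commute (k ^ c) (y ^ b') := (show Commute k y from hyk.symm).zpow_zpow c b'
    have h3 : Commute (y ^ b) (x ^ a') := (show Commute y x from hxy.symm).zpow_zpow b a'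
    calc x ^ a * y ^ b * k ^ c * (x ^ a' * y ^ b' * k ^ c')
        = x ^ a * y ^ b * (k ^ c * x ^ a') * y ^ b' * k ^ c' := by group
      _ = x ^ a * (y ^ b * x ^ a') * (k ^ c * y ^ b') * k ^ c' := by rw [h1.eq]; group
      _ = x ^ a * (x ^ a' * y ^ b) * (y ^ b' * k ^ c) * k ^ c' := by rw [h3.eq, h2.eq]
      _ = x ^ (a + a') * y ^ (b + b') * k ^ (c + c') := by rw [zpow_add, zpow_add, zpow_add]; group
  inv_mem' := by
    rintro _ ⟨a, b, c, rfl⟩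
    refine ⟨-a, -b, -c, ?_⟩
    have h1 : Commute (k ^ (-c)) (x ^ (-a)) := (show Commute k x from hxk.symm).zpow_zpow _ _
    have h2 : Commute (k ^ (-c)) (y ^ (-b)) := (show Commute k y from hyk.symm).zpow_zpow _ _
    have h3 : Commute (y ^ (-b)) (x ^ (-a)) := (show Commute y x from hxy.symm).zpow_zpow _ _
    calc (x ^ a * y ^ b * k ^ c)⁻¹ = k ^ (-c) * (y ^ (-b) * x ^ (-a)) := by group
      _ = k ^ (-c) * (x ^ (-a) * y ^ (-b)) := by rw [h3.eq]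
      _ = (k ^ (-c) * x ^ (-a)) * y ^ (-b) := by group
      _ = x ^ (-a) * (k ^ (-c) * y ^ (-b)) := by rw [h1.eq]; group
      _ = x ^ (-a) * y ^ (-b) * k ^ (-c) := by rw [h2.eq]; group

theorem mem_rGrp {x y k : G} {hxy : x * y = y * x} {hxk : x * k = k * x} {hyk : y * k = k * y} {g : G} :
    g ∈ rGrp x y k hxy hxk hyk ↔ ∃ a b c : ℤ, g = x ^ a * y ^ b * k ^ c := Iff.rfl

theorem rGrp_comm {x y k : G} {hxy : x * y = y * x} {hxk : x * k = k * x} {hyk : y * k = k * y} {g l : G}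
    (hg : g ∈ rGrp x y k hxy hxk hyk) (hl : l ∈ rGrp x y k hxy hxk hyk) : g * l = l * g := by
  obtain ⟨a, b, c, rfl⟩ := hg
  obtain ⟨a', b', c', rfl⟩ := hl
  have cxy : Commute x y := hxy
  have cxk : Commute x k := hxk
  have cyk : Commute y k := hyk
  have e1 : Commute (x ^ a) (x ^ a' * y ^ b' * k ^ c') :=
    (((Commute.refl x).zpow_zpow a a').mul_right (cxy.zpow_zpow a b')).mul_right (cxk.zpow_zpow a c')
  have e2 : Commute (y ^ b) (x ^ a' * y ^ b' * k ^ c') :=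
    ((cxy.symm.zpow_zpow b a').mul_right ((Commute.refl y).zpow_zpow b b')).mul_right (cyk.zpow_zpow b c')
  have e3 : Commute (k ^ c) (x ^ a' * y ^ b' * k ^ c') :=
    ((cxk.symm.zpow_zpow c a').mul_right (cyk.symm.zpow_zpow c b')).mul_right ((Commute.refl k).zpow_zpow c c')
  exact ((e1.mul_left e2).mul_left e3).eq

end basic

/-- `u ∈ K`, `[u, y] ∈ ⟨x⟩` implies `[u, y] = 1`. -/
theorem half_le_cent {G : Type*} [Group G] [Finite G] {z τ x y : G} {Q : Subgroup G} (h : Half z τ x y Q) {u : G}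
    (hu : u ∈ centralizerPPrimeCore 2 x) (hux : ∃ a : ℤ, u * y * u⁻¹ = y * x ^ a) : u * y = y * u := by
  set D := centralizerPPrimeCore 2 x ⊓ ThreeLocal.kGrp x y with hD
  have hDodd : Odd (Nat.card D) := Odd.of_dvd_nat (core_odd x) (Subgroup.card_dvd_of_le inf_le_left)
  have hzD : ∀ d ∈ D, z * d * z⁻¹ ∈ D := by
    rintro d ⟨hd1, hd2, a, ha⟩
    have h1 := h.z_core hd1
    refine ⟨h1, core_comm h1, a, ?_⟩
    have hzy : z⁻¹ * y * z = y := by
      have : Commute z y := h.zy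
      rw [this.inv_left.eq]; group
    calc z * d * z⁻¹ * y * (z * d * z⁻¹)⁻¹ = z * (d * (z⁻¹ * y * z) * d⁻¹) * z⁻¹ := by group
      _ = z * (y * x ^ a) * z⁻¹ := by rw [hzy, ha]
      _ = y * x ^ a := by
        have : Commute z (y * x ^ a) := Commute.mul_right h.zy ((show Commute z x from h.zx).zpow_right a)
        rw [this.eq]; group
  have hτD : ∀ d ∈ D, τ * d * τ⁻¹ ∈ D := by
    rintro d ⟨hd1, hd2, a, ha⟩
    have h1 := h.τ_core hd1
    refine ⟨h1, core_comm h1, a, ?_⟩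
    have hτy : τ⁻¹ * y * τ = y⁻¹ := by rw [h.τ_inv, ← h.τy, h.τ_inv]
    have hinv : d * y⁻¹ * d⁻¹ = (y * x ^ a)⁻¹ := by rw [← ha]; group
    have hxa : τ * x ^ a * τ⁻¹ = x ^ (-a) := by rw [← conj_zpow, h.τx]; group
    have hyx : Commute y (x ^ (-a)) := (show Commute y x from h.xy.symm).zpow_right (-a)
    calc τ * d * τ⁻¹ * y * (τ * d * τ⁻¹)⁻¹ = τ * (d * (τ⁻¹ * y * τ) * d⁻¹) * τ⁻¹ := by group
      _ = τ * (y * x ^ a)⁻¹ * τ⁻¹ := by rw [hτy, hinv]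
      _ = ((τ * y * τ⁻¹) * (τ * x ^ a * τ⁻¹))⁻¹ := by group
      _ = x ^ a * y := by rw [h.τy, hxa]; group
      _ = y * x ^ a := by rw [((show Commute y x from h.xy.symm).zpow_right a).eq]
  have key : D ≤ Subgroup.centralizer ({y} : Set G) := by
    refine Cfsg.Agent.Lib.KleinGen.le_of_klein D _ hDodd z τ h.zz h.ττ h.zτ hzD hτD ?_ ?_ ?_
    · rintro d ⟨hd, hdz⟩
      replace hdz := mem_cent.1 hdz
      obtain ⟨n, hn⟩ := h.core_z hd.1 hdz
      have hn' : x ^ n = d := hn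
      rw [mem_cent, ← hn']
      exact ((show Commute x y from h.xy).zpow_left n).eq
    · rintro d ⟨⟨hd1, hd2, a, ha⟩, hdτ⟩
      have hinv := h.inv_of_τ hd1 (mem_cent.1 hdτ)
      rw [mem_cent]
      exact (ThreeLocal.comm_of_mem_k h.x3 h.zx h.zy hinv hd2 a ha).symm.eq
    · rintro d ⟨⟨hd1, hd2, a, ha⟩, hdτ⟩
      have hinv := h.inv_of_zτ hd1 (mem_cent.1 hdτ)
      rw [mem_cent]
      exact (ThreeLocal.comm_of_mem_k h.x3 h.zx h.zy hinv hd2 a ha).symm.eq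
  exact mem_cent.1 (key ⟨hu, core_comm hu, hux⟩)

namespace Two

variable {G : Type*} [Group G] {z τ x₁ x₂ : G} {Q₁ Q₂ : Subgroup G}

theorem symm (h : Two z τ x₁ x₂ Q₁ Q₂) : Two z τ x₂ x₁ Q₂ Q₁ := by
  have hc : ∀ a b : ℤ, x₁ ^ a * x₂ ^ b = x₂ ^ b * x₁ ^ a := h.h₁.xy_zpow
  refine ⟨h.h₂, h.h₁, h.nine, h.fuse, ?_, ?_, ?_, h.vcent⟩
  · intro k hk ho
    obtain ⟨c, hc1, a, b, hab⟩ := h.syl k hk ho
    exact ⟨c, hc1, b, a, by rw [hab, hc]⟩
  · intro a b ha hb g hgz hg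
    obtain ⟨c, d, hcd⟩ := h.vw b a hb ha g hgz (by rw [hc]; exact hg)
    refine ⟨d, c, ?_⟩
    rcases hcd with hcd | hcd
    · left; rw [hcd, hc]
    · right; rw [hcd, hc]
  · rintro n hn ⟨a, b, hab⟩ ⟨c, d, hcd⟩
    obtain ⟨e, f, hef⟩ := h.nor n hn ⟨d, c, by rw [hcd, hc]⟩ ⟨b, a, by rw [hab, hc]⟩
    refine ⟨f, e, ?_⟩
    rw [← hc]
    exact hef

/-- `τ` may be replaced by `z τ`. -/
theorem swap (h : Two z τ x₁ x₂ Q₁ Q₂) : Two z (z * τ) x₁ x₂ Q₁ Q₂ := by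
  have e1 : z * (z * τ) = τ := by rw [← mul_assoc, h.h₁.zz, one_mul]
  refine ⟨h.h₁.swap, h.h₂.swap, h.nine, ?_, h.syl, h.vw, ?_, ?_⟩
  · obtain ⟨g, hg1, hg2⟩ := h.fuse
    refine ⟨g * g, ?_, ?_⟩
    · calc g * g * z * (g * g)⁻¹ = g * (g * z * g⁻¹) * g⁻¹ := by group
        _ = z * τ := by rw [hg1, hg2]
    · have hg3 : g * (z * τ) * g⁻¹ = z := by
        calc g * (z * τ) * g⁻¹ = (g * z * g⁻¹) * (g * τ * g⁻¹) := by group
          _ = τ * (z * τ) := by rw [hg1, hg2]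
          _ = z * (τ * τ) := by rw [← mul_assoc, ← h.h₁.zτ]; group
          _ = z := by rw [h.h₁.ττ, mul_one]
      rw [e1]
      calc g * g * (z * τ) * (g * g)⁻¹ = g * (g * (z * τ) * g⁻¹) * g⁻¹ := by group
        _ = τ := by rw [hg3, hg1]
  · intro n hn h1 h2
    obtain ⟨a, b, hab⟩ := h.nor n hn h1 h2
    refine ⟨a, b, ?_⟩
    rw [e1]
    rcases hab with hab | hab | hab | hab
    · exact Or.inl hab
    · exact Or.inr (Or.inl hab)
    · exact Or.inr (Or.inr (Or.inr hab))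
    · exact Or.inr (Or.inr (Or.inl hab))
  · intro g h1 h2 ho
    refine h.vcent g h1 ?_ ho
    have c1 : Commute g z := h1
    have c2 : Commute g (z * τ) := h2
    have : Commute g (z⁻¹ * (z * τ)) := c1.inv_right.mul_right c2
    rw [inv_mul_cancel_left] at this
    exact this.eq

variable (h : Two z τ x₁ x₂ Q₁ Q₂)

include h

/-- `x₂ ∉ ⟨x₁⟩` -/
theorem x₂_not : x₂ ∉ Subgroup.zpowers x₁ := by
  rintro ⟨n, hn⟩
  have hn' : x₁ ^ n = x₂ := hn
  obtain ⟨q, hq, hne⟩ := h.h₁.ne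
  apply hne
  rw [← hn']
  exact (h.h₁.x_zpow_comm hq n).symm

theorem x₁_not : x₁ ∉ Subgroup.zpowers x₂ := h.symm.x₂_not

/-- `⟨x₁⟩ ∩ ⟨x₂⟩ = 1` -/
theorem inter {a b : ℤ} (hab : x₁ ^ a * x₂ ^ b = 1) : x₁ ^ a = 1 ∧ x₂ ^ b = 1 := by
  have h1 : x₁ ^ a = x₂ ^ (-b) := by
    rw [zpow_neg]; exact eq_inv_of_mul_eq_one_left hab
  have h2 : x₁ ^ a = 1 := by
    rcases zpow_three_cases h.h₁.x3 a with h3 | h3 | h3
    · exact h3
    · exact absurd ⟨-b, by show x₂ ^ (-b) = x₁; rw [← h1, h3]⟩ h.x₁_not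
    · exact absurd ⟨b, by
        show x₂ ^ b = x₁
        have : x₂ ^ b = (x₂ ^ (-b))⁻¹ := by rw [zpow_neg, inv_inv]
        rw [this, ← h1, h3, inv_inv]⟩ h.x₁_not
  refine ⟨h2, ?_⟩
  rw [h2, one_mul] at hab
  exact hab

/-- odd-order elements of `C_G(z)` have order dividing `3` -/
theorem cube_of_z {k : G} (hk : k * z = z * k) (ho : Odd (orderOf k)) : k ^ 3 = 1 := by
  obtain ⟨c, -, a, b, hab⟩ := h.syl k hk ho
  have h1 : (c * k * c⁻¹) ^ 3 = 1 := by rw [hab, h.h₁.xy_cube]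
  rw [conj_pow] at h1
  calc k ^ 3 = c⁻¹ * (c * k ^ 3 * c⁻¹) * c := by group
    _ = 1 := by rw [h1]; group

/-- odd-order elements of `C_G(τ)` have order dividing `3` -/
theorem cube_of_τ {k : G} (hk : k * τ = τ * k) (ho : Odd (orderOf k)) : k ^ 3 = 1 := by
  obtain ⟨g, hg1, -⟩ := h.fuse
  have h1 : (g⁻¹ * k * g) ^ 3 = 1 := by
    apply h.cube_of_z
    · rw [← hg1] at hk
      calc g⁻¹ * k * g * z = g⁻¹ * (k * (g * z * g⁻¹)) * g := by group
        _ = z * (g⁻¹ * k * g) := by rw [hk]; group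
    · have := (MulAut.conj g⁻¹).orderOf_eq k
      simp only [MulAut.conj_apply, inv_inv] at this
      rwa [this]
  have h2 := conj_pow (i := 3) (a := g⁻¹) (b := k)
  rw [inv_inv, h1] at h2
  calc k ^ 3 = g * (g⁻¹ * k ^ 3 * g) * g⁻¹ := by group
    _ = 1 := by rw [← h2]; group

/-- odd-order subgroups of `C_G(τ)` have order dividing `9` -/
theorem nine_τ (A : Subgroup G) (hA : ∀ a ∈ A, a * τ = τ * a) (ho : Odd (Nat.card A)) : Nat.card A ∣ 9 := by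
  obtain ⟨g, hg1, -⟩ := h.fuse
  have h1 := h.nine (A.map (MulAut.conj g⁻¹).toMonoidHom) (by
    rintro _ ⟨a, ha, rfl⟩
    have hk := hA a ha
    rw [← hg1] at hk
    show g⁻¹ * a * g⁻¹⁻¹ * z = z * (g⁻¹ * a * g⁻¹⁻¹)
    rw [inv_inv]
    calc g⁻¹ * a * g * z = g⁻¹ * (a * (g * z * g⁻¹)) * g := by group
      _ = z * (g⁻¹ * a * g) := by rw [hk]; group) (by
    rwa [Subgroup.card_map_of_injective (MulAut.conj g⁻¹).injective])
  rwa [Subgroup.card_map_of_injective (MulAut.conj g⁻¹).injective] at h1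

theorem nine_zτ (A : Subgroup G) (hA : ∀ a ∈ A, a * (z * τ) = z * τ * a) (ho : Odd (Nat.card A)) :
    Nat.card A ∣ 9 := h.swap.nine_τ A hA ho

/-- `P` -/
theorem card_P [Finite G] : Nat.card (ThreeLocal.pGrp x₁ x₂ h.h₁.xy) = 9 := by
  apply le_antisymm
  · calc Nat.card (ThreeLocal.pGrp x₁ x₂ h.h₁.xy) ≤ Nat.card (Subgroup.zpowers x₁) * Nat.card (Subgroup.zpowers x₂) :=
        card_le_mul _ _ _ (by
          rintro _ ⟨a, b, rfl⟩
          exact ⟨_, Subgroup.zpow_mem_zpowers x₁ a, _, Subgroup.zpow_mem_zpowers x₂ b, rfl⟩)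
      _ = 9 := by rw [card_zpowers_three h.h₁.x3 h.h₁.x1, card_zpowers_three h.h₂.x3 h.h₂.x1]
  · calc 9 = Nat.card (Subgroup.zpowers x₁) * Nat.card (Subgroup.zpowers x₂) := by
          rw [card_zpowers_three h.h₁.x3 h.h₁.x1, card_zpowers_three h.h₂.x3 h.h₂.x1]
      _ ≤ _ := mul_card_le _ _ _ (by
          rw [Subgroup.zpowers_le]; exact ⟨1, 0, by simp⟩) (by
          rw [Subgroup.zpowers_le]; exact ⟨0, 1, by simp⟩) (by
          rintro _ ⟨a, rfl⟩ ⟨b, hb⟩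
          have hb' : x₂ ^ b = x₁ ^ a := hb
          refine (h.inter (a := a) (b := -b) ?_).1
          rw [zpow_neg, hb', mul_inv_cancel])

end Two

/-- The situation `|C_K(τ)| = 3`: `k` generates `C_K(τ)` and commutes with `x₂`. -/
structure Sit {G : Type*} [Group G] (z τ x₁ x₂ : G) (Q₁ Q₂ : Subgroup G) (k : G) : Prop
    extends Two z τ x₁ x₂ Q₁ Q₂ where
  c1 : Nat.card (centralizerPPrimeCore 2 x₁) = 27
  k1 : k ∈ centralizerPPrimeCore 2 x₁
  kne : k ≠ 1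
  k3 : k ^ 3 = 1
  kτ : k * τ = τ * k
  kx1 : x₁ * k = k * x₁
  kx2 : x₂ * k = k * x₂

namespace Sit

variable {G : Type*} [Group G] [Finite G] {z τ x₁ x₂ k : G} {Q₁ Q₂ : Subgroup G}
  (S : Sit z τ x₁ x₂ Q₁ Q₂ k)

include S

theorem kz : z * k * z⁻¹ = k⁻¹ := S.h₁.inv_of_τ S.k1 S.kτ

theorem kz_zpow (c : ℤ) : z * k ^ c * z⁻¹ = k ^ (-c) := by
  rw [← conj_zpow, S.kz]; group

theorem k2 : k ∈ centralizerPPrimeCore 2 x₂ := S.h₂.mem_core_of_inv S.kx2.symm S.kz S.k3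

omit [Finite G] in
theorem z_P (a b : ℤ) : z * (x₁ ^ a * x₂ ^ b) = x₁ ^ a * x₂ ^ b * z :=
  (Commute.mul_right ((show Commute z x₁ from S.h₁.zx).zpow_right a)
    ((show Commute z x₂ from S.h₂.zx).zpow_right b)).eq

/-- `R = ⟨x₁, x₂, k⟩` -/
abbrev R : Subgroup G := rGrp x₁ x₂ k S.h₁.xy S.kx1 S.kx2

theorem z_R {a b c : ℤ} : z * (x₁ ^ a * x₂ ^ b * k ^ c) * z⁻¹ = x₁ ^ a * x₂ ^ b * k ^ (-c) := by
  calc z * (x₁ ^ a * x₂ ^ b * k ^ c) * z⁻¹ = z * (x₁ ^ a * x₂ ^ b) * z⁻¹ * (z * k ^ c * z⁻¹) := by group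
    _ = x₁ ^ a * x₂ ^ b * k ^ (-c) := by rw [S.kz_zpow, S.z_P]; group

omit [Finite G] in
theorem k_of_sq {c : ℤ} (hc : k ^ c = k ^ (-c)) : k ^ c = 1 := by
  have h1 : k ^ c * k ^ c = 1 := by
    nth_rewrite 2 [hc]
    rw [← zpow_add, add_neg_cancel, zpow_zero]
  exact eq_one_of_sq_cube h1 (zpow_cube S.k3 c)

/-- uniqueness of the normal form -/
theorem inter_k {a b c : ℤ} (habc : x₁ ^ a * x₂ ^ b * k ^ c = 1) : x₁ ^ a = 1 ∧ x₂ ^ b = 1 ∧ k ^ c = 1 := by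
  have h1 : z * (x₁ ^ a * x₂ ^ b * k ^ c) * z⁻¹ = 1 := by rw [habc]; group
  rw [S.z_R] at h1
  have h2 : k ^ c = k ^ (-c) := mul_left_cancel (habc.trans h1.symm)
  have h3 := S.k_of_sq h2
  rw [h3, mul_one] at habc
  obtain ⟨h4, h5⟩ := S.toTwo.inter habc
  exact ⟨h4, h5, h3⟩

theorem card_R : Nat.card S.R = 27 := by
  apply le_antisymm
  · calc Nat.card S.R ≤ Nat.card (ThreeLocal.pGrp x₁ x₂ S.h₁.xy) * Nat.card (Subgroup.zpowers k) :=
        card_le_mul _ _ _ (by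
          rintro _ ⟨a, b, c, rfl⟩
          exact ⟨_, ⟨a, b, rfl⟩, _, Subgroup.zpow_mem_zpowers k c, rfl⟩)
      _ = 27 := by rw [S.card_P, card_zpowers_three S.k3 S.kne]
  · calc 27 = Nat.card (ThreeLocal.pGrp x₁ x₂ S.h₁.xy) * Nat.card (Subgroup.zpowers k) := by
          rw [S.card_P, card_zpowers_three S.k3 S.kne]
      _ ≤ _ := mul_card_le _ _ _ (by
          rintro _ ⟨a, b, rfl⟩
          exact ⟨a, b, 0, by simp⟩) (by
          rw [Subgroup.zpowers_le]; exact ⟨0, 0, 1, by simp⟩) (by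
          rintro _ ⟨a, b, rfl⟩ ⟨c, hc⟩
          have hc' : k ^ c = x₁ ^ a * x₂ ^ b := hc
          obtain ⟨h1, h2, -⟩ := S.inter_k (a := a) (b := b) (c := -c) (by
            rw [zpow_neg, hc', mul_inv_cancel])
          rw [h1, h2, mul_one])

/-- `C_K(x₂) = ⟨x₁, k⟩` -/
theorem cent_x₂ {u : G} (hu : u ∈ centralizerPPrimeCore 2 x₁) (hux : u * x₂ = x₂ * u) :
    ∃ a c : ℤ, u = x₁ ^ a * k ^ c := by
  set D := centralizerPPrimeCore 2 x₁ ⊓ Subgroup.centralizer ({x₂} : Set G) with hD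
  set E := ThreeLocal.pGrp x₁ k S.kx1 with hE
  have hEcard : 9 ≤ Nat.card E := by
    calc 9 = Nat.card (Subgroup.zpowers x₁) * Nat.card (Subgroup.zpowers k) := by
          rw [card_zpowers_three S.h₁.x3 S.h₁.x1, card_zpowers_three S.k3 S.kne]
      _ ≤ _ := mul_card_le _ _ _ (by
          rw [Subgroup.zpowers_le]; exact ⟨1, 0, by simp⟩) (by
          rw [Subgroup.zpowers_le]; exact ⟨0, 1, by simp⟩) (by
          rintro _ ⟨a, rfl⟩ ⟨c, hc⟩
          have hc' : k ^ c = x₁ ^ a := hc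
          exact (S.inter_k (a := a) (b := 0) (c := -c) (by
            rw [zpow_neg, hc', zpow_zero, mul_one, mul_inv_cancel])).1)
  have hED : E ≤ D := by
    rintro _ ⟨a, c, rfl⟩
    refine ⟨Subgroup.mul_mem _ (Subgroup.zpow_mem _ S.h₁.x_mem a) (Subgroup.zpow_mem _ S.k1 c), mem_cent.2 ?_⟩
    exact (((show Commute x₁ x₂ from S.h₁.xy).zpow_left a).mul_left
      ((show Commute k x₂ from S.kx2.symm).zpow_left c)).eq
  have hDK : D ≤ centralizerPPrimeCore 2 x₁ := inf_le_left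
  have hDne : D ≠ centralizerPPrimeCore 2 x₁ := by
    intro he
    have h1 := S.h₁.eq_of_le_cent (fun k hk => by
      rw [← he] at hk
      exact mem_cent.1 hk.2)
    have h2 : centralizerPPrimeCore 2 x₁ ≤ Subgroup.zpowers x₁ := h1
    have h3 := Subgroup.card_le_of_le h2
    rw [S.c1, card_zpowers_three S.h₁.x3 S.h₁.x1] at h3
    omega
  have hDcard : Nat.card D ≤ 9 := by
    have h1 := Subgroup.card_dvd_of_le hDK
    rw [S.c1] at h1
    have h2 : Nat.card D ≠ 27 := by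
      intro h2
      exact hDne (Subgroup.eq_of_le_of_card_ge hDK (by rw [S.c1, h2]))
    have h3 : Nat.card D ∈ Nat.divisors 27 := Nat.mem_divisors.2 ⟨h1, by norm_num⟩
    have h4 : Nat.divisors 27 = {1, 3, 9, 27} := by decide
    rw [h4] at h3
    simp only [Finset.mem_insert, Finset.mem_singleton] at h3
    omega
  have hDE : E = D := Subgroup.eq_of_le_of_card_ge hED (by omega)
  have hu' : u ∈ D := ⟨hu, mem_cent.2 hux⟩
  rw [← hDE] at hu'
  exact hu'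

/-- `C_G(P) = R⟨z⟩` -/
theorem cent_P {g : G} (h1 : g * x₁ = x₁ * g) (h2 : g * x₂ = x₂ * g) : g ∈ S.R ∨ ∃ r ∈ S.R, g = r * z := by
  obtain ⟨u, hu, hux, b, hg⟩ := S.h₁.cent_xy h1 h2
  obtain ⟨a, c, rfl⟩ := S.cent_x₂ hu hux
  have hR : x₁ ^ a * k ^ c * x₂ ^ b ∈ S.R := by
    refine ⟨a, b, c, ?_⟩
    have : Commute (k ^ c) (x₂ ^ b) := (show Commute k x₂ from S.kx2.symm).zpow_zpow c b
    calc x₁ ^ a * k ^ c * x₂ ^ b = x₁ ^ a * (k ^ c * x₂ ^ b) := by group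
      _ = x₁ ^ a * x₂ ^ b * k ^ c := by rw [this.eq]; group
  rcases hg with hg | hg
  · left; rw [hg]; exact hR
  · right; exact ⟨_, hR, hg⟩

omit [Finite G] in
theorem x₁_R : x₁ ∈ S.R := ⟨1, 0, 0, by simp⟩

omit [Finite G] in
theorem x₂_R : x₂ ∈ S.R := ⟨0, 1, 0, by simp⟩

omit [Finite G] in
theorem k_R : k ∈ S.R := ⟨0, 0, 1, by simp⟩

omit [Finite G] in
theorem R_cube {r : G} (hr : r ∈ S.R) : r ^ 3 = 1 := by
  obtain ⟨a, b, c, rfl⟩ := hr
  have h1 : Commute (x₁ ^ a * x₂ ^ b) (k ^ c) :=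
    ((show Commute x₁ k from S.kx1).zpow_zpow a c).mul_left ((show Commute x₂ k from S.kx2).zpow_zpow b c)
  rw [h1.mul_pow, S.h₁.xy_cube, zpow_cube S.k3, one_mul]

theorem R_z {r : G} (hr : r ∈ S.R) (hz : r * z = z * r) : ∃ a b : ℤ, r = x₁ ^ a * x₂ ^ b := by
  obtain ⟨a, b, c, rfl⟩ := hr
  have h1 := S.z_R (a := a) (b := b) (c := c)
  rw [← hz, mul_inv_cancel_right] at h1
  have h2 := S.k_of_sq (mul_left_cancel h1)
  exact ⟨a, b, by rw [h2, mul_one]⟩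

omit [Finite G] in
theorem τ_P (a b : ℤ) : τ * (x₁ ^ a * x₂ ^ b) * τ⁻¹ = (x₁ ^ a * x₂ ^ b)⁻¹ := by
  calc τ * (x₁ ^ a * x₂ ^ b) * τ⁻¹ = (τ * x₁ ^ a * τ⁻¹) * (τ * x₂ ^ b * τ⁻¹) := by group
    _ = (x₁ ^ a)⁻¹ * (x₂ ^ b)⁻¹ := by
      rw [← conj_zpow, ← conj_zpow, S.h₁.τx, S.h₂.τx, inv_zpow, inv_zpow]
    _ = (x₂ ^ b * x₁ ^ a)⁻¹ := by group
    _ = (x₁ ^ a * x₂ ^ b)⁻¹ := by rw [S.h₁.xy_zpow]

omit [Finite G] in
theorem R_τ {r : G} (hr : r ∈ S.R) (hz : τ * r * τ⁻¹ = r) : ∃ c : ℤ, r = k ^ c := by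
  obtain ⟨a, b, c, rfl⟩ := hr
  have hkτ : Commute τ (k ^ c) := Commute.zpow_right S.kτ.symm c
  have h1 : τ * (x₁ ^ a * x₂ ^ b * k ^ c) * τ⁻¹ = (x₁ ^ a * x₂ ^ b)⁻¹ * k ^ c := by
    calc τ * (x₁ ^ a * x₂ ^ b * k ^ c) * τ⁻¹ = τ * (x₁ ^ a * x₂ ^ b) * τ⁻¹ * (τ * k ^ c * τ⁻¹) := by group
      _ = (x₁ ^ a * x₂ ^ b)⁻¹ * k ^ c := by rw [S.τ_P, hkτ.eq]; group
  rw [h1] at hz
  have h2 : (x₁ ^ a * x₂ ^ b)⁻¹ = x₁ ^ a * x₂ ^ b := mul_right_cancel hz
  have h3 : x₁ ^ a * x₂ ^ b = 1 := by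
    apply eq_one_of_sq_cube _ (S.h₁.xy_cube a b)
    nth_rewrite 1 [← h2]
    group
  exact ⟨c, by rw [h3, one_mul]⟩

/-- `T = K⟨x₂⟩` -/
def T : Subgroup G where
  carrier := {t | ∃ u ∈ centralizerPPrimeCore 2 x₁, ∃ b : ℤ, t = u * x₂ ^ b}
  one_mem' := ⟨1, Subgroup.one_mem _, 0, by simp⟩
  mul_mem' := by
    rintro _ _ ⟨u, hu, b, rfl⟩ ⟨u', hu', b', rfl⟩
    have hx : x₂ ^ b * x₁ = x₁ * x₂ ^ b := ((show Commute x₂ x₁ from S.h₂.xy).zpow_left b).eq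
    refine ⟨u * (x₂ ^ b * u' * (x₂ ^ b)⁻¹), Subgroup.mul_mem _ hu (core_conj_mem hx hu'), b + b', ?_⟩
    rw [zpow_add]; group
  inv_mem' := by
    rintro _ ⟨u, hu, b, rfl⟩
    have hx : x₂ ^ (-b) * x₁ = x₁ * x₂ ^ (-b) := ((show Commute x₂ x₁ from S.h₂.xy).zpow_left (-b)).eq
    refine ⟨x₂ ^ (-b) * u⁻¹ * (x₂ ^ (-b))⁻¹, core_conj_mem hx (Subgroup.inv_mem _ hu), -b, ?_⟩
    group

omit [Finite G] in
theorem mem_T {t : G} : t ∈ S.T ↔ ∃ u ∈ centralizerPPrimeCore 2 x₁, ∃ b : ℤ, t = u * x₂ ^ b := Iff.rfl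

theorem card_T : Nat.card S.T = 81 := by
  apply le_antisymm
  · calc Nat.card S.T ≤ Nat.card (centralizerPPrimeCore 2 x₁) * Nat.card (Subgroup.zpowers x₂) :=
        card_le_mul _ _ _ (by
          rintro _ ⟨u, hu, b, rfl⟩
          exact ⟨u, hu, _, Subgroup.zpow_mem_zpowers x₂ b, rfl⟩)
      _ = 81 := by rw [S.c1, card_zpowers_three S.h₂.x3 S.h₂.x1]
  · calc 81 = Nat.card (centralizerPPrimeCore 2 x₁) * Nat.card (Subgroup.zpowers x₂) := by
          rw [S.c1, card_zpowers_three S.h₂.x3 S.h₂.x1]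
      _ ≤ _ := mul_card_le _ _ _ (by intro u hu; exact ⟨u, hu, 0, by simp⟩) (by
          rw [Subgroup.zpowers_le]; exact ⟨1, Subgroup.one_mem _, 1, by simp⟩) (by
          rintro u hu ⟨b, hb⟩
          have hb' : x₂ ^ b = u := hb
          have hz : u * z = z * u := by
            rw [← hb']; exact ((show Commute z x₂ from S.h₂.zx).zpow_right b).eq.symm
          obtain ⟨a, ha⟩ := S.h₁.core_z hu hz
          have ha' : x₁ ^ a = u := ha
          rw [← ha']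
          exact (S.toTwo.inter (a := a) (b := -b) (by rw [zpow_neg, hb', ha', mul_inv_cancel])).1)

theorem norm_R {u : G} (hu : u ∈ centralizerPPrimeCore 2 x₁) : ∀ r ∈ S.R, u * r * u⁻¹ ∈ S.R := by
  have hRT : S.R ≤ S.T := by
    rintro _ ⟨a, b, c, rfl⟩
    refine ⟨x₁ ^ a * k ^ c, Subgroup.mul_mem _ (Subgroup.zpow_mem _ S.h₁.x_mem a) (Subgroup.zpow_mem _ S.k1 c), b, ?_⟩
    have : Commute (k ^ c) (x₂ ^ b) := (show Commute k x₂ from S.kx2.symm).zpow_zpow c b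
    calc x₁ ^ a * x₂ ^ b * k ^ c = x₁ ^ a * (x₂ ^ b * k ^ c) := by group
      _ = x₁ ^ a * k ^ c * x₂ ^ b := by rw [← this.eq]; group
  have hidx : (S.R.subgroupOf S.T).index = 3 := by
    have h1 := Subgroup.card_mul_index (S.R.subgroupOf S.T)
    rw [Nat.card_congr (Subgroup.subgroupOfEquivOfLe hRT).toEquiv, S.card_R, S.card_T] at h1
    omega
  have hnor : (S.R.subgroupOf S.T).Normal := by
    apply Subgroup.normal_of_index_eq_minFac_card
    rw [hidx, S.card_T]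
    norm_num
  intro r hr
  have huT : u ∈ S.T := ⟨u, hu, 0, by simp⟩
  exact hnor.conj_mem ⟨r, hRT hr⟩ hr ⟨u, huT⟩

/-- `k` is not conjugate to a power of `x₁` by an element mapping `z` to `τ`. -/
theorem not_x₁ {g : G} (hg : g * z * g⁻¹ = τ) (n : ℤ) (hn : g⁻¹ * k * g = x₁ ^ n) : False := by
  -- the core of `C_G(k)`
  have hkg : k = g * x₁ ^ n * g⁻¹ := by rw [← hn]; group
  have hn1 : x₁ ^ n ≠ 1 := by
    intro h1
    apply S.kne
    rw [hkg, h1]; group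
  have hcore : centralizerPPrimeCore 2 (x₁ ^ n) = centralizerPPrimeCore 2 x₁ := by
    rcases zpow_three_cases S.h₁.x3 n with h1 | h1 | h1
    · exact absurd h1 hn1
    · rw [h1]
    · rw [h1, Half.core_inv]
  have hcomm : ∀ c : G, c * x₁ ^ n = x₁ ^ n * c → c * x₁ = x₁ * c := by
    intro c hc
    rcases zpow_three_cases S.h₁.x3 n with h1 | h1 | h1
    · exact absurd h1 hn1
    · rwa [h1] at hc
    · rw [h1] at hc
      have : Commute c x₁⁻¹ := hc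
      simpa using this.inv_right.eq
  have hmem : ∀ t : G, t ∈ centralizerPPrimeCore 2 k ↔ g⁻¹ * t * g ∈ centralizerPPrimeCore 2 x₁ := by
    intro t
    rw [hkg, mem_core_conj, hcore]
  have hcard : Nat.card (centralizerPPrimeCore 2 k) = 27 := by
    have : centralizerPPrimeCore 2 k = (centralizerPPrimeCore 2 x₁).map (MulAut.conj g).toMonoidHom := by
      ext t
      rw [hmem]
      constructor
      · intro ht
        refine ⟨_, ht, ?_⟩
        show g * (g⁻¹ * t * g) * g⁻¹ = t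
        group
      · rintro ⟨s, hs, rfl⟩
        show g⁻¹ * (g * s * g⁻¹) * g ∈ _
        have e : g⁻¹ * (g * s * g⁻¹) * g = s := by group
        rwa [e]
    rw [this, Subgroup.card_map_of_injective (MulAut.conj g).injective, S.c1]
  -- `[τ, c] ∈ O(C_G(k))` for `c ∈ C_G(k)`
  have hτc : ∀ c : G, c * k = k * c → τ * c * τ⁻¹ * c⁻¹ ∈ centralizerPPrimeCore 2 k := by
    intro c hc
    rw [hmem]
    have h1 : (g⁻¹ * c * g) * x₁ = x₁ * (g⁻¹ * c * g) := by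
      apply hcomm
      rw [← hn]
      calc g⁻¹ * c * g * (g⁻¹ * k * g) = g⁻¹ * (c * k) * g := by group
        _ = g⁻¹ * k * g * (g⁻¹ * c * g) := by rw [hc]; group
    have h2 := S.h₁.comm_mem_core h1
    have e : g⁻¹ * (τ * c * τ⁻¹ * c⁻¹) * g = z * (g⁻¹ * c * g) * z⁻¹ * (g⁻¹ * c * g)⁻¹ := by
      rw [← hg]; group
    rw [e]
    exact h2
  have hkk : k ∈ centralizerPPrimeCore 2 k := by
    rw [hmem, hn]
    exact Subgroup.zpow_mem _ S.h₁.x_mem n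
  have hPk : ∀ x : G, x * k = k * x → x ^ 3 = 1 → τ * x * τ⁻¹ = x⁻¹ → x ∈ centralizerPPrimeCore 2 k := by
    intro x hx hx3 hτx
    have h1 := hτc x hx
    rw [hτx] at h1
    have e : x⁻¹ * x⁻¹ = x := by
      rw [pow_succ, pow_two] at hx3
      calc x⁻¹ * x⁻¹ = x⁻¹ * x⁻¹ * (x * x * x) := by rw [hx3, mul_one]
        _ = x := by group
    rwa [e] at h1
  have hR : S.R = centralizerPPrimeCore 2 k := by
    apply Subgroup.eq_of_le_of_card_ge
    · rintro _ ⟨a, b, c, rfl⟩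
      exact Subgroup.mul_mem _ (Subgroup.mul_mem _
        (Subgroup.zpow_mem _ (hPk x₁ S.kx1 S.h₁.x3 S.h₁.τx) a)
        (Subgroup.zpow_mem _ (hPk x₂ S.kx2 S.h₂.x3 S.h₂.τx) b)) (Subgroup.zpow_mem _ hkk c)
    · rw [hcard, S.card_R]
  -- the element `q' = g q g⁻¹` with square `τ`
  obtain ⟨q, hq, hqq⟩ := S.h₁.sq
  set q' := g * q * g⁻¹ with hq'
  have hq'q' : q' * q' = τ := by
    rw [hq', ← hg, ← hqq]; group
  have hq'k : q' * k = k * q' := by
    have h1 := S.h₁.x_zpow_comm hq n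
    rw [hkg, hq']
    calc g * q * g⁻¹ * (g * x₁ ^ n * g⁻¹) = g * (q * x₁ ^ n) * g⁻¹ := by group
      _ = g * x₁ ^ n * g⁻¹ * (g * q * g⁻¹) := by rw [h1]; group
  have hq'τ : q' * τ = τ * q' := by rw [← hq'q']; group
  have hq'R : ∀ r ∈ S.R, q' * r * q'⁻¹ ∈ S.R := by
    intro r hr
    rw [hR] at hr ⊢
    exact core_conj_mem hq'k hr
  have hq'R' : ∀ r ∈ S.R, q'⁻¹ * r * q' ∈ S.R := by
    intro r hr
    rw [hR] at hr ⊢
    have h1 : q'⁻¹ * k = k * q'⁻¹ := (Commute.inv_left (show Commute q' k from hq'k)).eq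
    have := core_conj_mem h1 hr
    rwa [inv_inv] at this
  -- `q'` normalises `P`
  have hinvP : ∀ r ∈ S.R, τ * r * τ⁻¹ = r⁻¹ → ∃ a b : ℤ, r = x₁ ^ a * x₂ ^ b := by
    rintro _ ⟨a, b, c, rfl⟩ hr
    have hkτ : Commute τ (k ^ c) := Commute.zpow_right S.kτ.symm c
    have h1 : τ * (x₁ ^ a * x₂ ^ b * k ^ c) * τ⁻¹ = (x₁ ^ a * x₂ ^ b)⁻¹ * k ^ c := by
      calc τ * (x₁ ^ a * x₂ ^ b * k ^ c) * τ⁻¹ = τ * (x₁ ^ a * x₂ ^ b) * τ⁻¹ * (τ * k ^ c * τ⁻¹) := by group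
        _ = (x₁ ^ a * x₂ ^ b)⁻¹ * k ^ c := by rw [S.τ_P, hkτ.eq]; group
    have h2 : Commute (x₁ ^ a * x₂ ^ b) (k ^ c) :=
      ((show Commute x₁ k from S.kx1).zpow_zpow a c).mul_left ((show Commute x₂ k from S.kx2).zpow_zpow b c)
    have h4 : (x₁ ^ a * x₂ ^ b * k ^ c)⁻¹ = (x₁ ^ a * x₂ ^ b)⁻¹ * (k ^ c)⁻¹ := by
      rw [mul_inv_rev (x₁ ^ a * x₂ ^ b) (k ^ c)]
      exact h2.inv_inv.eq.symm
    rw [h1, h4] at hr
    have h3 : k ^ c = k ^ (-c) := by rw [zpow_neg]; exact mul_left_cancel hr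
    refine ⟨a, b, ?_⟩
    rw [S.k_of_sq h3, mul_one]
  have hq'P : ∀ x ∈ S.R, τ * x * τ⁻¹ = x⁻¹ → ∃ a b : ℤ, q' * x * q'⁻¹ = x₁ ^ a * x₂ ^ b := by
    intro x hx hτx
    apply hinvP _ (hq'R x hx)
    calc τ * (q' * x * q'⁻¹) * τ⁻¹ = (τ * q') * x * (τ * q')⁻¹ := by group
      _ = q' * (τ * x * τ⁻¹) * q'⁻¹ := by rw [← hq'τ]; group
      _ = (q' * x * q'⁻¹)⁻¹ := by rw [hτx]; group
  have hq'P' : ∀ x ∈ S.R, τ * x * τ⁻¹ = x⁻¹ → ∃ a b : ℤ, q'⁻¹ * x * q' = x₁ ^ a * x₂ ^ b := by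
    intro x hx hτx
    apply hinvP _ (hq'R' x hx)
    have hc : τ * q'⁻¹ = q'⁻¹ * τ := (Commute.inv_right (show Commute τ q' from hq'τ.symm)).eq
    calc τ * (q'⁻¹ * x * q') * τ⁻¹ = (τ * q'⁻¹) * x * (τ * q'⁻¹)⁻¹ := by group
      _ = q'⁻¹ * (τ * x * τ⁻¹) * q' := by rw [hc]; group
      _ = (q'⁻¹ * x * q')⁻¹ := by rw [hτx]; group
  -- `w = q' z q'⁻¹` centralises `P`
  set w := q' * z * q'⁻¹ with hw
  have hwP : ∀ x ∈ S.R, τ * x * τ⁻¹ = x⁻¹ → w * x = x * w := by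
    intro x hx hτx
    obtain ⟨a, b, hab⟩ := hq'P' x hx hτx
    have h1 := S.z_P a b
    rw [← hab] at h1
    calc w * x = q' * (z * (q'⁻¹ * x * q')) * q'⁻¹ := by rw [hw]; group
      _ = x * w := by rw [h1, hw]; group
  have hww : w * w = 1 := by
    calc w * w = q' * (z * z) * q'⁻¹ := by rw [hw]; group
      _ = 1 := by rw [S.h₁.zz]; group
  have hw1 : w ≠ 1 := by
    intro h1
    apply S.h₁.z1
    calc z = q'⁻¹ * w * q' := by rw [hw]; group
      _ = 1 := by rw [h1]; group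
  have hwx1 := hwP x₁ S.x₁_R S.h₁.τx
  have hwx2 := hwP x₂ S.x₂_R S.h₂.τx
  obtain ⟨c, hc⟩ : ∃ c : ℤ, w = k ^ c * z := by
    rcases S.cent_P hwx1 hwx2 with hwR | ⟨r, hr, hwr⟩
    · exact absurd (eq_one_of_sq_cube hww (S.R_cube hwR)) hw1
    · obtain ⟨a, b, c, rfl⟩ := hr
      refine ⟨c, ?_⟩
      -- `r z r z = 1`
      have h1 : (x₁ ^ a * x₂ ^ b * k ^ c) * (x₁ ^ a * x₂ ^ b * k ^ (-c)) = 1 := by
        rw [← S.z_R (a := a) (b := b) (c := c), S.h₁.z_inv]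
        rw [hwr] at hww
        calc x₁ ^ a * x₂ ^ b * k ^ c * (z * (x₁ ^ a * x₂ ^ b * k ^ c) * z)
            = x₁ ^ a * x₂ ^ b * k ^ c * z * (x₁ ^ a * x₂ ^ b * k ^ c * z) := by group
          _ = 1 := hww
      have h2 : Commute (x₁ ^ a * x₂ ^ b) (k ^ c) :=
        ((show Commute x₁ k from S.kx1).zpow_zpow a c).mul_left ((show Commute x₂ k from S.kx2).zpow_zpow b c)
      have h3 : x₁ ^ a * x₂ ^ b * (x₁ ^ a * x₂ ^ b) = 1 := by
        calc x₁ ^ a * x₂ ^ b * (x₁ ^ a * x₂ ^ b) = x₁ ^ a * x₂ ^ b * (x₁ ^ a * x₂ ^ b * k ^ c) * k ^ (-c) := by group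
          _ = x₁ ^ a * x₂ ^ b * (k ^ c * (x₁ ^ a * x₂ ^ b)) * k ^ (-c) := by rw [h2.eq]
          _ = (x₁ ^ a * x₂ ^ b * k ^ c) * (x₁ ^ a * x₂ ^ b * k ^ (-c)) := by group
          _ = 1 := h1
      have h4 := eq_one_of_sq_cube h3 (S.h₁.xy_cube a b)
      rw [hwr, h4, one_mul]
  -- `m = k^(2c)`, `m z m⁻¹ = w`
  set m := k ^ (2 * c) with hm
  have hmz : m * z * m⁻¹ = w := by
    have h1 : z * m⁻¹ * z⁻¹ = m := by
      rw [hm, ← zpow_neg, S.kz_zpow, neg_neg]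
    have h2 : m * m = k ^ c := by
      rw [hm, ← zpow_add, show 2 * c + 2 * c = c + c * 3 by ring, zpow_add, zpow_mul]
      have : (k ^ c) ^ (3 : ℤ) = 1 := by exact_mod_cast zpow_cube S.k3 c
      rw [this, mul_one]
    calc m * z * m⁻¹ = m * (z * m⁻¹ * z⁻¹) * z := by group
      _ = w := by rw [h1, h2, hc]
  set n' := m⁻¹ * q' with hn'
  have hn'z : n' * z = z * n' := by
    calc n' * z = m⁻¹ * w * q' := by rw [hn', hw]; group
      _ = z * n' := by rw [← hmz, hn']; group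
  have hmP : ∀ a b : ℤ, m⁻¹ * (x₁ ^ a * x₂ ^ b) * m = x₁ ^ a * x₂ ^ b := by
    intro a b
    have h2 : Commute (x₁ ^ a * x₂ ^ b) m :=
      ((show Commute x₁ k from S.kx1).zpow_zpow a _).mul_left ((show Commute x₂ k from S.kx2).zpow_zpow b _)
    rw [mul_assoc, h2.eq]; group
  have hn'P : ∀ x ∈ S.R, τ * x * τ⁻¹ = x⁻¹ → ∃ a b : ℤ, n' * x * n'⁻¹ = x₁ ^ a * x₂ ^ b := by
    intro x hx hτx
    obtain ⟨a, b, hab⟩ := hq'P x hx hτx
    refine ⟨a, b, ?_⟩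
    calc n' * x * n'⁻¹ = m⁻¹ * (q' * x * q'⁻¹) * m := by rw [hn']; group
      _ = x₁ ^ a * x₂ ^ b := by rw [hab, hmP]
  obtain ⟨a, b, hab⟩ := S.nor n' hn'z (hn'P x₁ S.x₁_R S.h₁.τx) (hn'P x₂ S.x₂_R S.h₂.τx)
  -- `q' = r w'`, `r ∈ R`, `w' ∈ V`
  have hfin : ∃ r ∈ S.R, ∃ v : G, q' = r * v ∧ v * v = 1 ∧ (∀ s ∈ S.R, v * s * v⁻¹ ∈ S.R) := by
    have hr : m * (x₁ ^ a * x₂ ^ b) ∈ S.R := by
      refine S.R.mul_mem ⟨0, 0, 2 * c, by simp [hm]⟩ ⟨a, b, 0, by simp⟩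
    have hzn : ∀ s ∈ S.R, z * s * z⁻¹ ∈ S.R := by
      rintro _ ⟨a, b, c, rfl⟩
      rw [S.z_R]
      exact ⟨a, b, -c, rfl⟩
    have hτn : ∀ s ∈ S.R, τ * s * τ⁻¹ ∈ S.R := by
      rintro _ ⟨a, b, c, rfl⟩
      have hkτ : Commute τ (k ^ c) := Commute.zpow_right S.kτ.symm c
      have h1 : τ * (x₁ ^ a * x₂ ^ b * k ^ c) * τ⁻¹ = (x₁ ^ a * x₂ ^ b)⁻¹ * k ^ c := by
        calc τ * (x₁ ^ a * x₂ ^ b * k ^ c) * τ⁻¹ = τ * (x₁ ^ a * x₂ ^ b) * τ⁻¹ * (τ * k ^ c * τ⁻¹) := by group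
          _ = (x₁ ^ a * x₂ ^ b)⁻¹ * k ^ c := by rw [S.τ_P, hkτ.eq]; group
      rw [h1]
      exact S.R.mul_mem (S.R.inv_mem ⟨a, b, 0, by simp⟩) ⟨0, 0, c, by simp⟩
    have hq'n : q' = m * n' := by rw [hn']; group
    rcases hab with hab | hab | hab | hab
    · exact ⟨_, hr, 1, by rw [hq'n, hab, mul_one], one_mul 1, fun s hs => by simpa using hs⟩
    · exact ⟨_, hr, z, by rw [hq'n, hab]; group, S.h₁.zz, hzn⟩
    · exact ⟨_, hr, τ, by rw [hq'n, hab]; group, S.h₁.ττ, hτn⟩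
    · refine ⟨_, hr, z * τ, by rw [hq'n, hab]; group, S.h₁.zττ, ?_⟩
      intro s hs
      have := hzn _ (hτn s hs)
      convert this using 1
      group
  obtain ⟨r, hr, v, hrv, hvv, hvR⟩ := hfin
  have hτR : τ ∈ S.R := by
    have e : r * (v * r * v⁻¹) = τ := by
      calc r * (v * r * v⁻¹) = (r * v) * (r * v) * (v * v)⁻¹ := by group
        _ = τ := by rw [hvv, inv_one, mul_one, ← hrv, hq'q']
    obtain ⟨a, b, c, habc⟩ := S.R.mul_mem hr (hvR r hr)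
    rw [e] at habc
    exact ⟨a, b, c, habc⟩
  have hτ1 := eq_one_of_sq_cube S.h₁.ττ (S.R_cube hτR)
  have h1 := S.h₁.τx
  rw [hτ1] at h1
  have h2 : x₁ * x₁ = 1 := by
    have : x₁ = x₁⁻¹ := by simpa using h1
    nth_rewrite 1 [this]
    group
  exact S.h₁.x1 (eq_one_of_sq_cube h2 S.h₁.x3)

/-- elements of odd order of `C_G(P)` -/
theorem cent_P_odd {g : G} (h1 : g * x₁ = x₁ * g) (h2 : g * x₂ = x₂ * g) (ho : Odd (orderOf g)) : g ∈ S.R := by
  rcases S.cent_P h1 h2 with h3 | ⟨r, hr, hg⟩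
  · exact h3
  · exfalso
    obtain ⟨a, b, c, rfl⟩ := hr
    set p := x₁ ^ a * x₂ ^ b with hp
    have hpk : Commute p (k ^ c) :=
      ((show Commute x₁ k from S.kx1).zpow_zpow a c).mul_left ((show Commute x₂ k from S.kx2).zpow_zpow b c)
    have hgg : g * g = p * p := by
      have e1 := S.z_R (a := a) (b := b) (c := c)
      calc g * g = p * k ^ c * (z * (p * k ^ c) * z⁻¹) * (z * z) := by rw [hg]; group
        _ = p * k ^ c * (p * k ^ (-c)) := by rw [S.h₁.zz, mul_one, e1]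
        _ = p * (k ^ c * p) * k ^ (-c) := by group
        _ = p * (p * k ^ c) * k ^ (-c) := by rw [hpk.eq]
        _ = p * p := by group
    have hp3 : p ^ 3 = 1 := S.h₁.xy_cube a b
    have hg6 : g ^ 6 = 1 := by
      calc g ^ 6 = (g * g) ^ 3 := by rw [← pow_two, ← pow_mul]
        _ = (p ^ 2) ^ 3 := by rw [hgg, ← pow_two]
        _ = 1 := by rw [← pow_mul, mul_comm, pow_mul, hp3, one_pow]
    have hg3 : g ^ 3 = 1 := by
      have h3 : orderOf g ∣ 6 := orderOf_dvd_of_pow_eq_one hg6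
      have h4 : orderOf g ∣ 3 := by
        have h5 : (orderOf g).Coprime 2 := Nat.coprime_two_right.2 ho
        exact h5.dvd_of_dvd_mul_left (show orderOf g ∣ 2 * 3 from h3)
      exact orderOf_dvd_iff_pow_eq_one.1 h4
    have hgp : g = p := by
      have e1 : g = (g * g) * (g * g) := by
        have : g * g * (g * g) = g ^ 3 * g := by rw [pow_succ, pow_two]; group
        rw [this, hg3, one_mul]
      have e2 : p = (p * p) * (p * p) := by
        have : p * p * (p * p) = p ^ 3 * p := by rw [pow_succ, pow_two]; group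
        rw [this, hp3, one_mul]
      rw [e1, e2, hgg]
    have hz : z = k ^ (-c) := by
      rw [hgp] at hg
      have : k ^ c * z = 1 := by
        have h3 : p * (k ^ c * z) = p * 1 := by rw [mul_one, ← mul_assoc, ← hg]
        exact mul_left_cancel h3
      rw [zpow_neg]
      exact eq_inv_of_mul_eq_one_right this
    have hz3 : z ^ 3 = 1 := by rw [hz]; exact zpow_cube S.k3 (-c)
    exact S.h₁.z1 (eq_one_of_sq_cube S.h₁.zz hz3)

/-- `|K₂| = 27` as well. -/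
theorem c2 : Nat.card (centralizerPPrimeCore 2 x₂) = 27 := by
  have h0 := S.h₂.card_core
  set A := centralizerPPrimeCore 2 x₂ ⊓ Subgroup.centralizer ({τ} : Set G) with hA
  have hA9 : Nat.card A ∣ 9 := S.nine_τ A (fun a ha => mem_cent.1 ha.2)
    (Odd.of_dvd_nat (core_odd x₂) (Subgroup.card_dvd_of_le inf_le_left))
  have hA1 : Nat.card A ≠ 1 := by
    intro h1
    rw [Subgroup.card_eq_one] at h1
    have hkA : k ∈ A := ⟨S.k2, mem_cent.2 S.kτ⟩
    rw [h1] at hkA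
    exact S.kne hkA
  have hcases : Nat.card A = 3 ∨ Nat.card A = 9 := by
    have h3 : Nat.card A ∈ Nat.divisors 9 := Nat.mem_divisors.2 ⟨hA9, by norm_num⟩
    have h4 : Nat.divisors 9 = {1, 3, 9} := by decide
    rw [h4] at h3
    simp only [Finset.mem_insert, Finset.mem_singleton] at h3
    omega
  rcases hcases with h3 | h9
  · rw [h0, h3]; norm_num
  · exfalso
    rw [h9] at h0
    have hx21 : x₁ * x₂ = x₂ * x₁ := S.h₁.xy
    -- `u ^ 3 ∈ ⟨x₂⟩`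
    have hcen : ∀ u ∈ centralizerPPrimeCore 2 x₂, ∀ n : ℤ, Commute u (x₂ ^ n) := fun u hu n =>
      (show Commute u x₂ from core_comm hu).zpow_right n
    have hmul3 : ∀ u ∈ centralizerPPrimeCore 2 x₂, ∀ v ∈ centralizerPPrimeCore 2 x₂,
        (u * v) ^ 3 = u ^ 3 * v ^ 3 := by
      intro u hu v hv
      obtain ⟨n, hn⟩ := S.h₂.core_comm_mod hv hu
      set c := x₂ ^ n with hc
      have cu : Commute u c := hcen u hu n
      have cv : Commute v c := hcen v hv n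
      have c3 : c * c * c = 1 := by
        have := zpow_cube S.h₂.x3 n
        rwa [pow_succ, pow_two] at this
      have e1 : (u * v) ^ 3 = u * (v * u) * (v * u) * v := by rw [pow_succ, pow_two]; group
      have e2 : ∀ w : G, c * w = c * w := fun w => rfl
      calc (u * v) ^ 3 = u * (v * u) * (v * u) * v := e1
        _ = u * (u * v * c) * (u * v * c) * v := by rw [hn]
        _ = u * u * v * (c * u) * v * (c * v) := by group
        _ = u * u * v * (u * c) * v * (v * c) := by rw [cu.eq, cv.eq]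
        _ = u * u * (v * u) * (c * v) * v * c := by group
        _ = u * u * (u * v * c) * (v * c) * v * c := by rw [hn, cv.eq]
        _ = u * u * u * v * (c * v) * (c * v) * c := by group
        _ = u * u * u * v * (v * c) * (v * c) * c := by rw [cv.eq]
        _ = u * u * u * v * v * (c * v) * c * c := by group
        _ = u * u * u * v * v * (v * c) * c * c := by rw [cv.eq]
        _ = u * u * u * (v * v * v) * (c * c * c) := by group
        _ = u ^ 3 * v ^ 3 := by rw [c3, mul_one, pow_succ, pow_two, pow_succ, pow_two]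
    let M' : Subgroup G :=
      { carrier := {u | u ∈ centralizerPPrimeCore 2 x₂ ∧ ∃ n : ℤ, u ^ 3 = x₂ ^ n}
        one_mem' := ⟨Subgroup.one_mem _, 0, by simp⟩
        mul_mem' := by
          rintro u v ⟨hu, n, hn⟩ ⟨hv, m, hm⟩
          exact ⟨Subgroup.mul_mem _ hu hv, n + m, by rw [hmul3 u hu v hv, hn, hm, zpow_add]⟩
        inv_mem' := by
          rintro u ⟨hu, n, hn⟩
          exact ⟨Subgroup.inv_mem _ hu, -n, by rw [inv_pow, hn, zpow_neg]⟩ }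
    have hKM : centralizerPPrimeCore 2 x₂ ≤ M' := by
      refine Cfsg.Agent.Lib.KleinGen.le_of_klein _ _ (core_odd x₂) z τ S.h₁.zz S.h₁.ττ S.h₁.zτ
        (fun k hk => S.h₂.z_core hk) (fun k hk => S.h₂.τ_core hk) ?_ ?_ ?_
      · rintro u ⟨hu, huz⟩
        obtain ⟨n, hn⟩ := S.h₂.core_z hu (mem_cent.1 huz)
        refine ⟨hu, 0, ?_⟩
        have hn' : x₂ ^ n = u := hn
        rw [← hn', zpow_cube S.h₂.x3, zpow_zero]
      · rintro u ⟨hu, huz⟩
        exact ⟨hu, 0, by rw [S.cube_of_τ (mem_cent.1 huz) (core_odd_order hu), zpow_zero]⟩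
      · rintro u ⟨hu, huz⟩
        exact ⟨hu, 0, by rw [S.toTwo.swap.cube_of_τ (mem_cent.1 huz) (core_odd_order hu), zpow_zero]⟩
    have hmain := card_fix_mod (centralizerPPrimeCore 2 x₂) (Subgroup.zpowers x₂)
      (ThreeLocal.pGrp x₂ k S.kx2) (by rw [Subgroup.zpowers_le]; exact S.h₂.x_mem)
      (by
        rintro u hu _ ⟨n, rfl⟩
        refine ⟨n, ?_⟩
        show x₂ ^ n = u * x₂ ^ n * u⁻¹
        rw [(hcen u hu n).eq]; group)
      (by
        rintro u hu v hv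
        obtain ⟨n, hn⟩ := S.h₂.core_comm_mod hu hv
        refine ⟨n, ?_⟩
        show x₂ ^ n = u * v * u⁻¹ * v⁻¹
        have c1 : Commute (v * u) (x₂ ^ n) := (hcen v hv n).mul_left (hcen u hu n)
        calc x₂ ^ n = (x₂ ^ n * (v * u)) * (v * u)⁻¹ := by group
          _ = (v * u * x₂ ^ n) * (v * u)⁻¹ := by rw [c1.eq]
          _ = u * v * (v * u)⁻¹ := by rw [← hn]
          _ = u * v * u⁻¹ * v⁻¹ := by group)
      (by
        intro u hu
        obtain ⟨-, n, hn⟩ := hKM hu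
        exact ⟨n, hn.symm⟩)
      x₁ S.h₁.x3 (fun u hu => core_conj_mem hx21 hu)
      (by
        rintro _ ⟨n, rfl⟩
        refine ⟨n, ?_⟩
        show x₂ ^ n = x₁ * x₂ ^ n * x₁⁻¹
        rw [((show Commute x₁ x₂ from S.h₁.xy).zpow_right n).eq]; group)
      (by
        rintro u hu ⟨n, hn⟩
        have hn' : x₂ ^ n = x₁ * u * x₁⁻¹ * u⁻¹ := hn
        have hux : u * x₁ = x₁ * u := by
          apply half_le_cent S.h₂ hu
          refine ⟨-n, ?_⟩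
          have c1 : Commute x₁ (x₂ ^ (-n)) := (show Commute x₁ x₂ from S.h₁.xy).zpow_right (-n)
          have c2 : Commute u (x₂ ^ (-n)) := hcen u hu (-n)
          calc u * x₁ * u⁻¹ = (x₁ * u * x₁⁻¹ * u⁻¹)⁻¹ * x₁ := by group
            _ = x₂ ^ (-n) * x₁ := by rw [← hn', zpow_neg]
            _ = x₁ * x₂ ^ (-n) := c1.eq.symm
        obtain ⟨a, b, c, rfl⟩ := S.cent_P_odd hux (core_comm hu) (core_odd_order hu)
        have h1 : x₁ ^ a ∈ centralizerPPrimeCore 2 x₂ := by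
          have e : x₁ ^ a = (x₁ ^ a * x₂ ^ b * k ^ c) * (x₂ ^ b * k ^ c)⁻¹ := by group
          rw [e]
          exact Subgroup.mul_mem _ hu (Subgroup.inv_mem _ (Subgroup.mul_mem _
            (Subgroup.zpow_mem _ S.h₂.x_mem b) (Subgroup.zpow_mem _ S.k2 c)))
        obtain ⟨m, hm⟩ := S.h₂.core_z h1 (((show Commute z x₁ from S.h₁.zx).zpow_right a).symm.eq)
        have hm' : x₂ ^ m = x₁ ^ a := hm
        have h2 : x₁ ^ a = 1 := (S.toTwo.inter (a := a) (b := -m) (by rw [zpow_neg, hm', mul_inv_cancel])).1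
        exact ⟨b, c, by rw [h2, one_mul]⟩)
    have hM9 : Nat.card (ThreeLocal.pGrp x₂ k S.kx2) ≤ 9 := by
      calc Nat.card (ThreeLocal.pGrp x₂ k S.kx2) ≤ Nat.card (Subgroup.zpowers x₂) * Nat.card (Subgroup.zpowers k) :=
          card_le_mul _ _ _ (by
            rintro _ ⟨a, b, rfl⟩
            exact ⟨_, Subgroup.zpow_mem_zpowers x₂ a, _, Subgroup.zpow_mem_zpowers k b, rfl⟩)
        _ = 9 := by rw [card_zpowers_three S.h₂.x3 S.h₂.x1, card_zpowers_three S.k3 S.kne]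
    rw [h0, card_zpowers_three S.h₂.x3 S.h₂.x1] at hmain
    have h5 := Nat.pow_le_pow_left hM9 3
    omega

theorem symm : Sit z τ x₂ x₁ Q₂ Q₁ k where
  toTwo := S.toTwo.symm
  c1 := S.c2
  k1 := S.k2
  kne := S.kne
  k3 := S.k3
  kτ := S.kτ
  kx1 := S.kx2
  kx2 := S.kx1

theorem R_symm {r : G} : r ∈ S.symm.R ↔ r ∈ S.R := by
  constructor
  · rintro ⟨a, b, c, rfl⟩
    exact ⟨b, a, c, by rw [S.h₁.xy_zpow]⟩
  · rintro ⟨a, b, c, rfl⟩
    exact ⟨b, a, c, by rw [S.h₁.xy_zpow]⟩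

/-- the type of `k` in `C_G(τ)` -/
theorem vwtype : ∃ g, g * z * g⁻¹ = τ ∧ ∃ a b : ℤ, x₁ ^ a ≠ 1 ∧ x₂ ^ b ≠ 1 ∧ g⁻¹ * k * g = x₁ ^ a * x₂ ^ b := by
  obtain ⟨g₀, hg₀, -⟩ := S.fuse
  obtain ⟨c, hcz, a, b, hab⟩ := S.syl (g₀⁻¹ * k * g₀) (by
    have hk := S.kτ
    rw [← hg₀] at hk
    calc g₀⁻¹ * k * g₀ * z = g₀⁻¹ * (k * (g₀ * z * g₀⁻¹)) * g₀ := by group
      _ = z * (g₀⁻¹ * k * g₀) := by rw [hk]; group) (by
    have := (MulAut.conj g₀⁻¹).orderOf_eq k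
    simp only [MulAut.conj_apply, inv_inv] at this
    rw [this, orderOf_eq_prime S.k3 S.kne]
    decide)
  have hg : g₀ * c⁻¹ * z * (g₀ * c⁻¹)⁻¹ = τ := by
    have : Commute c z := hcz
    calc g₀ * c⁻¹ * z * (g₀ * c⁻¹)⁻¹ = g₀ * (c⁻¹ * z) * c * g₀⁻¹ := by group
      _ = g₀ * (z * c⁻¹) * c * g₀⁻¹ := by rw [this.inv_left.eq]
      _ = τ := by rw [← hg₀]; group
  have hk : (g₀ * c⁻¹)⁻¹ * k * (g₀ * c⁻¹) = x₁ ^ a * x₂ ^ b := by
    rw [← hab]; group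
  refine ⟨g₀ * c⁻¹, hg, a, b, ?_, ?_, hk⟩
  · intro h1
    rw [h1, one_mul] at hk
    exact S.symm.not_x₁ hg b hk
  · intro h1
    rw [h1, mul_one] at hk
    exact S.not_x₁ hg a hk

omit [Finite G] S in
theorem eq_one_of_two_pow {x : G} (h3 : x ^ 3 = 1) {m : ℕ} (h2 : x ^ (2 ^ m) = 1) : x = 1 := by
  have h4 : orderOf x ∣ 2 ^ m := orderOf_dvd_of_pow_eq_one h2
  have h5 : orderOf x ∣ 3 := orderOf_dvd_of_pow_eq_one h3
  have h6 := Nat.eq_one_of_dvd_coprimes (Nat.Coprime.pow_right m (by decide : Nat.Coprime 3 2)) h5 h4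
  exact orderOf_eq_one_iff.1 h6

/-- `O(C_G(k))` -/
theorem exists_F : ∃ F : Subgroup G, Odd (Nat.card F) ∧ (∀ f, f ∈ F ↔ f * k = k * f ∧ Odd (orderOf f)) ∧
    (∀ g, g * k = k * g → ∀ f ∈ F, g * f * g⁻¹ ∈ F) := by
  obtain ⟨g, hg, a, b, ha, hb, hk⟩ := S.vwtype
  have hτ1 : τ ≠ 1 := by
    intro h1
    apply S.h₁.z1
    calc z = g⁻¹ * (g * z * g⁻¹) * g := by group
      _ = 1 := by rw [hg, h1]; group
  obtain ⟨F, hodd, hmem, -, hnor⟩ := exists_compl (Subgroup.centralizer ({k} : Set G)) (z := τ)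
    (mem_cent.2 S.kτ.symm) hτ1 S.h₁.ττ (by
      rintro t ht htτ ⟨m, hm⟩
      have htk := mem_cent.1 ht
      set s := g⁻¹ * t * g with hs
      have hsz : s * z = z * s := by
        rw [← hg] at htτ
        calc s * z = g⁻¹ * (t * (g * z * g⁻¹)) * g := by rw [hs]; group
          _ = z * s := by rw [htτ, hs]; group
      have hsk : s * (x₁ ^ a * x₂ ^ b) = x₁ ^ a * x₂ ^ b * s := by
        rw [← hk]
        calc s * (g⁻¹ * k * g) = g⁻¹ * (t * k) * g := by rw [hs]; group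
          _ = g⁻¹ * k * g * s := by rw [htk, hs]; group
      have hsm : s ^ (2 ^ m) = 1 := by
        have := conj_pow (i := 2 ^ m) (a := g⁻¹) (b := t)
        rw [inv_inv, hm] at this
        rw [hs, this]; group
      have hts : t = g * s * g⁻¹ := by rw [hs]; group
      obtain ⟨c, d, hcd | hcd⟩ := S.vw a b ha hb s hsz hsk
      · left
        have h1 : s = 1 := eq_one_of_two_pow (by rw [hcd]; exact S.h₁.xy_cube c d) hsm
        rw [hts, h1]; group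
      · right
        have hcz : Commute (x₁ ^ c * x₂ ^ d) z := (S.z_P c d).symm
        have h1 : x₁ ^ c * x₂ ^ d = 1 := by
          refine eq_one_of_two_pow (S.h₁.xy_cube c d) (m := m + 1) ?_
          rw [hcd, hcz.mul_pow] at hsm
          have h2 : (x₁ ^ c * x₂ ^ d) ^ 2 ^ (m + 1) =
              ((x₁ ^ c * x₂ ^ d) ^ 2 ^ m * z ^ 2 ^ m) ^ 2 := by
            have hcc : Commute ((x₁ ^ c * x₂ ^ d) ^ 2 ^ m) (z ^ 2 ^ m) := hcz.pow_pow _ _
            rw [hcc.mul_pow, ← pow_mul, ← pow_mul, mul_comm (2 ^ m) 2, pow_mul z, pow_two z, S.h₁.zz, one_pow,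
              mul_one, pow_succ, mul_comm 2]
          rw [h2, hsm, one_pow]
        rw [hts, hcd, h1, one_mul, hg])
  refine ⟨F, hodd, ?_, ?_⟩
  · intro f
    rw [hmem, mem_cent]
  · intro g hg
    exact hnor g (mem_cent.2 hg)

/-- `k'`: generator of `C_K(z τ)`. -/
theorem exists_k' : ∃ k' ∈ centralizerPPrimeCore 2 x₁, k' * (z * τ) = z * τ * k' ∧ k' ^ 3 = 1 ∧ k' ≠ 1 ∧
    ¬ (k' * x₂ = x₂ * k') ∧ z * k' * z⁻¹ = k'⁻¹ := by
  have h0 := S.h₁.swap.card_core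
  rw [S.c1] at h0
  set A := centralizerPPrimeCore 2 x₁ ⊓ Subgroup.centralizer ({z * τ} : Set G) with hA
  have hA3 : Nat.card A ≠ 1 := by
    intro h1
    rw [h1] at h0
    omega
  have hne : A ≠ ⊥ := fun h1 => hA3 (by rw [h1, Subgroup.card_bot])
  obtain ⟨k', hk', hk'1⟩ : ∃ k' : G, k' ∈ A ∧ k' ≠ 1 := by
    by_contra hcon
    push Not at hcon
    exact hne (eq_bot_iff.2 (fun a ha => hcon a ha))
  have hc := mem_cent.1 hk'.2
  have h3 := S.toTwo.swap.cube_of_τ hc (core_odd_order hk'.1)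
  have hz := S.h₁.inv_of_zτ hk'.1 hc
  refine ⟨k', hk'.1, hc, h3, hk'1, ?_, hz⟩
  intro hx
  obtain ⟨a, c, hac⟩ := S.cent_x₂ hk'.1 hx
  -- `τ` inverts `k'` and maps it to `x₁^(-a) k^c`
  have h4 : τ * k' * τ⁻¹ = k'⁻¹ := by
    have e : τ * k' * τ⁻¹ = z⁻¹ * ((z * τ) * k' * (z * τ)⁻¹) * z := by group
    rw [e, ← hc, S.h₁.z_inv]
    calc z * (k' * (z * τ) * (z * τ)⁻¹) * z = z * k' * z := by group
      _ = z * k' * z⁻¹ := by rw [S.h₁.z_inv]
      _ = k'⁻¹ := hz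
  have hkτ : Commute τ (k ^ c) := Commute.zpow_right S.kτ.symm c
  have h5 : τ * k' * τ⁻¹ = x₁ ^ (-a) * k ^ c := by
    calc τ * k' * τ⁻¹ = τ * x₁ ^ a * τ⁻¹ * (τ * k ^ c * τ⁻¹) := by rw [hac]; group
      _ = x₁ ^ (-a) * k ^ c := by rw [← conj_zpow, S.h₁.τx, hkτ.eq]; group
  have hxk : Commute (x₁ ^ a) (k ^ c) := (show Commute x₁ k from S.kx1).zpow_zpow a c
  have h6 : k'⁻¹ = x₁ ^ (-a) * k ^ (-c) := by
    rw [hac, mul_inv_rev, ← hxk.inv_inv.eq, zpow_neg, zpow_neg]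
  have h7 : k ^ c = k ^ (-c) := by
    rw [h4, h6] at h5
    exact (mul_left_cancel h5).symm
  have h8 := S.k_of_sq h7
  rw [h8, mul_one] at hac
  -- now `k' = x₁^a` is centralised and inverted by `z`
  have h9 : z * k' * z⁻¹ = k' := by
    rw [hac, ((show Commute z x₁ from S.h₁.zx).zpow_right a).eq]; group
  rw [hz] at h9
  apply hk'1
  apply eq_one_of_sq_cube _ h3
  nth_rewrite 1 [← h9]
  group

omit [Finite G] in
theorem τ_norm_R : ∀ s ∈ S.R, τ * s * τ⁻¹ ∈ S.R := by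
  rintro _ ⟨a, b, c, rfl⟩
  have hkτ : Commute τ (k ^ c) := Commute.zpow_right S.kτ.symm c
  have h1 : τ * (x₁ ^ a * x₂ ^ b * k ^ c) * τ⁻¹ = (x₁ ^ a * x₂ ^ b)⁻¹ * k ^ c := by
    calc τ * (x₁ ^ a * x₂ ^ b * k ^ c) * τ⁻¹ = τ * (x₁ ^ a * x₂ ^ b) * τ⁻¹ * (τ * k ^ c * τ⁻¹) := by group
      _ = (x₁ ^ a * x₂ ^ b)⁻¹ * k ^ c := by rw [S.τ_P, hkτ.eq]; group
  rw [h1]
  exact S.R.mul_mem (S.R.inv_mem ⟨a, b, 0, by simp⟩) ⟨0, 0, c, by simp⟩

theorem z_norm_R : ∀ s ∈ S.R, z * s * z⁻¹ ∈ S.R := by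
  rintro _ ⟨a, b, c, rfl⟩
  rw [S.z_R]
  exact ⟨a, b, -c, rfl⟩

/-- `N_G(R) ∩ C_G(z τ)`: elements of odd order commute. -/
theorem comm_of_norm {s t : G} (hs : s * (z * τ) = z * τ * s) (ht : t * (z * τ) = z * τ * t)
    (hsR : ∀ r ∈ S.R, s * r * s⁻¹ ∈ S.R) (hsR' : ∀ r ∈ S.R, s⁻¹ * r * s ∈ S.R)
    (htR : ∀ r ∈ S.R, t * r * t⁻¹ ∈ S.R) (htR' : ∀ r ∈ S.R, t⁻¹ * r * t ∈ S.R)
    (hso : Odd (orderOf s)) (hto : Odd (orderOf t)) : s * t = t * s := by
  let B : Subgroup G :=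
    { carrier := {b | b * (z * τ) = z * τ * b ∧ (∀ r ∈ S.R, b * r * b⁻¹ ∈ S.R) ∧ (∀ r ∈ S.R, b⁻¹ * r * b ∈ S.R)}
      one_mem' := ⟨by group, fun r hr => by simpa using hr, fun r hr => by simpa using hr⟩
      mul_mem' := by
        rintro b c ⟨hb1, hb2, hb3⟩ ⟨hc1, hc2, hc3⟩
        refine ⟨by rw [mul_assoc, hc1, ← mul_assoc, hb1, mul_assoc], ?_, ?_⟩
        · intro r hr
          have := hb2 _ (hc2 r hr)
          convert this using 1
          group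
        · intro r hr
          have := hc3 _ (hb3 r hr)
          convert this using 1
          group
      inv_mem' := by
        rintro b ⟨hb1, hb2, hb3⟩
        refine ⟨(Commute.inv_left (show Commute b (z * τ) from hb1)).eq, ?_, ?_⟩
        · intro r hr
          have := hb3 r hr
          rwa [inv_inv]
        · intro r hr
          have := hb2 r hr
          rwa [inv_inv] }
  have hzzτ : Commute z (z * τ) := (Commute.refl z).mul_right (show Commute z τ from S.h₁.zτ)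
  have hzB : z ∈ B := by
    refine ⟨hzzτ.eq, S.z_norm_R, ?_⟩
    intro r hr
    have := S.z_norm_R r hr
    rwa [S.h₁.z_inv] at this ⊢
  have hτR' := S.τ_norm_R
  have htB : z * τ ∈ B := by
    have h1 : ∀ r ∈ S.R, z * τ * r * (z * τ)⁻¹ ∈ S.R := by
      intro r hr
      have := S.z_norm_R _ (hτR' r hr)
      convert this using 1
      group
    refine ⟨rfl, h1, ?_⟩
    intro r hr
    have h2 : (z * τ)⁻¹ = z * τ := inv_eq_of_mul_eq_one_right S.h₁.zττ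
    have := h1 r hr
    rwa [h2] at this ⊢
  have hτne : τ ≠ 1 := by
    intro h1
    have h2 := S.h₁.τx
    rw [h1] at h2
    apply S.h₁.x1
    apply eq_one_of_sq_cube _ S.h₁.x3
    have : x₁ = x₁⁻¹ := by simpa using h2
    nth_rewrite 1 [this]
    group
  have e1 : z * (z * τ) = τ := by rw [← mul_assoc, S.h₁.zz, one_mul]
  refine (inverted B hzB htB S.h₁.z1 ?_ S.h₁.zz S.h₁.zττ (fun b hb => hb.1) ?_ ?_ (b := s) (c := t)
    ⟨hs, hsR, hsR'⟩ ⟨ht, htR, htR'⟩ hso hto).2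
  · intro h1
    apply hτne
    have : z * 1 = z * τ := by rw [mul_one]; exact h1
    exact (mul_left_cancel this).symm
  · rintro b ⟨hb1, hb2, hb3⟩ hbz
    rw [e1]
    have hbP : ∀ x ∈ S.R, x * z = z * x → ∃ c d : ℤ, b * x * b⁻¹ = x₁ ^ c * x₂ ^ d := by
      intro x hx hxz
      apply S.R_z (hb2 x hx)
      have c1 : Commute b z := hbz
      have c2 : Commute x z := hxz
      exact ((c1.mul_left c2).mul_left c1.inv_left).eq
    obtain ⟨c, d, hcd⟩ := S.nor b hbz (hbP x₁ S.x₁_R S.h₁.zx.symm) (hbP x₂ S.x₂_R S.h₂.zx.symm)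
    -- `b = p w` with `p` commuting with `z τ`
    have hp : ∀ w : G, Commute w (z * τ) → b = x₁ ^ c * x₂ ^ d * w → x₁ ^ c * x₂ ^ d = 1 := by
      intro w hw hbw
      have h1 : Commute (x₁ ^ c * x₂ ^ d) (z * τ) := by
        have e : x₁ ^ c * x₂ ^ d = b * w⁻¹ := by rw [hbw]; group
        rw [e]
        exact (show Commute b (z * τ) from hb1).mul_left hw.inv_left
      have h2 := S.toTwo.swap.h₁.τx
      have h3 : (z * τ) * (x₁ ^ c * x₂ ^ d) * (z * τ)⁻¹ = (x₁ ^ c * x₂ ^ d)⁻¹ := by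
        calc (z * τ) * (x₁ ^ c * x₂ ^ d) * (z * τ)⁻¹ = z * (τ * (x₁ ^ c * x₂ ^ d) * τ⁻¹) * z⁻¹ := by group
          _ = z * (x₁ ^ c * x₂ ^ d)⁻¹ * z⁻¹ := by rw [S.τ_P]
          _ = (z * (x₁ ^ c * x₂ ^ d) * z⁻¹)⁻¹ := by group
          _ = (x₁ ^ c * x₂ ^ d)⁻¹ := by rw [S.z_P]; group
      rw [← h1.eq, mul_inv_cancel_right] at h3
      apply eq_one_of_sq_cube _ (S.h₁.xy_cube c d)
      nth_rewrite 1 [h3]
      group
    have cτ : Commute τ (z * τ) := (show Commute τ z from S.h₁.zτ.symm).mul_right (Commute.refl τ)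
    rcases hcd with hcd | hcd | hcd | hcd
    · left
      rw [hcd]
      exact hp 1 (Commute.one_left _) (by rw [hcd, mul_one])
    · right; left
      rw [hcd, hp z hzzτ hcd, one_mul]
    · right; right; right
      rw [hcd, hp τ cτ hcd, one_mul]
    · right; right; left
      rw [hcd, hp (z * τ) (Commute.refl _) hcd, one_mul]
  · rintro b ⟨hb1, hb2, hb3⟩ hbz
    rw [e1] at hbz
    -- `b x b⁻¹ ∈ ⟨k⟩` for `x ∈ P`
    have hbk : ∀ x ∈ S.R, x * z = z * x → ∃ c : ℤ, b * x * b⁻¹ = k ^ c := by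
      intro x hx hxz
      apply S.R_τ (hb2 x hx)
      rw [← hbz]
      calc b * z * b⁻¹ * (b * x * b⁻¹) * (b * z * b⁻¹)⁻¹ = b * (z * x) * z⁻¹ * b⁻¹ := by group
        _ = b * x * b⁻¹ := by rw [← hxz]; group
    obtain ⟨c, hc⟩ := hbk x₁ S.x₁_R S.h₁.zx.symm
    obtain ⟨d, hd⟩ := hbk x₂ S.x₂_R S.h₂.zx.symm
    apply S.toTwo.x₂_not
    have hc1 : k ^ c ≠ 1 := by
      intro h1
      apply S.h₁.x1
      calc x₁ = b⁻¹ * (b * x₁ * b⁻¹) * b := by group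
        _ = 1 := by rw [hc, h1]; group
    have hkc : ∃ n : ℤ, k ^ d = (k ^ c) ^ n := by
      rcases zpow_three_cases S.k3 c with h1 | h1 | h1
      · exact absurd h1 hc1
      · exact ⟨d, by rw [h1]⟩
      · exact ⟨-d, by rw [h1]; group⟩
    obtain ⟨n, hn⟩ := hkc
    refine ⟨n, ?_⟩
    show x₁ ^ n = x₂
    have h1 : b * x₂ * b⁻¹ = b * x₁ ^ n * b⁻¹ := by
      rw [hd, hn, ← hc, conj_zpow]
    calc x₁ ^ n = b⁻¹ * (b * x₁ ^ n * b⁻¹) * b := by group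
      _ = x₂ := by rw [← h1]; group

/-- `k` commutes with `k'`. -/
theorem k_comm {k' k'' : G} (h1 : k' ∈ centralizerPPrimeCore 2 x₁) (h2 : ¬ (k' * x₂ = x₂ * k'))
    (h3 : z * k' * z⁻¹ = k'⁻¹) (g1 : k'' ∈ centralizerPPrimeCore 2 x₂) (g2 : ¬ (k'' * x₁ = x₁ * k''))
    (hc : k' * k'' = k'' * k') : k * k' = k' * k := by
  by_contra hne
  set X := k'' * x₁ * k''⁻¹ * x₁⁻¹ with hX
  have hXR : X ∈ S.R := by
    have e1 : k'' * x₁ * k''⁻¹ ∈ S.symm.R := S.symm.norm_R g1 x₁ (S.R_symm.2 S.x₁_R)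
    exact S.R.mul_mem (S.R_symm.1 e1) (S.R.inv_mem S.x₁_R)
  have hXk' : Commute X k' := by
    have c1 : Commute k'' k' := hc.symm
    have c2 : Commute x₁ k' := (core_comm h1).symm
    exact ((c1.mul_left c2).mul_left c1.inv_left).mul_left c2.inv_left
  have hXK : X ∈ centralizerPPrimeCore 2 x₂ := by
    have h4 := core_conj_mem (y := x₁) S.h₁.xy (Subgroup.inv_mem _ g1)
    have e : X = k'' * (x₁ * k''⁻¹ * x₁⁻¹) := by rw [hX]; group
    rw [e]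
    exact Subgroup.mul_mem _ g1 h4
  obtain ⟨a, b, c, habc⟩ := hXR
  set p := x₁ ^ a * x₂ ^ b with hp
  have hpk : Commute p (k ^ c) :=
    ((show Commute x₁ k from S.kx1).zpow_zpow a c).mul_left ((show Commute x₂ k from S.kx2).zpow_zpow b c)
  have hp3 : p ^ 3 = 1 := S.h₁.xy_cube a b
  -- `z X z⁻¹` commutes with `k'`
  have hzX : Commute (z * X * z⁻¹) k' := by
    have h4 : z * X * z⁻¹ * (z * k' * z⁻¹) = z * k' * z⁻¹ * (z * X * z⁻¹) := by
      calc z * X * z⁻¹ * (z * k' * z⁻¹) = z * (X * k') * z⁻¹ := by group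
        _ = z * k' * z⁻¹ * (z * X * z⁻¹) := by rw [hXk'.eq]; group
    rw [h3] at h4
    have h5 : Commute (z * X * z⁻¹) k'⁻¹ := h4
    simpa using h5.inv_right
  have hpp : Commute (p * p) k' := by
    have e : p * p = X * (z * X * z⁻¹) := by
      have e1 := S.z_R (a := a) (b := b) (c := c)
      rw [habc, e1]
      calc p * p = p * (p * k ^ c) * k ^ (-c) := by group
        _ = p * (k ^ c * p) * k ^ (-c) := by rw [hpk.eq]
        _ = p * k ^ c * (p * k ^ (-c)) := by group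
    rw [e]
    exact hXk'.mul_left hzX
  have hpk' : Commute p k' := by
    have e : p = (p * p) * (p * p) := by
      have : p * p * (p * p) = p ^ 3 * p := by rw [pow_succ, pow_two]; group
      rw [this, hp3, one_mul]
    rw [e]
    exact hpp.mul_left hpp
  have hx2 : x₂ ^ b = 1 := by
    have c1 : Commute (x₂ ^ b) k' := by
      have e : x₂ ^ b = (x₁ ^ a)⁻¹ * p := by rw [hp]; group
      rw [e]
      exact (((show Commute x₁ k' from (core_comm h1).symm).zpow_left a).inv_left).mul_left hpk'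
    rcases zpow_three_cases S.h₂.x3 b with h4 | h4 | h4
    · exact h4
    · rw [h4] at c1; exact absurd c1.symm.eq h2
    · rw [h4] at c1
      exact absurd (by simpa using c1.inv_left.symm.eq) h2
  have hkc : k ^ c = 1 := by
    have c1 : Commute (k ^ c) k' := by
      have e : k ^ c = p⁻¹ * X := by rw [habc]; group
      rw [e]
      exact hpk'.inv_left.mul_left hXk'
    rcases zpow_three_cases S.k3 c with h4 | h4 | h4
    · exact h4
    · rw [h4] at c1; exact absurd c1.eq hne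
    · rw [h4] at c1
      exact absurd (by simpa using c1.inv_left.eq) hne
  have hX1 : X = x₁ ^ a := by rw [habc, hkc, mul_one, hp, hx2, mul_one]
  have hX2 : X = 1 := by
    obtain ⟨m, hm⟩ := S.h₂.core_z hXK (by
      rw [hX1]; exact ((show Commute z x₁ from S.h₁.zx).zpow_right a).symm.eq)
    have hm' : x₂ ^ m = X := hm
    rw [hX1]
    exact (S.toTwo.inter (a := a) (b := -m) (by rw [zpow_neg, hm', hX1, mul_inv_cancel])).1
  apply g2
  exact mul_inv_eq_iff_eq_mul.1 (mul_inv_eq_one.1 hX2)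

/-- `[k', x₂] ∈ ⟨k⟩` -/
theorem k'_x₂ {k' : G} (h1 : k' ∈ centralizerPPrimeCore 2 x₁) (h3 : z * k' * z⁻¹ = k'⁻¹) (hkk' : k * k' = k' * k) :
    ∃ c : ℤ, k' * x₂ * k'⁻¹ = x₂ * k ^ c := by
  obtain ⟨a, b, c, habc⟩ := S.norm_R h1 x₂ S.x₂_R
  have cx2 : Commute x₂ x₁ := S.h₁.xy.symm
  -- `x₂^(b-1) ∈ K`
  have hb : x₂ ^ (b - 1) = 1 := by
    have h4 : x₂ ^ (b - 1) ∈ centralizerPPrimeCore 2 x₁ := by
      have h5 : x₂⁻¹ * k' * x₂ * k'⁻¹ ∈ centralizerPPrimeCore 2 x₁ := by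
        have := core_conj_mem (y := x₂⁻¹) cx2.inv_left.eq h1
        rw [inv_inv] at this
        exact Subgroup.mul_mem _ this (Subgroup.inv_mem _ h1)
      have e : x₂ ^ (b - 1) = (x₂⁻¹ * k' * x₂ * k'⁻¹) * (k ^ c)⁻¹ * (x₁ ^ a)⁻¹ := by
        have e1 : x₂⁻¹ * k' * x₂ * k'⁻¹ = x₂⁻¹ * (x₁ ^ a * x₂ ^ b * k ^ c) := by rw [← habc]; group
        have e2 : Commute (x₁ ^ a) (x₂ ^ b) := (show Commute x₁ x₂ from S.h₁.xy).zpow_zpow a b
        rw [e1, e2.eq, sub_eq_add_neg, add_comm, zpow_add]; group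
      rw [e]
      exact Subgroup.mul_mem _ (Subgroup.mul_mem _ h5 (Subgroup.inv_mem _ (Subgroup.zpow_mem _ S.k1 c)))
        (Subgroup.inv_mem _ (Subgroup.zpow_mem _ S.h₁.x_mem a))
    obtain ⟨m, hm⟩ := S.h₁.core_z h4 (((show Commute z x₂ from S.h₂.zx).zpow_right (b - 1)).symm.eq)
    have hm' : x₁ ^ m = x₂ ^ (b - 1) := hm
    exact (S.toTwo.inter (a := m) (b := -(b - 1)) (by rw [zpow_neg, hm', mul_inv_cancel])).2 |> (fun h => by
      rw [zpow_neg, inv_eq_one] at h; exact h)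
  have hb' : x₂ ^ b = x₂ := by
    calc x₂ ^ b = x₂ ^ (b - 1) * x₂ := by group
      _ = x₂ := by rw [hb, one_mul]
  rw [hb'] at habc
  -- `k' x₂ k'⁻¹ = x₁^a x₂ k^c`
  have ck1 : Commute k' (x₁ ^ a) := (show Commute k' x₁ from core_comm h1).zpow_right a
  have ck2 : Commute k' (k ^ c) := (show Commute k' k from hkk'.symm).zpow_right c
  have e1 : k'⁻¹ * x₂ * k' = x₁ ^ (-a) * x₂ * k ^ (-c) := by
    have e2 : x₂ = x₁ ^ a * (k'⁻¹ * x₂ * k') * k ^ c := by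
      calc x₂ = k'⁻¹ * (k' * x₂ * k'⁻¹) * k' := by group
        _ = (k'⁻¹ * x₁ ^ a) * x₂ * (k ^ c * k') := by rw [habc]; group
        _ = (x₁ ^ a * k'⁻¹) * x₂ * (k' * k ^ c) := by rw [ck1.inv_left.eq, ck2.eq]
        _ = x₁ ^ a * (k'⁻¹ * x₂ * k') * k ^ c := by group
    calc k'⁻¹ * x₂ * k' = x₁ ^ (-a) * (x₁ ^ a * (k'⁻¹ * x₂ * k') * k ^ c) * k ^ (-c) := by group
      _ = x₁ ^ (-a) * x₂ * k ^ (-c) := by rw [← e2]
  have e3 : k'⁻¹ * x₂ * k' = x₁ ^ a * x₂ * k ^ (-c) := by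
    have e4 : z * (k' * x₂ * k'⁻¹) * z⁻¹ = k'⁻¹ * x₂ * k' := by
      have hzx : z * x₂ * z⁻¹ = x₂ := by rw [S.h₂.zx]; group
      calc z * (k' * x₂ * k'⁻¹) * z⁻¹ = (z * k' * z⁻¹) * (z * x₂ * z⁻¹) * (z * k' * z⁻¹)⁻¹ := by group
        _ = k'⁻¹ * x₂ * k' := by rw [h3, hzx, inv_inv]
    rw [← e4, habc]
    have := S.z_R (a := a) (b := 1) (c := c)
    rw [zpow_one] at this
    exact this
  have e5 : x₁ ^ (-a) = x₁ ^ a := by
    rw [e1] at e3
    exact mul_right_cancel (mul_right_cancel e3)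
  have e6 : x₁ ^ a = 1 := by
    apply eq_one_of_sq_cube _ (zpow_cube S.h₁.x3 a)
    nth_rewrite 1 [← e5]
    group
  refine ⟨c, ?_⟩
  rw [habc, e6, one_mul]

end Sit

/-- cubes of products in groups of class two -/
theorem mul_cube {G : Type*} [Group G] {u v c : G} (hn : v * u = u * v * c) (cu : Commute u c) (cv : Commute v c)
    (c3 : c ^ 3 = 1) : (u * v) ^ 3 = u ^ 3 * v ^ 3 := by
  have c3' : c * c * c = 1 := by rwa [pow_succ, pow_two] at c3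
  calc (u * v) ^ 3 = u * (v * u) * (v * u) * v := by rw [pow_succ, pow_two]; group
    _ = u * (u * v * c) * (u * v * c) * v := by rw [hn]
    _ = u * u * v * (c * u) * v * (c * v) := by group
    _ = u * u * v * (u * c) * v * (v * c) := by rw [cu.eq, cv.eq]
    _ = u * u * (v * u) * (c * v) * v * c := by group
    _ = u * u * (u * v * c) * (v * c) * v * c := by rw [hn, cv.eq]
    _ = u * u * u * v * (c * v) * (c * v) * c := by group
    _ = u * u * u * v * (v * c) * (v * c) * c := by rw [cv.eq]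
    _ = u * u * u * v * v * (c * v) * c * c := by group
    _ = u * u * u * v * v * (v * c) * c * c := by rw [cv.eq]
    _ = u * u * u * (v * v * v) * (c * c * c) := by group
    _ = u ^ 3 * v ^ 3 := by rw [c3', mul_one, pow_succ, pow_two, pow_succ, pow_two]

open ThreeLocal (kGrp pGrp)

theorem kGrp_symm {G : Type*} [Group G] {ρ u v : G} (hu : u ∈ kGrp ρ v) (hv : v * ρ = ρ * v) : v ∈ kGrp ρ u := by
  obtain ⟨hu1, n, hn⟩ := hu
  refine ⟨hv, -n, ?_⟩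
  have cu : Commute u (ρ ^ n) := (show Commute u ρ from hu1).zpow_right n
  have cv : Commute v (ρ ^ n) := (show Commute v ρ from hv).zpow_right n
  -- `u v = v ρ^n u`
  have e1 : u * v = v * ρ ^ n * u := by rw [← hn]; group
  calc v * u * v⁻¹ = (v * ρ ^ n * u) * v⁻¹ * ρ ^ (-n) := by
        have e2 : v * ρ ^ n * u * v⁻¹ = v * u * v⁻¹ * ρ ^ n := by
          calc v * ρ ^ n * u * v⁻¹ = v * (ρ ^ n * u) * v⁻¹ := by group
            _ = v * u * (ρ ^ n * v⁻¹) := by rw [← cu.eq]; group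
            _ = v * u * v⁻¹ * ρ ^ n := by rw [← cv.inv_left.eq]; group
        rw [e2, mul_assoc (v * u * v⁻¹), ← zpow_add, add_neg_cancel, zpow_zero, mul_one]
    _ = u * ρ ^ (-n) := by rw [← e1]; group

theorem kGrp_conj {G : Type*} [Group G] {s ρ c u : G} (hρ : s * ρ * s⁻¹ = ρ ∨ s * ρ * s⁻¹ = ρ⁻¹)
    (hc : s * c * s⁻¹ = c ∨ s * c * s⁻¹ = c⁻¹) (hρc : ρ * c = c * ρ) (hu : u ∈ kGrp ρ c) :
    s * u * s⁻¹ ∈ kGrp ρ c := by
  obtain ⟨hu1, n, hn⟩ := hu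
  have cu : Commute u ρ := hu1
  have hcρ : ∀ m : ℤ, Commute c (ρ ^ m) := fun m => (show Commute c ρ from hρc.symm).zpow_right m
  have h1 : Commute (s * u * s⁻¹) (s * ρ * s⁻¹) := by
    show s * u * s⁻¹ * (s * ρ * s⁻¹) = s * ρ * s⁻¹ * (s * u * s⁻¹)
    calc s * u * s⁻¹ * (s * ρ * s⁻¹) = s * (u * ρ) * s⁻¹ := by group
      _ = s * ρ * s⁻¹ * (s * u * s⁻¹) := by rw [hu1]; group
  have h2 : Commute (s * u * s⁻¹) ρ := by
    rcases hρ with h | h
    · rwa [h] at h1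
    · rw [h] at h1; simpa using h1.inv_right
  have h3 : ∀ m : ℤ, ∃ m' : ℤ, s * ρ ^ m * s⁻¹ = ρ ^ m' := by
    intro m
    rcases hρ with h | h
    · exact ⟨m, by rw [← conj_zpow, h]⟩
    · exact ⟨-m, by rw [← conj_zpow, h, inv_zpow, zpow_neg]⟩
  refine ⟨h2.eq, ?_⟩
  -- `(s u s⁻¹) (s c s⁻¹) (s u s⁻¹)⁻¹ = (s c s⁻¹) ρ^m'`
  obtain ⟨m', hm'⟩ := h3 n
  have e1 : s * u * s⁻¹ * (s * c * s⁻¹) * (s * u * s⁻¹)⁻¹ = s * c * s⁻¹ * ρ ^ m' := by
    calc s * u * s⁻¹ * (s * c * s⁻¹) * (s * u * s⁻¹)⁻¹ = s * (u * c * u⁻¹) * s⁻¹ := by group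
      _ = s * c * s⁻¹ * (s * ρ ^ n * s⁻¹) := by rw [hn]; group
      _ = s * c * s⁻¹ * ρ ^ m' := by rw [hm']
  rcases hc with h | h
  · rw [h] at e1
    exact ⟨m', e1⟩
  · rw [h] at e1
    refine ⟨-m', ?_⟩
    calc s * u * s⁻¹ * c * (s * u * s⁻¹)⁻¹ = (s * u * s⁻¹ * c⁻¹ * (s * u * s⁻¹)⁻¹)⁻¹ := by group
      _ = ρ ^ (-m') * c := by rw [e1]; group
      _ = c * ρ ^ (-m') := (hcρ (-m')).eq.symm

/-- commuting involutions `s`, `t` without common fixed points in `F`: `s` inverts `C_F(t)`. -/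
theorem inv_of_comm {G : Type*} [Group G] (F : Subgroup G) (hodd : Odd (Nat.card F)) {s t : G}
    (hs : s * s = 1) (hst : s * t = t * s) (hsF : ∀ f ∈ F, s * f * s⁻¹ ∈ F)
    (hV : ∀ f ∈ F, f * s = s * f → f * t = t * f → f = 1) {f : G} (hf : f ∈ F) (hft : f * t = t * f) :
    s * f * s⁻¹ = f⁻¹ := by
  set A := F ⊓ Subgroup.centralizer ({t} : Set G) with hA
  have hAodd : Odd (Nat.card A) := Odd.of_dvd_nat hodd (Subgroup.card_dvd_of_le inf_le_left)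
  have hsA : ∀ a ∈ A, s * a * s⁻¹ ∈ A := by
    rintro a ⟨ha1, ha2⟩
    refine ⟨hsF a ha1, mem_cent.2 ?_⟩
    have c1 : Commute a t := mem_cent.1 ha2
    have c2 : Commute s t := hst
    exact ((c2.mul_left c1).mul_left c2.inv_left).eq
  obtain ⟨c, hc, m, hm, hzc, hzm, hkcm⟩ :=
    Cfsg.Agent.Lib.KleinGen.exists_centralizer_mul_inverted A hAodd s hs hsA (h := f) ⟨hf, mem_cent.2 hft⟩
  have hc1 : c = 1 := hV c hc.1 hzc.symm (mem_cent.1 hc.2)
  rw [hkcm, hc1, one_mul]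
  exact hzm

/-- `|C_K(τ)| = 3` is impossible. -/
theorem Sit.false {G : Type*} [Group G] [Finite G] {z τ x₁ x₂ k : G} {Q₁ Q₂ : Subgroup G}
    (S : Sit z τ x₁ x₂ Q₁ Q₂ k) : False := by
  classical
  obtain ⟨F, hFodd, hFmem, hFnor⟩ := S.exists_F
  obtain ⟨g, hg, a, b, ha, hb, hgk⟩ := S.vwtype
  obtain ⟨k', p1, p2, p3, p4, p5, p6⟩ := S.exists_k'
  obtain ⟨k'', q1, q2, q3, q4, q5, q6⟩ := S.symm.exists_k'
  have hodd3 : ∀ x : G, x ^ 3 = 1 → Odd (orderOf x) := by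
    intro x hx
    exact Odd.of_dvd_nat (by decide : Odd 3) (orderOf_dvd_of_pow_eq_one hx)
  have hcc : k' * k'' = k'' * k' := by
    refine S.comm_of_norm p2 q2 (S.norm_R p1) ?_ ?_ ?_ (core_odd_order p1) (core_odd_order q1)
    · intro r hr
      have := S.norm_R (Subgroup.inv_mem _ p1) r hr
      rwa [inv_inv] at this
    · intro r hr
      exact S.R_symm.1 (S.symm.norm_R q1 r (S.R_symm.2 hr))
    · intro r hr
      have := S.R_symm.1 (S.symm.norm_R (Subgroup.inv_mem _ q1) r (S.R_symm.2 hr))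
      rwa [inv_inv] at this
  have hkk' : k * k' = k' * k := S.k_comm p1 p5 p6 q1 q5 hcc
  have hkk'' : k * k'' = k'' * k := S.symm.k_comm q1 q5 q6 p1 p5 hcc.symm
  obtain ⟨c', hc'⟩ := S.k'_x₂ p1 p6 hkk'
  obtain ⟨c'', hc''⟩ := S.symm.k'_x₂ q1 q6 hkk''
  -- `V` acts on `F`
  have hzz := S.h₁.zz
  have hττ := S.h₁.ττ
  have hzτ := S.h₁.zτ
  have hzF : ∀ f ∈ F, z * f * z⁻¹ ∈ F := by
    intro f hf
    obtain ⟨h1, h2⟩ := (hFmem f).1 hf
    refine (hFmem _).2 ⟨?_, ?_⟩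
    · have h3 : Commute (z * f * z⁻¹) (z * k * z⁻¹) := by
        show z * f * z⁻¹ * (z * k * z⁻¹) = z * k * z⁻¹ * (z * f * z⁻¹)
        calc z * f * z⁻¹ * (z * k * z⁻¹) = z * (f * k) * z⁻¹ := by group
          _ = z * k * z⁻¹ * (z * f * z⁻¹) := by rw [h1]; group
      rw [S.kz] at h3
      simpa using h3.inv_right.eq
    · have := (MulAut.conj z).orderOf_eq f
      simp only [MulAut.conj_apply] at this
      rwa [this]
  have hτF : ∀ f ∈ F, τ * f * τ⁻¹ ∈ F := hFnor τ S.kτ.symm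
  have hzτF : ∀ f ∈ F, (z * τ) * f * (z * τ)⁻¹ ∈ F := by
    intro f hf
    have := hzF _ (hτF f hf)
    convert this using 1
    group
  have hV : ∀ f ∈ F, f * z = z * f → f * τ = τ * f → f = 1 := fun f hf h1 h2 =>
    S.vcent f h1 h2 ((hFmem f).1 hf).2
  have hV2 : ∀ f ∈ F, f * z = z * f → f * (z * τ) = z * τ * f → f = 1 := by
    intro f hf h1 h2
    refine hV f hf h1 ?_
    have c1 : Commute f z := h1
    have c2 : Commute f (z * τ) := h2
    have : Commute f (z⁻¹ * (z * τ)) := c1.inv_right.mul_right c2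
    rw [inv_mul_cancel_left] at this
    exact this.eq
  have hV3 : ∀ f ∈ F, f * τ = τ * f → f * (z * τ) = z * τ * f → f = 1 := by
    intro f hf h1 h2
    refine hV f hf ?_ h1
    have c1 : Commute f τ := h1
    have c2 : Commute f (z * τ) := h2
    have : Commute f (z * τ * τ⁻¹) := c2.mul_right c1.inv_right
    rw [mul_inv_cancel_right] at this
    exact this.eq
  have i1 : ∀ f ∈ F, f * τ = τ * f → z * f * z⁻¹ = f⁻¹ := fun f hf h1 =>
    inv_of_comm F hFodd hzz hzτ hzF (fun f hf h1 h2 => hV f hf h1 h2) hf h1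
  have i2 : ∀ f ∈ F, f * z = z * f → τ * f * τ⁻¹ = f⁻¹ := fun f hf h1 =>
    inv_of_comm F hFodd hττ hzτ.symm hτF (fun f hf h1 h2 => hV f hf h2 h1) hf h1
  have cτzτ : τ * (z * τ) = z * τ * τ := by rw [← mul_assoc, ← hzτ]
  have i3 : ∀ f ∈ F, f * (z * τ) = z * τ * f → τ * f * τ⁻¹ = f⁻¹ := fun f hf h1 =>
    inv_of_comm F hFodd hττ cτzτ hτF (fun f hf h1 h2 => hV3 f hf h1 h2) hf h1
  -- members of `F`
  have m1 : x₁ ∈ F := (hFmem _).2 ⟨S.kx1, hodd3 _ S.h₁.x3⟩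
  have m2 : x₂ ∈ F := (hFmem _).2 ⟨S.kx2, hodd3 _ S.h₂.x3⟩
  have m3 : k ∈ F := (hFmem _).2 ⟨rfl, hodd3 _ S.k3⟩
  have m4 : k' ∈ F := (hFmem _).2 ⟨hkk'.symm, hodd3 _ p3⟩
  have m5 : k'' ∈ F := (hFmem _).2 ⟨hkk''.symm, hodd3 _ q3⟩
  have hkg : k = g * (x₁ ^ a * x₂ ^ b) * g⁻¹ := by rw [← hgk]; group
  have hxg : ∀ c d : ℤ, g * (x₁ ^ c * x₂ ^ d) * g⁻¹ ∈ F := by
    intro c d
    refine (hFmem _).2 ⟨?_, ?_⟩
    · have c1 : Commute (x₁ ^ c * x₂ ^ d) (x₁ ^ a * x₂ ^ b) :=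
        ThreeLocal.pGrp_comm (h := S.h₁.xy) ⟨c, d, rfl⟩ ⟨a, b, rfl⟩
      rw [hkg]
      calc g * (x₁ ^ c * x₂ ^ d) * g⁻¹ * (g * (x₁ ^ a * x₂ ^ b) * g⁻¹)
          = g * (x₁ ^ c * x₂ ^ d * (x₁ ^ a * x₂ ^ b)) * g⁻¹ := by group
        _ = g * (x₁ ^ a * x₂ ^ b) * g⁻¹ * (g * (x₁ ^ c * x₂ ^ d) * g⁻¹) := by rw [c1.eq]; group
    · apply hodd3
      rw [conj_pow, S.h₁.xy_cube]; group
  have hτg : ∀ w : G, w * z = z * w → g * w * g⁻¹ * τ = τ * (g * w * g⁻¹) := by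
    intro w hw
    rw [← hg]
    calc g * w * g⁻¹ * (g * z * g⁻¹) = g * (w * z) * g⁻¹ := by group
      _ = g * z * g⁻¹ * (g * w * g⁻¹) := by rw [hw]; group
  -- orders
  have hsub : ∀ A : Subgroup G, A ≤ F → Odd (Nat.card A) := fun A hA =>
    Odd.of_dvd_nat hFodd (Subgroup.card_dvd_of_le hA)
  have hcz9 : Nat.card (F ⊓ Subgroup.centralizer ({z} : Set G) : Subgroup G) ∣ 9 :=
    S.nine _ (fun f hf => mem_cent.1 hf.2) (hsub _ inf_le_left)
  have hcτ9 : Nat.card (F ⊓ Subgroup.centralizer ({τ} : Set G) : Subgroup G) ∣ 9 :=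
    S.nine_τ _ (fun f hf => mem_cent.1 hf.2) (hsub _ inf_le_left)
  have hczτ9 : Nat.card (F ⊓ Subgroup.centralizer ({z * τ} : Set G) : Subgroup G) ∣ 9 :=
    S.nine_zτ _ (fun f hf => mem_cent.1 hf.2) (hsub _ inf_le_left)
  have hPle : pGrp x₁ x₂ S.h₁.xy ≤ F ⊓ Subgroup.centralizer ({z} : Set G) := by
    rintro _ ⟨c, d, rfl⟩
    exact ⟨F.mul_mem (F.zpow_mem m1 c) (F.zpow_mem m2 d), mem_cent.2 (S.z_P c d).symm⟩
  have hPeq : pGrp x₁ x₂ S.h₁.xy = F ⊓ Subgroup.centralizer ({z} : Set G) := by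
    apply Subgroup.eq_of_le_of_card_ge hPle
    rw [S.card_P]
    exact Nat.le_of_dvd (by norm_num) hcz9
  have hcz : Nat.card (F ⊓ Subgroup.centralizer ({z} : Set G) : Subgroup G) = 9 := by
    rw [← hPeq, S.card_P]
  have hcτ : Nat.card (F ⊓ Subgroup.centralizer ({τ} : Set G) : Subgroup G) = 9 := by
    apply le_antisymm (Nat.le_of_dvd (by norm_num) hcτ9)
    have e : Nat.card ((pGrp x₁ x₂ S.h₁.xy).map (MulAut.conj g).toMonoidHom) = 9 := by
      rw [Subgroup.card_map_of_injective (MulAut.conj g).injective, S.card_P]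
    rw [← e]
    apply Subgroup.card_le_of_le
    rintro _ ⟨_, ⟨c, d, rfl⟩, rfl⟩
    exact ⟨hxg c d, mem_cent.2 (hτg _ (S.z_P c d).symm)⟩
  have hk'k'' : k'' ∉ Subgroup.zpowers k' := by
    rintro ⟨n, hn⟩
    have hn' : k' ^ n = k'' := hn
    apply q5
    rw [← hn']
    exact ((show Commute k' x₁ from core_comm p1).zpow_left n).eq
  have hczτ : Nat.card (F ⊓ Subgroup.centralizer ({z * τ} : Set G) : Subgroup G) = 9 := by
    have hlt : Subgroup.zpowers k' < F ⊓ Subgroup.centralizer ({z * τ} : Set G) := by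
      refine lt_of_le_of_ne ?_ ?_
      · rw [Subgroup.zpowers_le]
        exact ⟨m4, mem_cent.2 p2⟩
      · intro he
        apply hk'k''
        rw [he]
        exact ⟨m5, mem_cent.2 q2⟩
    have h3 : 3 < Nat.card (F ⊓ Subgroup.centralizer ({z * τ} : Set G) : Subgroup G) := by
      rw [← card_zpowers_three p3 p4]
      by_contra hle
      push Not at hle
      exact hlt.ne (Subgroup.eq_of_le_of_card_ge hlt.le hle)
    have h4 : Nat.card (F ⊓ Subgroup.centralizer ({z * τ} : Set G) : Subgroup G) ∈ Nat.divisors 9 :=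
      Nat.mem_divisors.2 ⟨hczτ9, by norm_num⟩
    have h5 : Nat.divisors 9 = {1, 3, 9} := by decide
    rw [h5] at h4
    simp only [Finset.mem_insert, Finset.mem_singleton] at h4
    omega
  have hcV : ∀ A : Subgroup G, A ≤ F → Nat.card (A ⊓ Subgroup.centralizer {z} ⊓ Subgroup.centralizer {τ} :
      Subgroup G) = 1 := by
    intro A hA
    rw [Subgroup.card_eq_one, eq_bot_iff]
    rintro f ⟨⟨h1, h2⟩, h3⟩
    exact hV f (hA h1) (mem_cent.1 h2) (mem_cent.1 h3)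
  have hcF : Nat.card F = 729 := by
    have h0 := Cfsg.Agent.Lib.KleinOrder.card_klein F hFodd hzz hττ hzτ hzF hτF
    rw [hcV F le_rfl, hcz, hcτ, hczτ, one_pow, mul_one] at h0
    rw [h0]
  -- the subgroup `U`
  set U := F ⊓ kGrp k x₁ ⊓ kGrp k x₂ with hU
  have hUF : U ≤ F := fun u hu => hu.1.1
  have kk1 : k * x₁ = x₁ * k := S.kx1.symm
  have kk2 : k * x₂ = x₂ * k := S.kx2.symm
  have zx1 : z * x₁ * z⁻¹ = x₁ := by rw [S.h₁.zx]; group
  have zx2 : z * x₂ * z⁻¹ = x₂ := by rw [S.h₂.zx]; group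
  have τk : τ * k * τ⁻¹ = k := by rw [← S.kτ]; group
  have hzU : ∀ u ∈ U, z * u * z⁻¹ ∈ U := by
    rintro u ⟨⟨h1, h2⟩, h3⟩
    exact ⟨⟨hzF u h1, kGrp_conj (Or.inr S.kz) (Or.inl zx1) kk1 h2⟩, kGrp_conj (Or.inr S.kz) (Or.inl zx2) kk2 h3⟩
  have hτU : ∀ u ∈ U, τ * u * τ⁻¹ ∈ U := by
    rintro u ⟨⟨h1, h2⟩, h3⟩
    exact ⟨⟨hτF u h1, kGrp_conj (Or.inl τk) (Or.inr S.h₁.τx) kk1 h2⟩,
      kGrp_conj (Or.inl τk) (Or.inr S.h₂.τx) kk2 h3⟩
  -- `U ∩ C(τ) = ⟨k⟩`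
  have hUτ : ∀ u ∈ U, u * τ = τ * u → u ∈ Subgroup.zpowers k := by
    rintro u ⟨⟨h1, h2⟩, h3⟩ huτ
    have key : ∀ x : G, u ∈ kGrp k x → x * k = k * x → τ * x * τ⁻¹ = x⁻¹ → u * x = x * u := by
      intro x hux hxk hτx
      obtain ⟨hx1, n, hn⟩ := kGrp_symm hux hxk
      exact (ThreeLocal.comm_of_mem_k S.k3 S.kτ.symm huτ.symm hτx hx1 n hn).eq
    have h4 := key x₁ h2 S.kx1 S.h₁.τx
    have h5 := key x₂ h3 S.kx2 S.h₂.τx
    have h6 := S.cent_P_odd h4 h5 ((hFmem u).1 h1).2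
    obtain ⟨c, hc⟩ := S.R_τ h6 (by rw [← huτ]; group)
    rw [hc]
    exact Subgroup.zpow_mem_zpowers k c
  have hkU : k ∈ U := by
    refine ⟨⟨m3, rfl, 0, ?_⟩, rfl, 0, ?_⟩
    · rw [← S.kx1]; group
    · rw [← S.kx2]; group
  have hPU : pGrp x₁ x₂ S.h₁.xy ≤ U := by
    have hx : ∀ x y : G, x * k = k * x → x * y = y * x → x ∈ kGrp k y := by
      intro x y hxk hxy
      exact ⟨hxk, 0, by rw [hxy]; group⟩
    rw [ThreeLocal.pGrp_eq, Subgroup.closure_le]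
    rintro x (rfl | rfl)
    · exact ⟨⟨m1, hx _ _ S.kx1 rfl⟩, hx _ _ S.kx1 S.h₁.xy⟩
    · exact ⟨⟨m2, hx _ _ S.kx2 S.h₁.xy.symm⟩, hx _ _ S.kx2 rfl⟩
  have hkp : ∀ u ∈ F, u * k = k * u := fun u hu => ((hFmem u).1 hu).1
  have hk'U : k' ∈ U := by
    refine ⟨⟨m4, hkk'.symm, 0, ?_⟩, hkk'.symm, c', hc'⟩
    rw [core_comm p1]; group
  have hk''U : k'' ∈ U := by
    refine ⟨⟨m5, hkk''.symm, c'', hc''⟩, hkk''.symm, 0, ?_⟩
    rw [core_comm q1]; group
  -- `F ∩ C(z τ) = ⟨k', k''⟩`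
  have hTeq : pGrp k' k'' hcc = F ⊓ Subgroup.centralizer ({z * τ} : Set G) := by
    apply Subgroup.eq_of_le_of_card_ge
    · rw [ThreeLocal.pGrp_eq, Subgroup.closure_le]
      rintro x (rfl | rfl)
      · exact ⟨m4, mem_cent.2 p2⟩
      · exact ⟨m5, mem_cent.2 q2⟩
    · rw [hczτ]
      calc 9 = Nat.card (Subgroup.zpowers k') * Nat.card (Subgroup.zpowers k'') := by
            rw [card_zpowers_three p3 p4, card_zpowers_three q3 q4]
        _ ≤ _ := mul_card_le _ _ _ (by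
            rw [Subgroup.zpowers_le]; exact ⟨1, 0, by simp⟩) (by
            rw [Subgroup.zpowers_le]; exact ⟨0, 1, by simp⟩) (by
            rintro _ ⟨n, rfl⟩ ⟨m, hm⟩
            have hm' : k'' ^ m = k' ^ n := hm
            rcases zpow_three_cases q3 m with h1 | h1 | h1
            · rw [h1] at hm'; exact hm'.symm
            · exact absurd ⟨n, by show k' ^ n = k''; rw [← hm', h1]⟩ hk'k''
            · exact absurd ⟨-n, by show k' ^ (-n) = k''; rw [zpow_neg, ← hm', h1, inv_inv]⟩ hk'k'')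
  have hTU : F ⊓ Subgroup.centralizer ({z * τ} : Set G) ≤ U := by
    rw [← hTeq, ThreeLocal.pGrp_eq, Subgroup.closure_le]
    rintro x (rfl | rfl)
    · exact hk'U
    · exact hk''U
  have hcU : Nat.card U = 243 := by
    have h0 := Cfsg.Agent.Lib.KleinOrder.card_klein U (hsub U hUF) hzz hττ hzτ hzU hτU
    have e1 : (U ⊓ Subgroup.centralizer ({z} : Set G) : Subgroup G) = F ⊓ Subgroup.centralizer ({z} : Set G) := by
      apply le_antisymm (inf_le_inf_right _ hUF)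
      rw [← hPeq]
      refine le_inf hPU ?_
      rw [hPeq]
      exact inf_le_right
    have e2 : (U ⊓ Subgroup.centralizer ({z * τ} : Set G) : Subgroup G) =
        F ⊓ Subgroup.centralizer ({z * τ} : Set G) := by
      apply le_antisymm (inf_le_inf_right _ hUF)
      exact le_inf hTU inf_le_right
    have e3 : (U ⊓ Subgroup.centralizer ({τ} : Set G) : Subgroup G) = Subgroup.zpowers k := by
      apply le_antisymm
      · rintro u ⟨h1, h2⟩
        exact hUτ u h1 (mem_cent.1 h2)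
      · rw [Subgroup.zpowers_le]
        exact ⟨hkU, mem_cent.2 S.kτ⟩
    rw [hcV U hUF, e1, e2, e3, hcz, hczτ, card_zpowers_three S.k3 S.kne, one_pow, mul_one] at h0
    rw [h0]
  -- generation of `U`
  have hgen : ∀ M : Subgroup G, x₁ ∈ M → x₂ ∈ M → k ∈ M → k' ∈ M → k'' ∈ M → U ≤ M := by
    intro M h1 h2 h3 h4 h5
    refine Cfsg.Agent.Lib.KleinGen.le_of_klein U M (hsub U hUF) z τ hzz hττ hzτ hzU hτU ?_ ?_ ?_
    · rintro u ⟨hu, huz⟩
      have : u ∈ pGrp x₁ x₂ S.h₁.xy := by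
        rw [hPeq]; exact ⟨hUF hu, huz⟩
      obtain ⟨c, d, rfl⟩ := this
      exact M.mul_mem (M.zpow_mem h1 c) (M.zpow_mem h2 d)
    · rintro u ⟨hu, huz⟩
      obtain ⟨n, rfl⟩ := hUτ u hu (mem_cent.1 huz)
      exact M.zpow_mem h3 n
    · rintro u ⟨hu, huz⟩
      have : u ∈ pGrp k' k'' hcc := by
        rw [hTeq]; exact ⟨hUF hu, huz⟩
      obtain ⟨c, d, rfl⟩ := this
      exact M.mul_mem (M.zpow_mem h4 c) (M.zpow_mem h5 d)
  have hself : ∀ x y : G, x * k = k * x → x * y = y * x → x ∈ kGrp k y := by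
    intro x y hxk hxy
    exact ⟨hxk, 0, by rw [hxy]; group⟩
  have hUk' : U ≤ kGrp k k' := by
    apply hgen
    · exact kGrp_symm hk'U.1.2 S.kx1
    · exact kGrp_symm hk'U.2 S.kx2
    · exact hself _ _ rfl hkk'
    · exact hself _ _ hkk'.symm rfl
    · exact hself _ _ hkk''.symm hcc.symm
  have hUk'' : U ≤ kGrp k k'' := by
    apply hgen
    · exact kGrp_symm hk''U.1.2 S.kx1
    · exact kGrp_symm hk''U.2 S.kx2
    · exact hself _ _ rfl hkk''
    · exact hself _ _ hkk'.symm hcc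
    · exact hself _ _ hkk''.symm rfl
  have hUU : ∀ v ∈ U, U ≤ kGrp k v := by
    intro v hv
    have hvk := hkp v (hUF hv)
    apply hgen
    · exact kGrp_symm hv.1.2 S.kx1
    · exact kGrp_symm hv.2 S.kx2
    · exact hself _ _ rfl hvk.symm
    · exact kGrp_symm (hUk' hv) hkk'.symm
    · exact kGrp_symm (hUk'' hv) hkk''.symm
  -- cubes
  let M3 : Subgroup G :=
    { carrier := {u | u ∈ U ∧ u ^ 3 = 1}
      one_mem' := ⟨U.one_mem, one_pow 3⟩
      mul_mem' := by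
        rintro u v ⟨hu, hu3⟩ ⟨hv, hv3⟩
        refine ⟨U.mul_mem hu hv, ?_⟩
        obtain ⟨-, n, hn⟩ := hUU u hu hv
        have cu : Commute u (k ^ n) := (show Commute u k from hkp u (hUF hu)).zpow_right n
        have cv : Commute v (k ^ n) := (show Commute v k from hkp v (hUF hv)).zpow_right n
        have e : v * u = u * v * k ^ n := by
          calc v * u = (v * u * v⁻¹) * v := by group
            _ = u * (k ^ n * v) := by rw [hn]; group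
            _ = u * v * k ^ n := by rw [← cv.eq]; group
        rw [mul_cube e cu cv (zpow_cube S.k3 n), hu3, hv3, mul_one]
      inv_mem' := by
        rintro u ⟨hu, hu3⟩
        exact ⟨U.inv_mem hu, by rw [inv_pow, hu3, inv_one]⟩ }
  have hx1U : x₁ ∈ U := hPU ⟨1, 0, by simp⟩
  have hx2U : x₂ ∈ U := hPU ⟨0, 1, by simp⟩
  have hU3 : U ≤ M3 := hgen M3 ⟨hx1U, S.h₁.x3⟩ ⟨hx2U, S.h₂.x3⟩ ⟨hkU, S.k3⟩ ⟨hk'U, p3⟩ ⟨hk''U, q3⟩
  -- the element `x° = g x₁ g⁻¹`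
  set xo := g * x₁ * g⁻¹ with hxo
  have hxoF : xo ∈ F := by
    have := hxg 1 0
    simpa using this
  have hxok := hkp xo hxoF
  have hxo3 : xo ^ 3 = 1 := by rw [hxo, conj_pow, S.h₁.x3]; group
  have hxoτ : xo * τ = τ * xo := hτg x₁ S.h₁.zx.symm
  have hxoz : z * xo * z⁻¹ = xo⁻¹ := i1 xo hxoF hxoτ
  have hnorU : ∀ u ∈ U, xo * u * xo⁻¹ ∈ U := by
    have hidx : (U.subgroupOf F).index = 3 := by
      have h1 := Subgroup.card_mul_index (U.subgroupOf F)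
      rw [Nat.card_congr (Subgroup.subgroupOfEquivOfLe hUF).toEquiv, hcU, hcF] at h1
      omega
    have hnor : (U.subgroupOf F).Normal := by
      apply Subgroup.normal_of_index_eq_minFac_card
      rw [hidx, hcF]
      norm_num
    intro u hu
    exact hnor.conj_mem ⟨u, hUF hu⟩ hu ⟨xo, hxoF⟩
  -- `C_U(x°)`
  set D := U ⊓ kGrp k xo with hD
  have hDU : D ≤ U := inf_le_left
  have hDle : D ≤ Subgroup.centralizer ({xo} : Set G) := by
    refine Cfsg.Agent.Lib.KleinGen.le_of_klein D _ (hsub D (hDU.trans hUF)) z τ hzz hττ hzτ ?_ ?_ ?_ ?_ ?_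
    · rintro d ⟨h1, h2⟩
      exact ⟨hzU d h1, kGrp_conj (Or.inr S.kz) (Or.inr hxoz) hxok.symm h2⟩
    · rintro d ⟨h1, h2⟩
      exact ⟨hτU d h1, kGrp_conj (Or.inl τk) (Or.inl (by rw [← hxoτ]; group)) hxok.symm h2⟩
    · rintro u ⟨⟨h1, h2, n, hn⟩, huz⟩
      have h3 := i2 u (hUF h1) (mem_cent.1 huz)
      exact mem_cent.2 (ThreeLocal.comm_of_mem_k S.k3 S.kτ.symm hxoτ.symm h3 h2 n hn).symm.eq
    · rintro u ⟨⟨h1, h2⟩, huz⟩
      obtain ⟨n, rfl⟩ := hUτ u h1 (mem_cent.1 huz)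
      exact mem_cent.2 ((show Commute k xo from hxok.symm).zpow_left n).eq
    · rintro u ⟨⟨h1, h2, n, hn⟩, huz⟩
      have h3 := i3 u (hUF h1) (mem_cent.1 huz)
      exact mem_cent.2 (ThreeLocal.comm_of_mem_k S.k3 S.kτ.symm hxoτ.symm h3 h2 n hn).symm.eq
  set N := S.R.map (MulAut.conj g).toMonoidHom with hN
  have hDN : D ≤ N := by
    intro u hu
    have hux : u * xo = xo * u := mem_cent.1 (hDle hu)
    have huk := hkp u (hUF (hDU hu))
    set w := g⁻¹ * u * g with hw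
    have hw1 : w * x₁ = x₁ * w := by
      calc w * x₁ = g⁻¹ * (u * xo) * g := by rw [hw, hxo]; group
        _ = x₁ * w := by rw [hux, hw, hxo]; group
    have hw2 : w * (x₁ ^ a * x₂ ^ b) = x₁ ^ a * x₂ ^ b * w := by
      rw [← hgk]
      calc w * (g⁻¹ * k * g) = g⁻¹ * (u * k) * g := by rw [hw]; group
        _ = g⁻¹ * k * g * w := by rw [huk, hw]; group
    have hw3 : w * x₂ = x₂ * w := by
      have c1 : Commute w (x₂ ^ b) := by
        have e : x₂ ^ b = (x₁ ^ a)⁻¹ * (x₁ ^ a * x₂ ^ b) := by group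
        rw [e]
        exact ((show Commute w x₁ from hw1).zpow_right a).inv_right.mul_right hw2
      rcases zpow_three_cases S.h₂.x3 b with h4 | h4 | h4
      · exact absurd h4 hb
      · rw [h4] at c1; exact c1.eq
      · rw [h4] at c1; simpa using c1.inv_right.eq
    have hwo : Odd (orderOf w) := by
      have := (MulAut.conj g⁻¹).orderOf_eq u
      simp only [MulAut.conj_apply, inv_inv] at this
      rw [hw, this]
      exact ((hFmem u).1 (hUF (hDU hu))).2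
    refine ⟨w, S.cent_P_odd hw1 hw3 hwo, ?_⟩
    show g * w * g⁻¹ = u
    rw [hw]; group
  have hcN : Nat.card N = 27 := by
    rw [hN, Subgroup.card_map_of_injective (MulAut.conj g).injective, S.card_R]
  have hxoN : xo ∈ N := ⟨x₁, S.x₁_R, rfl⟩
  have hxoU : xo ∉ U := by
    intro hx
    obtain ⟨n, hn⟩ := hUτ xo hx hxoτ
    have hn' : k ^ n = xo := hn
    have hxo1 : xo ≠ 1 := by
      intro h1
      apply S.h₁.x1
      calc x₁ = g⁻¹ * xo * g := by rw [hxo]; group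
        _ = 1 := by rw [h1]; group
    have hkx : ∃ m : ℤ, k = xo ^ m := by
      rcases zpow_three_cases S.k3 n with h1 | h1 | h1
      · rw [h1] at hn'; exact absurd hn'.symm hxo1
      · exact ⟨1, by rw [zpow_one, ← hn', h1]⟩
      · exact ⟨-1, by rw [zpow_neg, zpow_one, ← hn', h1, inv_inv]⟩
    obtain ⟨m, hm⟩ := hkx
    apply hb
    have e : x₁ ^ a * x₂ ^ b = x₁ ^ m := by
      rw [← hgk, hm, hxo, conj_zpow]; group
    exact (S.toTwo.inter (a := a - m) (b := b) (by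
      rw [sub_eq_add_neg, add_comm, zpow_add, mul_assoc, e, ← zpow_add, neg_add_cancel, zpow_zero])).2
  have hcD : Nat.card D ≤ 9 := by
    have h1 := Subgroup.card_dvd_of_le hDN
    rw [hcN] at h1
    have h2 : Nat.card D ≠ 27 := by
      intro h2
      have h3 : D = N := Subgroup.eq_of_le_of_card_ge hDN (by rw [hcN, h2])
      apply hxoU
      apply hDU
      rw [h3]
      exact hxoN
    have h3 : Nat.card D ∈ Nat.divisors 27 := Nat.mem_divisors.2 ⟨h1, by norm_num⟩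
    have h4 : Nat.divisors 27 = {1, 3, 9, 27} := by decide
    rw [h4] at h3
    simp only [Finset.mem_insert, Finset.mem_singleton] at h3
    omega
  have hmain := card_fix_mod U (Subgroup.zpowers k) D (by rw [Subgroup.zpowers_le]; exact hkU)
    (by
      rintro u hu _ ⟨n, rfl⟩
      refine ⟨n, ?_⟩
      show k ^ n = u * k ^ n * u⁻¹
      rw [((show Commute u k from hkp u (hUF hu)).zpow_right n).eq]; group)
    (by
      rintro u hu v hv
      obtain ⟨-, n, hn⟩ := hUU v hv hu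
      refine ⟨n, ?_⟩
      show k ^ n = u * v * u⁻¹ * v⁻¹
      have cv : Commute v (k ^ n) := (show Commute v k from hkp v (hUF hv)).zpow_right n
      rw [hn, cv.eq]; group)
    (by
      intro u hu
      exact ⟨0, by show k ^ (0 : ℤ) = u ^ 3; rw [zpow_zero, (hU3 hu).2]⟩)
    xo hxo3 hnorU
    (by
      rintro _ ⟨n, rfl⟩
      refine ⟨n, ?_⟩
      show k ^ n = xo * k ^ n * xo⁻¹
      rw [((show Commute xo k from hxok).zpow_right n).eq]; group)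
    (by
      rintro u hu ⟨n, hn⟩
      have hn' : k ^ n = xo * u * xo⁻¹ * u⁻¹ := hn
      refine ⟨hu, hkp u (hUF hu), -n, ?_⟩
      have cx : Commute xo (k ^ (-n)) := (show Commute xo k from hxok).zpow_right (-n)
      calc u * xo * u⁻¹ = (xo * u * xo⁻¹ * u⁻¹)⁻¹ * xo := by group
        _ = k ^ (-n) * xo := by rw [← hn', zpow_neg]
        _ = xo * k ^ (-n) := cx.eq.symm)
  rw [hcU, card_zpowers_three S.k3 S.kne] at hmain
  have h5 := Nat.pow_le_pow_left hcD 3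
  omega

end Cfsg.Agent.LargeExtra.W2.ThreeC
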