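import Cfsg.Agent.LargeExtra.W2.ThreeC

/-!
# 3-local analysis for `G₂(3)`: the dichotomy (S1759; helper865)

`dichotomy`: either `C_G(x₁), C_G(x₂) ≤ C_G(z)`, or `x₁` and `x₂` each commute with a full Sylow 3-subgroup
`h P h⁻¹` of `C_G(τ)` where `h ∈ N_G(⟨z, τ⟩)` maps `z` to `τ` (`nine_relation`).
-/

set_option autoImplicit false

namespace Cfsg.Agent.LargeExtra.W2.ThreeD

open Cfsg Cfsg.Agent.StandardComponent.CentCore ThreeA ThreeB ThreeC
open ThreeLocal (kGrp pGrp)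

variable {G : Type*} [Group G] [Finite G]

/-- existence of `k` -/
theorem exists_k {z τ x y : G} {Q : Subgroup G} (h : Half z τ x y Q) {m : ℕ}
    (hm : Nat.card (centralizerPPrimeCore 2 x) = 3 ^ m) (hy1 : y ≠ 1)
    (hne : ¬ centralizerPPrimeCore 2 x ≤ Subgroup.zpowers x) :
    ∃ k ∈ centralizerPPrimeCore 2 x, k ≠ 1 ∧ k * y = y * k ∧ (k * τ = τ * k ∨ k * (z * τ) = z * τ * k) := by
  have : Fact (Nat.Prime 3) := ⟨Nat.prime_three⟩
  -- `y^b ∈ K` implies `y^b ∈ ⟨x⟩`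
  have hyK : ∀ b : ℤ, y ^ b ∈ centralizerPPrimeCore 2 x → y ^ b ∈ Subgroup.zpowers x := fun b hb =>
    h.core_z hb (((show Commute z y from h.zy).zpow_right b).symm.eq)
  have hynot : y ∉ Subgroup.zpowers x := by
    rintro ⟨n, hn⟩
    have hn' : x ^ n = y := hn
    obtain ⟨q, hq, hne⟩ := h.ne
    apply hne
    rw [← hn']
    exact (h.x_zpow_comm hq n).symm
  have hyK1 : ∀ b : ℤ, y ^ b ∈ centralizerPPrimeCore 2 x → y ^ b = 1 := by
    intro b hb
    obtain ⟨n, hn⟩ := hyK b hb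
    have hn' : x ^ n = y ^ b := hn
    rcases zpow_three_cases h.y3 b with h1 | h1 | h1
    · exact h1
    · exact absurd ⟨n, by show x ^ n = y; rw [hn', h1]⟩ hynot
    · exact absurd ⟨-n, by show x ^ (-n) = y; rw [zpow_neg, hn', h1, inv_inv]⟩ hynot
  let T : Subgroup G :=
    { carrier := {t | ∃ u ∈ centralizerPPrimeCore 2 x, ∃ b : ℤ, t = u * y ^ b}
      one_mem' := ⟨1, Subgroup.one_mem _, 0, by simp⟩
      mul_mem' := by
        rintro _ _ ⟨u, hu, b, rfl⟩ ⟨u', hu', b', rfl⟩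
        have hx : y ^ b * x = x * y ^ b := ((show Commute y x from h.xy.symm).zpow_left b).eq
        refine ⟨u * (y ^ b * u' * (y ^ b)⁻¹), Subgroup.mul_mem _ hu (core_conj_mem hx hu'), b + b', ?_⟩
        rw [zpow_add]; group
      inv_mem' := by
        rintro _ ⟨u, hu, b, rfl⟩
        have hx : y ^ (-b) * x = x * y ^ (-b) := ((show Commute y x from h.xy.symm).zpow_left (-b)).eq
        refine ⟨y ^ (-b) * u⁻¹ * (y ^ (-b))⁻¹, core_conj_mem hx (Subgroup.inv_mem _ hu), -b, ?_⟩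
        group }
  have hcT : Nat.card T = 3 ^ (m + 1) := by
    apply le_antisymm
    · calc Nat.card T ≤ Nat.card (centralizerPPrimeCore 2 x) * Nat.card (Subgroup.zpowers y) :=
          card_le_mul _ _ _ (by
            rintro _ ⟨u, hu, b, rfl⟩
            exact ⟨u, hu, _, Subgroup.zpow_mem_zpowers y b, rfl⟩)
        _ = 3 ^ (m + 1) := by rw [hm, card_zpowers_three h.y3 hy1, pow_succ]
    · calc 3 ^ (m + 1) = Nat.card (centralizerPPrimeCore 2 x) * Nat.card (Subgroup.zpowers y) := by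
            rw [hm, card_zpowers_three h.y3 hy1, pow_succ]
        _ ≤ _ := mul_card_le _ _ _ (by intro u hu; exact ⟨u, hu, 0, by simp⟩) (by
            rw [Subgroup.zpowers_le]; exact ⟨1, Subgroup.one_mem _, 1, by simp⟩) (by
            rintro u hu ⟨b, hb⟩
            have hb' : y ^ b = u := hb
            rw [← hb'] at hu ⊢
            exact hyK1 b hu)
  have hT3 : IsPGroup 3 T := IsPGroup.of_card hcT
  have hPT : pGrp x y h.xy ≤ T := by
    rintro _ ⟨a, b, rfl⟩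
    exact ⟨x ^ a, Subgroup.zpow_mem _ h.x_mem a, b, rfl⟩
  -- `K ∩ P = ⟨x⟩`
  have hKP : ∀ u ∈ centralizerPPrimeCore 2 x, u ∈ pGrp x y h.xy → u ∈ Subgroup.zpowers x := by
    rintro _ hu ⟨a, b, rfl⟩
    have h1 : y ^ b ∈ centralizerPPrimeCore 2 x := by
      have e : y ^ b = (x ^ a)⁻¹ * (x ^ a * y ^ b) := by group
      rw [e]
      exact Subgroup.mul_mem _ (Subgroup.inv_mem _ (Subgroup.zpow_mem _ h.x_mem a)) hu
    rw [hyK1 b h1, mul_one]
    exact Subgroup.zpow_mem_zpowers x a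
  have hPne : pGrp x y h.xy ≠ T := by
    intro he
    apply hne
    intro u hu
    apply hKP u hu
    rw [he]
    exact ⟨u, hu, 0, by simp⟩
  obtain ⟨r, ⟨u, hu, b, rfl⟩, hr2, hr3⟩ := exists_normalizing hT3 hPT hPne
  have huP : u ∉ pGrp x y h.xy := by
    intro h1
    apply hr2
    exact (pGrp x y h.xy).mul_mem h1 ⟨0, b, by simp⟩
  have huy : u * y = y * u := by
    apply half_le_cent h hu
    obtain ⟨i, j, hij⟩ := hr3 y ⟨0, 1, by simp⟩
    have e1 : u * y * u⁻¹ = x ^ i * y ^ j := by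
      rw [← hij]
      have : Commute (y ^ b) y := (Commute.refl y).zpow_left b
      calc u * y * u⁻¹ = u * (y * y ^ b) * (y ^ b)⁻¹ * u⁻¹ := by group
        _ = u * y ^ b * y * (u * y ^ b)⁻¹ := by rw [← this.eq]; group
    have h1 : y ^ (j - 1) ∈ centralizerPPrimeCore 2 x := by
      have h2 : u * (y * u⁻¹ * y⁻¹) ∈ centralizerPPrimeCore 2 x :=
        Subgroup.mul_mem _ hu (core_conj_mem h.xy.symm (Subgroup.inv_mem _ hu))
      have e : y ^ (j - 1) = (x ^ i)⁻¹ * (u * (y * u⁻¹ * y⁻¹)) := by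
        have e2 : u * (y * u⁻¹ * y⁻¹) = x ^ i * y ^ j * y⁻¹ := by rw [← e1]; group
        rw [e2, zpow_sub, zpow_one]; group
      rw [e]
      exact Subgroup.mul_mem _ (Subgroup.inv_mem _ (Subgroup.zpow_mem _ h.x_mem i)) h2
    have h2 := hyK1 _ h1
    refine ⟨i, ?_⟩
    have e3 : y ^ j = y := by
      calc y ^ j = y ^ (j - 1) * y := by group
        _ = y := by rw [h2, one_mul]
    rw [e1, e3, ((show Commute y x from h.xy.symm).zpow_right i).eq]
  -- Klein generation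
  by_contra hcon
  push Not at hcon
  set E := centralizerPPrimeCore 2 x ⊓ Subgroup.centralizer ({y} : Set G) with hE
  have hEle : E ≤ Subgroup.zpowers x := by
    refine Cfsg.Agent.Lib.KleinGen.le_of_klein E _ (Odd.of_dvd_nat (core_odd x)
      (Subgroup.card_dvd_of_le inf_le_left)) z τ h.zz h.ττ h.zτ ?_ ?_ ?_ ?_ ?_
    · rintro e ⟨h1, h2⟩
      refine ⟨h.z_core h1, mem_cent.2 ?_⟩
      have c1 : Commute e y := mem_cent.1 h2
      have c2 : Commute z y := h.zy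
      exact ((c2.mul_left c1).mul_left c2.inv_left).eq
    · rintro e ⟨h1, h2⟩
      refine ⟨h.τ_core h1, mem_cent.2 ?_⟩
      have c1 : e * y = y * e := mem_cent.1 h2
      have c2 : Commute e y⁻¹ := (show Commute e y from c1).inv_right
      have e1 : τ⁻¹ * y * τ = y⁻¹ := by rw [h.τ_inv, ← h.τy, h.τ_inv]
      calc τ * e * τ⁻¹ * y = τ * (e * (τ⁻¹ * y * τ)) * τ⁻¹ := by group
        _ = τ * (τ⁻¹ * y * τ * e) * τ⁻¹ := by rw [e1, c2.eq]
        _ = y * (τ * e * τ⁻¹) := by group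
    · rintro e ⟨⟨h1, h2⟩, h3⟩
      exact h.core_z h1 (mem_cent.1 h3)
    · rintro e ⟨⟨h1, h2⟩, h3⟩
      have : e = 1 := by
        by_contra h4
        exact (hcon e h1 h4 (mem_cent.1 h2)).1 (mem_cent.1 h3)
      rw [this]; exact Subgroup.one_mem _
    · rintro e ⟨⟨h1, h2⟩, h3⟩
      have : e = 1 := by
        by_contra h4
        exact (hcon e h1 h4 (mem_cent.1 h2)).2 (mem_cent.1 h3)
      rw [this]; exact Subgroup.one_mem _
  apply huP
  obtain ⟨n, hn⟩ := hEle ⟨hu, mem_cent.2 huy⟩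
  have hn' : x ^ n = u := hn
  exact ⟨n, 0, by rw [← hn']; simp⟩

variable {z τ x₁ x₂ : G} {Q₁ Q₂ : Subgroup G}

theorem card_cases (h : Two z τ x₁ x₂ Q₁ Q₂) :
    Nat.card (centralizerPPrimeCore 2 x₁ ⊓ Subgroup.centralizer {τ} : Subgroup G) = 1 ∨
    Nat.card (centralizerPPrimeCore 2 x₁ ⊓ Subgroup.centralizer {τ} : Subgroup G) = 3 ∨
    Nat.card (centralizerPPrimeCore 2 x₁ ⊓ Subgroup.centralizer {τ} : Subgroup G) = 9 := by
  have hA9 := h.nine_τ (centralizerPPrimeCore 2 x₁ ⊓ Subgroup.centralizer {τ}) (fun a ha => mem_cent.1 ha.2)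
    (Odd.of_dvd_nat (core_odd x₁) (Subgroup.card_dvd_of_le inf_le_left))
  have h3 : Nat.card (centralizerPPrimeCore 2 x₁ ⊓ Subgroup.centralizer {τ} : Subgroup G) ∈ Nat.divisors 9 :=
    Nat.mem_divisors.2 ⟨hA9, by norm_num⟩
  have h4 : Nat.divisors 9 = {1, 3, 9} := by decide
  rw [h4] at h3
  simpa using h3

theorem not_three (h : Two z τ x₁ x₂ Q₁ Q₂) :
    Nat.card (centralizerPPrimeCore 2 x₁ ⊓ Subgroup.centralizer {τ} : Subgroup G) ≠ 3 := by
  intro h3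
  have hc := h.h₁.card_core
  rw [h3] at hc
  have hc27 : Nat.card (centralizerPPrimeCore 2 x₁) = 27 := by rw [hc]; norm_num
  obtain ⟨k, hk, hk1, hkx, hkτ⟩ := exists_k h.h₁ (m := 3) (by rw [hc27]; norm_num) h.h₂.x1 (by
    intro hle
    have := Subgroup.card_le_of_le hle
    rw [hc27, card_zpowers_three h.h₁.x3 h.h₁.x1] at this
    omega)
  rcases hkτ with hkτ | hkτ
  · exact Sit.false (k := k) ⟨h, hc27, hk, hk1, h.cube_of_τ hkτ (core_odd_order hk), hkτ, (core_comm hk).symm,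
      hkx.symm⟩
  · exact Sit.false (k := k) ⟨h.swap, hc27, hk, hk1, h.swap.cube_of_τ hkτ (core_odd_order hk), hkτ,
      (core_comm hk).symm, hkx.symm⟩

/-- `a = 1` for `x₁` and `a = 9` for `x₂` is impossible. -/
theorem not_one_nine (h : Two z τ x₁ x₂ Q₁ Q₂)
    (h1 : Nat.card (centralizerPPrimeCore 2 x₁ ⊓ Subgroup.centralizer {τ} : Subgroup G) = 1)
    (h9 : Nat.card (centralizerPPrimeCore 2 x₂ ⊓ Subgroup.centralizer {τ} : Subgroup G) = 9) : False := by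
  have hc := h.h₂.card_core
  rw [h9] at hc
  have hcz : ∀ g, g * x₁ = x₁ * g → g * z = z * g := fun g hg => h.h₁.comm_z_of_trivial (by
    intro k hk hkτ
    rw [Subgroup.card_eq_one, eq_bot_iff] at h1
    exact h1 ⟨hk, mem_cent.2 hkτ⟩) hg
  obtain ⟨k, hk, hk1, hkx, hkτ⟩ := exists_k h.h₂ (m := 5) (by rw [hc]; norm_num) h.h₁.x1 (by
    intro hle
    have := Subgroup.card_le_of_le hle
    rw [hc, card_zpowers_three h.h₂.x3 h.h₂.x1] at this
    omega)
  have hkz := hcz k hkx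
  have hkτ' : k * τ = τ * k := by
    rcases hkτ with hkτ | hkτ
    · exact hkτ
    · have c1 : Commute k z := hkz
      have c2 : Commute k (z * τ) := hkτ
      have : Commute k (z⁻¹ * (z * τ)) := c1.inv_right.mul_right c2
      rw [inv_mul_cancel_left] at this
      exact this.eq
  exact hk1 (h.h₂.core_zτ hk hkz hkτ')

/-- **Dichotomy.** -/
theorem dichotomy (h : Two z τ x₁ x₂ Q₁ Q₂) :
    ((∀ g, g * x₁ = x₁ * g → g * z = z * g) ∧ (∀ g, g * x₂ = x₂ * g → g * z = z * g)) ∨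
    (Nat.card (centralizerPPrimeCore 2 x₁ ⊓ Subgroup.centralizer {τ} : Subgroup G) = 9 ∧
      Nat.card (centralizerPPrimeCore 2 x₂ ⊓ Subgroup.centralizer {τ} : Subgroup G) = 9) := by
  have t1 := not_three h
  have t2 := not_three h.symm
  have hone : ∀ {z τ x₁ x₂ : G} {Q₁ Q₂ : Subgroup G} (h : Two z τ x₁ x₂ Q₁ Q₂),
      Nat.card (centralizerPPrimeCore 2 x₁ ⊓ Subgroup.centralizer {τ} : Subgroup G) = 1 →
      ∀ g, g * x₁ = x₁ * g → g * z = z * g := by
    intro z τ x₁ x₂ Q₁ Q₂ h h1 g hg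
    apply h.h₁.comm_z_of_trivial _ hg
    intro k hk hkτ
    rw [Subgroup.card_eq_one, eq_bot_iff] at h1
    exact h1 ⟨hk, mem_cent.2 hkτ⟩
  rcases card_cases h with c1 | c1 | c1
  · rcases card_cases h.symm with c2 | c2 | c2
    · exact Or.inl ⟨hone h c1, hone h.symm c2⟩
    · exact absurd c2 t2
    · exact (not_one_nine h c1 c2).elim
  · exact absurd c1 t1
  · rcases card_cases h.symm with c2 | c2 | c2
    · exact (not_one_nine h.symm c2 c1).elim
    · exact absurd c2 t2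
    · exact Or.inr ⟨c1, c2⟩

/-- Two subgroups of order `9` of `C_G(z)` are conjugate in `C_G(z)`. -/
theorem exists_conj_nine (h : Two z τ x₁ x₂ Q₁ Q₂) (A : Subgroup G) (hAz : ∀ a ∈ A, a * z = z * a)
    (hA : Nat.card A = 9) : ∃ c, c * z = z * c ∧ (pGrp x₁ x₂ h.h₁.xy).map (MulAut.conj c).toMonoidHom = A := by
  have : Fact (Nat.Prime 3) := ⟨Nat.prime_three⟩
  set C := Subgroup.centralizer ({z} : Set G) with hC
  -- every subgroup of order 9 of `C` is a Sylow subgroup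
  have key : ∀ B : Subgroup G, (∀ b ∈ B, b * z = z * b) → Nat.card B = 9 → ∃ S : Sylow 3 C,
      ∀ s : C, s ∈ S ↔ (s : G) ∈ B := by
    intro B hBz hB
    have hBC : B ≤ C := fun b hb => mem_cent.2 (hBz b hb)
    have hcB : Nat.card (B.subgroupOf C) = 3 ^ 2 := by
      rw [Nat.card_congr (Subgroup.subgroupOfEquivOfLe hBC).toEquiv, hB]; norm_num
    obtain ⟨S, hS⟩ := (IsPGroup.of_card hcB).exists_le_sylow
    refine ⟨S, ?_⟩
    obtain ⟨n, hn⟩ := IsPGroup.iff_card.1 S.isPGroup'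
    have h9 : Nat.card ((S : Subgroup C).map C.subtype) ∣ 9 := by
      refine h.nine _ ?_ ?_
      · rintro _ ⟨s, -, rfl⟩
        exact mem_cent.1 s.2
      · rw [Subgroup.card_map_of_injective (Subgroup.subtype_injective _)]
        show Odd (Nat.card S)
        rw [hn]
        exact Odd.pow (by decide)
    rw [Subgroup.card_map_of_injective (Subgroup.subtype_injective _)] at h9
    have heq : B.subgroupOf C = (S : Subgroup C) := by
      apply Subgroup.eq_of_le_of_card_ge hS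
      rw [hcB]
      exact Nat.le_of_dvd (by norm_num) h9
    intro s
    show s ∈ (S : Subgroup C) ↔ _
    rw [← heq, Subgroup.mem_subgroupOf]
  obtain ⟨S₁, hS₁⟩ := key (pGrp x₁ x₂ h.h₁.xy) (by
    rintro _ ⟨a, b, rfl⟩
    exact (Commute.mul_right ((show Commute z x₁ from h.h₁.zx).zpow_right a)
      ((show Commute z x₂ from h.h₂.zx).zpow_right b)).symm.eq) h.card_P
  obtain ⟨S₂, hS₂⟩ := key A hAz hA
  obtain ⟨c, hc⟩ := MulAction.exists_smul_eq C S₁ S₂
  refine ⟨c, mem_cent.1 c.2, ?_⟩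
  apply Subgroup.eq_of_le_of_card_ge
  · rintro _ ⟨p, hp, rfl⟩
    have hpC : p ∈ C := by
      obtain ⟨a, b, rfl⟩ := hp
      exact mem_cent.2 (Commute.mul_right ((show Commute z x₁ from h.h₁.zx).zpow_right a)
        ((show Commute z x₂ from h.h₂.zx).zpow_right b)).symm.eq
    have h1 : (⟨p, hpC⟩ : C) ∈ S₁ := (hS₁ _).2 hp
    have h2 : c * ⟨p, hpC⟩ * c⁻¹ ∈ (c • S₁ : Sylow 3 C) :=
      Subgroup.smul_mem_pointwise_smul (⟨p, hpC⟩ : C) (MulAut.conj c) (S₁ : Subgroup C) h1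
    rw [hc] at h2
    exact (hS₂ _).1 h2
  · rw [Subgroup.card_map_of_injective (MulAut.conj (c : G)).injective, h.card_P, hA]

/-- **The relation**: `a = 9`: `x₁` commutes with `h P h⁻¹ = C_K(τ)`, `h ∈ N_G(⟨z, τ⟩)`, `h : z ↦ τ`. -/
theorem nine_relation (h : Two z τ x₁ x₂ Q₁ Q₂)
    (h9 : Nat.card (centralizerPPrimeCore 2 x₁ ⊓ Subgroup.centralizer {τ} : Subgroup G) = 9) :
    ∃ g, g * z * g⁻¹ = τ ∧ (g * τ * g⁻¹ = z ∨ g * τ * g⁻¹ = z * τ) ∧
      x₁ * (g * x₁ * g⁻¹) = g * x₁ * g⁻¹ * x₁ ∧ x₁ * (g * x₂ * g⁻¹) = g * x₂ * g⁻¹ * x₁ := by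
  obtain ⟨g₀, hg₀, -⟩ := h.fuse
  set A := (centralizerPPrimeCore 2 x₁ ⊓ Subgroup.centralizer {τ} : Subgroup G) with hA
  obtain ⟨c, hcz, hc⟩ := exists_conj_nine h (A.map (MulAut.conj g₀⁻¹).toMonoidHom) (by
    rintro _ ⟨a, ha, rfl⟩
    have hk := mem_cent.1 ha.2
    rw [← hg₀] at hk
    show g₀⁻¹ * a * g₀⁻¹⁻¹ * z = z * (g₀⁻¹ * a * g₀⁻¹⁻¹)
    rw [inv_inv]
    calc g₀⁻¹ * a * g₀ * z = g₀⁻¹ * (a * (g₀ * z * g₀⁻¹)) * g₀ := by group
      _ = z * (g₀⁻¹ * a * g₀) := by rw [hk]; group) (by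
    rw [Subgroup.card_map_of_injective (MulAut.conj g₀⁻¹).injective, h9])
  set l := g₀ * c with hl
  have hlz : l * z * l⁻¹ = τ := by
    calc l * z * l⁻¹ = g₀ * (c * z) * c⁻¹ * g₀⁻¹ := by rw [hl]; group
      _ = τ := by rw [hcz, ← hg₀]; group
  -- `l P l⁻¹ = A`
  have hlP : ∀ p ∈ pGrp x₁ x₂ h.h₁.xy, l * p * l⁻¹ ∈ A := by
    intro p hp
    have h1 : c * p * c⁻¹ ∈ A.map (MulAut.conj g₀⁻¹).toMonoidHom := by
      rw [← hc]
      exact ⟨p, hp, rfl⟩
    obtain ⟨a, ha, hac⟩ := h1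
    have hac' : g₀⁻¹ * a * g₀⁻¹⁻¹ = c * p * c⁻¹ := hac
    have : l * p * l⁻¹ = a := by
      calc l * p * l⁻¹ = g₀ * (c * p * c⁻¹) * g₀⁻¹ := by rw [hl]; group
        _ = a := by rw [← hac']; group
    rw [this]
    exact ha
  have hp1 : x₁ ∈ pGrp x₁ x₂ h.h₁.xy := ⟨1, 0, by simp⟩
  have hp2 : x₂ ∈ pGrp x₁ x₂ h.h₁.xy := ⟨0, 1, by simp⟩
  -- `w = l⁻¹ z l` inverts `P` and commutes with `z`
  set w := l⁻¹ * z * l with hw
  have hwP : ∀ p ∈ pGrp x₁ x₂ h.h₁.xy, w * p * w⁻¹ = p⁻¹ := by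
    intro p hp
    obtain ⟨h1, h2⟩ := hlP p hp
    have h3 := h.h₁.inv_of_τ h1 (mem_cent.1 h2)
    calc w * p * w⁻¹ = l⁻¹ * (z * (l * p * l⁻¹) * z⁻¹) * l := by rw [hw]; group
      _ = p⁻¹ := by rw [h3]; group
  have hwz : w * z = z * w := by
    have e : l⁻¹ * τ * l = z := by rw [← hlz]; group
    calc w * z = l⁻¹ * (z * τ) * l := by rw [hw]; nth_rewrite 2 [← e]; group
      _ = l⁻¹ * (τ * z) * l := by rw [h.h₁.zτ]
      _ = (l⁻¹ * τ * l) * w := by rw [hw]; group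
      _ = z * w := by rw [e]
  obtain ⟨a, b, hab⟩ := h.nor w hwz ⟨-1, 0, by rw [hwP _ hp1]; simp⟩ ⟨0, -1, by rw [hwP _ hp2]; simp⟩
  set p := x₁ ^ a * x₂ ^ b with hp
  have hpP : p ∈ pGrp x₁ x₂ h.h₁.xy := ⟨a, b, rfl⟩
  have hp3 : p ^ 3 = 1 := h.h₁.xy_cube a b
  have hpz : Commute p z := (Commute.mul_right ((show Commute z x₁ from h.h₁.zx).zpow_right a)
      ((show Commute z x₂ from h.h₂.zx).zpow_right b)).symm
  have hpx : Commute p x₁ := ThreeLocal.pGrp_comm hpP hp1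
  have hxne : x₁⁻¹ ≠ x₁ := by
    intro he
    apply h.h₁.x1
    apply eq_one_of_sq_cube _ h.h₁.x3
    nth_rewrite 1 [← he]
    group
  have hmm : (p * p) * (p * p) = p := by
    have : p * p * (p * p) = p ^ 3 * p := by rw [pow_succ, pow_two]; group
    rw [this, hp3, one_mul]
  have hτp : τ * (p * p)⁻¹ * τ⁻¹ = p * p := by
    have h1 : τ * p * τ⁻¹ = p⁻¹ := by
      calc τ * p * τ⁻¹ = (τ * x₁ ^ a * τ⁻¹) * (τ * x₂ ^ b * τ⁻¹) := by rw [hp]; group
        _ = (x₁ ^ a)⁻¹ * (x₂ ^ b)⁻¹ := by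
          rw [← conj_zpow, ← conj_zpow, h.h₁.τx, h.h₂.τx, inv_zpow, inv_zpow]
        _ = (x₂ ^ b * x₁ ^ a)⁻¹ := by group
        _ = p⁻¹ := by rw [hp, h.h₁.xy_zpow]
    calc τ * (p * p)⁻¹ * τ⁻¹ = (τ * p * τ⁻¹)⁻¹ * (τ * p * τ⁻¹)⁻¹ := by group
      _ = p * p := by rw [h1, inv_inv]
  -- `w = m v m⁻¹`, `m = p²`, `v ∈ {τ, z τ}`
  have hv : ∃ v, (v = τ ∨ v = z * τ) ∧ w = (p * p) * v * (p * p)⁻¹ := by
    have cz : Commute z (p * p) := (hpz.mul_left hpz).symm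
    have e1 : (p * p) * τ * (p * p)⁻¹ = p * τ := by
      calc (p * p) * τ * (p * p)⁻¹ = (p * p) * (τ * (p * p)⁻¹ * τ⁻¹) * τ := by group
        _ = p * τ := by rw [hτp, hmm]
    rcases hab with hab | hab | hab | hab
    · exfalso
      have h1 := hwP _ hp1
      rw [hab, hpx.eq, mul_inv_cancel_right] at h1
      exact hxne h1.symm
    · exfalso
      have h1 := hwP _ hp1
      have c1 : Commute (p * z) x₁ := hpx.mul_left (show Commute z x₁ from h.h₁.zx)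
      rw [hab, c1.eq, mul_inv_cancel_right] at h1
      exact hxne h1.symm
    · exact ⟨τ, Or.inl rfl, by rw [hab, e1]⟩
    · refine ⟨z * τ, Or.inr rfl, ?_⟩
      calc w = p * (z * τ) := hab
        _ = z * (p * τ) := by rw [← mul_assoc, hpz.eq, mul_assoc]
        _ = z * ((p * p) * τ * (p * p)⁻¹) := by rw [e1]
        _ = (z * (p * p)) * τ * (p * p)⁻¹ := by group
        _ = (p * p) * (z * τ) * (p * p)⁻¹ := by rw [cz.eq]; group
  obtain ⟨v, hv1, hv2⟩ := hv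
  refine ⟨l * (p * p), ?_, ?_, ?_, ?_⟩
  · have cz : Commute (p * p) z := hpz.mul_left hpz
    calc l * (p * p) * z * (l * (p * p))⁻¹ = l * ((p * p) * z) * (p * p)⁻¹ * l⁻¹ := by group
      _ = l * z * l⁻¹ := by rw [cz.eq]; group
      _ = τ := hlz
  · have h1 : l * (p * p) * v * (l * (p * p))⁻¹ = z := by
      calc l * (p * p) * v * (l * (p * p))⁻¹ = l * ((p * p) * v * (p * p)⁻¹) * l⁻¹ := by group
        _ = z := by rw [← hv2, hw]; group
    rcases hv1 with rfl | rfl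
    · exact Or.inl h1
    · right
      have h2 : l * (p * p) * z * (l * (p * p))⁻¹ = τ := by
        have cz : Commute (p * p) z := hpz.mul_left hpz
        calc l * (p * p) * z * (l * (p * p))⁻¹ = l * ((p * p) * z) * (p * p)⁻¹ * l⁻¹ := by group
          _ = l * z * l⁻¹ := by rw [cz.eq]; group
          _ = τ := hlz
      have e : τ = z * (z * τ) := by rw [← mul_assoc, h.h₁.zz, one_mul]
      calc l * (p * p) * τ * (l * (p * p))⁻¹
          = (l * (p * p) * z * (l * (p * p))⁻¹) * (l * (p * p) * (z * τ) * (l * (p * p))⁻¹) := by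
            nth_rewrite 1 [e]; group
        _ = τ * z := by rw [h1, h2]
        _ = z * τ := h.h₁.zτ.symm
  · have h1 : l * (p * p) * x₁ * (l * (p * p))⁻¹ ∈ A := by
      have := hlP x₁ hp1
      have e : l * (p * p) * x₁ * (l * (p * p))⁻¹ = l * x₁ * l⁻¹ := by
        have c1 : Commute (p * p) x₁ := hpx.mul_left hpx
        calc l * (p * p) * x₁ * (l * (p * p))⁻¹ = l * ((p * p) * x₁) * (p * p)⁻¹ * l⁻¹ := by group
          _ = l * x₁ * l⁻¹ := by rw [c1.eq]; group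
      rwa [e]
    exact (core_comm h1.1).symm
  · have h1 : l * (p * p) * x₂ * (l * (p * p))⁻¹ ∈ A := by
      have := hlP x₂ hp2
      have e : l * (p * p) * x₂ * (l * (p * p))⁻¹ = l * x₂ * l⁻¹ := by
        have c0 : Commute p x₂ := ThreeLocal.pGrp_comm hpP hp2
        have c1 : Commute (p * p) x₂ := c0.mul_left c0
        calc l * (p * p) * x₂ * (l * (p * p))⁻¹ = l * ((p * p) * x₂) * (p * p)⁻¹ * l⁻¹ := by group
          _ = l * x₂ * l⁻¹ := by rw [c1.eq]; group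
      rwa [e]
    exact (core_comm h1.1).symm

end Cfsg.Agent.LargeExtra.W2.ThreeD
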