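import Mathlib

/-!
# `W = S₃ wr 2` and its subgroups (S1759, type `+`)

`(g, h, b)`: `b = false` acts by `g` on the first, `h` on the second block of `Fin 3 ⊕ Fin 3`; `b = true`: the same
after the swap of the blocks.
-/

set_option autoImplicit false

namespace Cfsg.Agent.LargeExtra.W2

/-- `S₃` acting on `Fin 3`: `x ↦ r ± x` -/
structure S3 where
  r : Fin 3
  f : Bool
deriving DecidableEq, Fintype

namespace S3

def app (a : S3) (x : Fin 3) : Fin 3 := if a.f then a.r - x else a.r + x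

instance : Mul S3 := ⟨fun a b => ⟨a.app b.r, a.f ^^ b.f⟩⟩
instance : One S3 := ⟨⟨0, false⟩⟩
instance : Inv S3 := ⟨fun a => ⟨if a.f then a.r else -a.r, a.f⟩⟩

instance : Group S3 where
  mul_assoc := by decide +kernel
  one_mul := by decide +kernel
  mul_one := by decide +kernel
  inv_mul_cancel := by decide +kernel

theorem app_mul : ∀ (a b : S3) (x : Fin 3), (a * b).app x = a.app (b.app x) := by decide +kernel

theorem app_one : ∀ x : Fin 3, (1 : S3).app x = x := by decide +kernel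

end S3

/-- `S₃ wr 2` -/
structure Wr where
  fg : S3
  sg : S3
  bg : Bool
deriving DecidableEq, Fintype

namespace Wr

instance : Mul Wr := ⟨fun a b => if a.bg then mk (a.fg * b.sg) (a.sg * b.fg) (!b.bg) else
  mk (a.fg * b.fg) (a.sg * b.sg) b.bg⟩
instance : One Wr := ⟨mk 1 1 false⟩
instance : Inv Wr := ⟨fun a => if a.bg then mk a.sg⁻¹ a.fg⁻¹ true else mk a.fg⁻¹ a.sg⁻¹ false⟩

theorem mul_def (a b : Wr) : a * b = if a.bg then mk (a.fg * b.sg) (a.sg * b.fg) (!b.bg) else
  mk (a.fg * b.fg) (a.sg * b.sg) b.bg := rfl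

instance : Group Wr where
  mul_assoc := by
    rintro ⟨a1, a2, a3⟩ ⟨b1, b2, b3⟩ ⟨c1, c2, c3⟩
    cases a3 <;> cases b3 <;> cases c3 <;>
    simp [mul_def, mul_assoc]
  one_mul := by
    rintro ⟨a1, a2, a3⟩
    show mk (1 * a1) (1 * a2) a3 = _
    simp
  mul_one := by
    rintro ⟨a1, a2, a3⟩
    cases a3
    · show mk (a1 * 1) (a2 * 1) false = _
      simp
    · show mk (a1 * 1) (a2 * 1) (!false) = _
      simp
  inv_mul_cancel := by
    rintro ⟨a1, a2, a3⟩
    cases a3
    · show mk (a1⁻¹ * a1) (a2⁻¹ * a2) false = mk 1 1 false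
      simp
    · show mk (a2⁻¹ * a2) (a1⁻¹ * a1) (!true) = mk 1 1 false
      simp

/-- parity -/
def od (g : S3) : Bool := g.f

theorem od_mul (g h : S3) : od (g * h) = (od g ^^ od h) := rfl

theorem od_inv (g : S3) : od g⁻¹ = od g := rfl

/-- reflections -/
def isR (a : Wr) : Bool := !a.bg && ((decide (a.fg = 1) && od a.sg) || (decide (a.sg = 1) && od a.fg))

/-- the action on the six points -/
def app (a : Wr) (p : Fin 3 ⊕ Fin 3) : Fin 3 ⊕ Fin 3 :=
  match a.bg, p with
  | false, Sum.inl x => Sum.inl (a.fg.app x)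
  | false, Sum.inr x => Sum.inr (a.sg.app x)
  | true, Sum.inl x => Sum.inr (a.sg.app x)
  | true, Sum.inr x => Sum.inl (a.fg.app x)

theorem app_mul (a b : Wr) (p : Fin 3 ⊕ Fin 3) : app (a * b) p = app a (app b p) := by
  obtain ⟨a1, a2, a3⟩ := a
  obtain ⟨b1, b2, b3⟩ := b
  cases a3 <;> cases b3 <;> cases p <;>
    first
    | exact congrArg Sum.inl (S3.app_mul _ _ _)
    | exact congrArg Sum.inr (S3.app_mul _ _ _)

theorem app_one (p : Fin 3 ⊕ Fin 3) : app 1 p = p := by
  cases p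
  · exact congrArg Sum.inl (S3.app_one _)
  · exact congrArg Sum.inr (S3.app_one _)

/-- as a permutation -/
def toPerm : Wr →* Equiv.Perm (Fin 3 ⊕ Fin 3) where
  toFun a :=
    { toFun := app a
      invFun := app a⁻¹
      left_inv := fun p => by rw [← app_mul, inv_mul_cancel, app_one]
      right_inv := fun p => by rw [← app_mul, mul_inv_cancel, app_one] }
  map_one' := Equiv.ext fun p => app_one p
  map_mul' a b := Equiv.ext fun p => app_mul a b p

theorem toPerm_apply (a : Wr) (p : Fin 3 ⊕ Fin 3) : toPerm a p = app a p := rfl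

theorem toPerm_injective : Function.Injective toPerm := by
  intro a b hab
  obtain ⟨a1, a2, a3⟩ := a
  obtain ⟨b1, b2, b3⟩ := b
  have h : ∀ p, app ⟨a1, a2, a3⟩ p = app ⟨b1, b2, b3⟩ p := fun p => by
    rw [← toPerm_apply, ← toPerm_apply]; exact congrArg (fun f : Equiv.Perm _ => f p) hab
  have h3 : a3 = b3 := by
    have := h (Sum.inl 0)
    cases a3 <;> cases b3 <;> first | rfl | (exact absurd this (by simp [app]))
  subst h3
  have hext : ∀ a b : S3, (∀ x, a.app x = b.app x) → a = b := by decide +kernel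
  have h1 : a1 = b1 := by
    refine hext _ _ fun x => ?_
    cases a3
    · exact Sum.inl.inj (h (Sum.inl x))
    · exact Sum.inl.inj (h (Sum.inr x))
  have h2 : a2 = b2 := by
    refine hext _ _ fun x => ?_
    cases a3
    · exact Sum.inr.inj (h (Sum.inr x))
    · exact Sum.inr.inj (h (Sum.inl x))
  rw [h1, h2]

def rho : S3 := ⟨1, false⟩
def tau : S3 := ⟨1, true⟩

def X1 : Wr := mk rho 1 false
def X2 : Wr := mk 1 rho false
def Vv : Wr := mk rho rho false
def Ww : Wr := mk rho rho⁻¹ false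
def Yy : Wr := mk tau tau false
def Ss : Wr := mk 1 1 true
def T2 : Wr := mk 1 tau false

/-- the six possible groups -/
inductive Shape
  | F1 | F2 | a9 | c9 | aa | f4

/-- membership in the six groups -/
def D : Shape → Wr → Bool
  | .F1, a => !od a.fg && decide (a.sg = a.fg⁻¹)
  | .F2, a => !a.bg && decide (a.fg = a.sg)
  | .a9, a => !od a.fg && !od a.sg
  | .c9, a => !a.bg && (od a.fg == od a.sg)
  | .aa, a => od a.fg == od a.sg
  | .f4, a => (od a.fg == od a.sg) == !a.bg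

/-- hypotheses on `C / Q ≤ S₃ wr 2` -/
structure Hyp (H : Subgroup Wr) : Prop where
  R : ∀ a ∈ H, isR a = false
  O : ∀ u ∈ H, u * u = 1 → (∀ a ∈ H, a * u * a⁻¹ = u) → u = 1
  two : ¬ ∀ a ∈ H, a ^ 4 = 1
  ev : ∃ a ∈ H, a ≠ 1 ∧ a * a = 1
  fix : ∀ p : Fin 3 ⊕ Fin 3, ∃ a ∈ H, app a p ≠ p

set_option maxRecDepth 100000 in
theorem isR_conj : ∀ a s : Wr, isR (s * a * s⁻¹) = isR a := by decide +kernel

theorem Hyp.conj {H : Subgroup Wr} (h : Hyp H) (s : Wr) :
    Hyp (H.map (MulAut.conj s).toMonoidHom) := by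
  refine ⟨?_, ?_, ?_, ?_, ?_⟩
  · rintro _ ⟨a, ha, rfl⟩
    show isR (s * a * s⁻¹) = false
    rw [isR_conj]; exact h.R a ha
  · rintro _ ⟨u, hu, rfl⟩ h1 h2
    have e : ∀ x : Wr, (MulAut.conj s).toMonoidHom x = s * x * s⁻¹ := fun _ => rfl
    rw [e] at h1 h2 ⊢
    have h3 : u = 1 := by
      refine h.O u hu ?_ ?_
      · have : s * (u * u) * s⁻¹ = 1 := by rw [← h1]; group
        have h4 : u * u = s⁻¹ * (s * (u * u) * s⁻¹) * s := by group
        rw [h4, this]; group
      · intro a ha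
        have h5 := h2 _ ⟨a, ha, rfl⟩
        rw [e] at h5
        have h4 : a * u * a⁻¹ = s⁻¹ * ((s * a * s⁻¹) * (s * u * s⁻¹) * (s * a * s⁻¹)⁻¹) * s := by group
        rw [h4, h5]; group
    rw [h3]; group
  · intro hcon
    apply h.two
    intro a ha
    have := hcon _ ⟨a, ha, rfl⟩
    have e : (MulAut.conj s).toMonoidHom a = s * a * s⁻¹ := rfl
    rw [e, conj_pow] at this
    have h4 : a ^ 4 = s⁻¹ * (s * a ^ 4 * s⁻¹) * s := by group
    rw [h4, this]; group
  · obtain ⟨a, ha, h1, h2⟩ := h.ev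
    refine ⟨_, ⟨a, ha, rfl⟩, ?_, ?_⟩
    · show s * a * s⁻¹ ≠ 1
      intro h3
      apply h1
      rw [mul_inv_eq_one] at h3
      exact mul_eq_left.1 h3
    · show s * a * s⁻¹ * (s * a * s⁻¹) = 1
      have : s * a * s⁻¹ * (s * a * s⁻¹) = s * (a * a) * s⁻¹ := by group
      rw [this, h2]; group
  · intro p
    obtain ⟨a, ha, h1⟩ := h.fix (app s⁻¹ p)
    refine ⟨_, ⟨a, ha, rfl⟩, ?_⟩
    show app (s * a * s⁻¹) p ≠ p
    rw [app_mul, app_mul]
    intro h2
    apply h1
    have h3 := congrArg (app s⁻¹) h2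
    rw [← app_mul, inv_mul_cancel, app_one] at h3
    exact h3

end Wr

end Cfsg.Agent.LargeExtra.W2
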